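import Cfsg.Agent.Lib.Fusion.Wedge.GroupTools
import Cfsg.Agent.Lib.Fusion.FamilySaturation.Inner
import Cfsg.Agent.Lib.Fusion.PrimeResidual.Main
import Cfsg.Agent.Lib.Fusion.CoreCent.Stab

/-!
Anchors: subgroups `W` of `N_S(U)` containing the fully normalised subgroup `U` and preserved by every map
between subgroups of `N_S(U)` fixing `U`.  Their automisers stabilising `U` are fully automised by `N_S(U)`.
-/

set_option autoImplicit false
set_option linter.unusedSectionVars false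
set_option linter.style.haveILetI false

namespace Cfsg.FusionSystem.Wedge

open Cfsg.FusionSystem.Family (stabIn restrictTo restrictTo_apply)

universe u

variable {Ω : Type u} [Group Ω] {S T : Subgroup Ω} {F : FusionSystem S}
  {U W X Q R : Subgroup Ω} {f g : Ω → Ω} {p : ℕ}

/-- `W` is an anchor over the fully normalised `U`. -/
structure Anchor (F : FusionSystem S) (U W : Subgroup Ω) : Prop where
  norm : F.IsFullyNormalized U
  le : U ≤ W
  leN : W ≤ normalizerIn S U
  invariant : ∀ {R R' : Subgroup Ω} {g : Ω → Ω}, F.IsIso R R' g → W ≤ R → R' ≤ normalizerIn S U →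
    (∀ y, y ∈ U ↔ ∃ x ∈ U, g x = y) → ∀ x ∈ W, g x ∈ W

namespace Anchor

variable (h : Anchor F U W)
include h

theorem le_S : W ≤ S := h.leN.trans normalizerIn_le

theorem image [Finite S] {R R' : Subgroup Ω} {g : Ω → Ω} (hg : F.IsIso R R' g) (hW : W ≤ R)
    (hR' : R' ≤ normalizerIn S U) (hU : ∀ y, y ∈ U ↔ ∃ x ∈ U, g x = y) :
    ∀ y, y ∈ W ↔ ∃ x ∈ W, g x = y :=
  SubCent.image_self hg hW (h.invariant hg hW hR' hU)

theorem conj_mem {v : Ω} (hv : v ∈ normalizerIn S U) {x : Ω} (hx : x ∈ W) : v * x * v⁻¹ ∈ W := by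
  refine h.invariant (isIso_conj_normalizer normalizerIn_le hv.1
    (Subgroup.le_normalizer hv)) h.leN le_rfl (fun y => ?_) x hx
  constructor
  · intro hy
    exact ⟨v⁻¹ * y * v, (Subgroup.mem_normalizer_iff''.mp hv.2 y).mp hy, by group⟩
  · rintro ⟨x, hx, rfl⟩
    exact (Subgroup.mem_normalizer_iff.mp hv.2 x).mp hx

theorem normalizes {v : Ω} (hv : v ∈ normalizerIn S U) : v ∈ Subgroup.normalizer (W : Set Ω) := by
  rw [Subgroup.mem_normalizer_iff]
  refine fun x => ⟨h.conj_mem hv, fun hx => ?_⟩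
  have := h.conj_mem ((normalizerIn S U).inv_mem hv) hx
  simpa [mul_assoc] using this

/-- A map onto `W` from any conjugate, defined on the centraliser. -/
theorem carry [Finite S] [Fact p.Prime] (hS : IsPGroup p S) (hF : F.IsSaturated p) {h0 : Ω → Ω}
    (hh : F.IsIso W Q h0) :
    ∃ (k : Ω → Ω) (D D' : Subgroup Ω), F.IsIso D D' k ∧ Q ≤ D ∧ centralizerIn S Q ≤ D ∧
      ∀ y, y ∈ W ↔ ∃ x ∈ Q, k x = y := by
  obtain ⟨U', hU', hU'Q, hU'm⟩ := hh.restrict h.le
  obtain ⟨φ, hφ, hr, ψ, hψ, hψN, hψe⟩ := hF.exists_map_to_fullyNormalized hS h.norm hU'.isConj.symm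
  have hiso := isIso_funOf hψ
  have hU'S : U' ≤ S := hU'.le_right
  have hQN : Q ≤ normalizerIn S U' := fun y hy => by
    obtain ⟨x, hx, rfl⟩ := hh.surj hy
    exact ⟨hh.le_right (hh.mem hx), hh.mem_normalizer h.le hU'm hx (h.leN hx).2⟩
  have hCN : centralizerIn S Q ≤ normalizerIn S U' := fun c hc =>
    ⟨hc.1, Subgroup.centralizer_le_normalizer _ (Subgroup.centralizer_le hU'Q hc.2)⟩
  have hR : ψ.range ≤ normalizerIn S U := by rintro _ ⟨x, rfl⟩; exact hψN x
  have hU'U : ∀ y, y ∈ U ↔ ∃ x ∈ U', funOf ψ x = y := fun y => by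
    constructor
    · intro hy
      obtain ⟨x, hx⟩ := hr.ge hy
      exact ⟨x, x.2, by rw [← funOf_apply ψ ⟨x, le_normalizerIn hU'S x.2⟩, hψe x _, hx]⟩
    · rintro ⟨x, hx, rfl⟩
      rw [← funOf_apply ψ ⟨x, le_normalizerIn hU'S hx⟩, hψe ⟨x, hx⟩ _]
      exact hr.le ⟨_, rfl⟩
  obtain ⟨Q', hQ', hQ'R, hQ'm⟩ := hiso.restrict hQN
  have hcomp := hh.comp hQ'
  have hUU : ∀ y, y ∈ U ↔ ∃ x ∈ U, funOf ψ (h0 x) = y := fun y => by
    rw [hU'U y]
    constructor
    · rintro ⟨z, hz, rfl⟩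
      obtain ⟨x, hx, rfl⟩ := (hU'm z).mp hz
      exact ⟨x, hx, rfl⟩
    · rintro ⟨x, hx, rfl⟩
      exact ⟨h0 x, (hU'm _).mpr ⟨x, hx, rfl⟩, rfl⟩
  have himg := h.image hcomp le_rfl (hQ'R.trans hR) hUU
  refine ⟨funOf ψ, _, _, hiso, hQN, hCN, fun y => ?_⟩
  rw [himg y]
  constructor
  · rintro ⟨x, hx, rfl⟩
    exact ⟨h0 x, hh.mem hx, rfl⟩
  · rintro ⟨z, hz, rfl⟩
    obtain ⟨x, hx, rfl⟩ := hh.surj hz
    exact ⟨x, hx, rfl⟩

theorem fullyCentralized [Finite S] [Fact p.Prime] (hS : IsPGroup p S) (hF : F.IsSaturated p) :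
    F.IsFullyCentralized W := by
  refine ⟨h.le_S, fun Q ⟨φ, hφ, hr⟩ => ?_⟩
  obtain ⟨k, D, D', hk, hQD, hCD, hm⟩ := h.carry hS hF (hr ▸ isIso_funOf hφ)
  haveI := finite_centralizerIn (S := S) (P := W)
  exact Nat.card_le_card_of_injective
    (fun c : centralizerIn S Q =>
      (⟨k c, SubCent.map_centralizer hk hQD hm c.2 (hCD c.2)⟩ : centralizerIn S W))
    fun a b hab => Subtype.ext (hk.inj (hCD a.2) (hCD b.2) (congrArg Subtype.val hab))

/-- `W C_S(W)` is again an anchor. -/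
theorem extend [Finite S] : Anchor F U (PrimeResidual.ext S W) := by
  refine ⟨h.norm, h.le.trans le_sup_left, sup_le h.leN fun c hc =>
    ⟨hc.1, Subgroup.centralizer_le_normalizer _ (Subgroup.centralizer_le h.le hc.2)⟩, ?_⟩
  intro R R' g hg hWR hR' hU x hx
  have hWR' : W ≤ R := le_sup_left.trans hWR
  have himg := h.image hg hWR' hR' hU
  obtain ⟨E', hE', -, hm⟩ := hg.restrict hWR
  have hle : E' ≤ PrimeResidual.ext S W := PrimeResidual.image_sup_le hE'
    (fun z hz => Subgroup.mem_sup_left ((himg _).mpr ⟨z, hz, rfl⟩))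
    (fun c hc => Subgroup.mem_sup_right (SubCent.map_centralizer hg hWR' himg hc (hWR (Subgroup.mem_sup_right hc))))
  exact hle ((hm _).mpr ⟨x, hx, rfl⟩)

end Anchor

/-! ### The automiser stabilising `U` -/

/-- The automorphisms of `X` in `F` stabilising `U`. -/
def stabAut (F : FusionSystem S) (X U : Subgroup Ω) : Subgroup (MulAut X) := F.autGroup X ⊓ stabIn X U

/-- Restriction to `U`. -/
def res (F : FusionSystem S) {X U : Subgroup Ω} (hUX : U ≤ X) : stabAut F X U →* MulAut U :=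
  (restrictTo X U hUX).comp (Subgroup.inclusion inf_le_right)

theorem res_apply (hUX : U ≤ X) (α : stabAut F X U) (x : U) :
    ((res F hUX α x : U) : Ω) = (((α : MulAut X) ⟨x, hUX x.2⟩ : X) : Ω) := rfl

/-- The part induced by `N_S(U)`. -/
def inducedStab (F : FusionSystem S) (X U : Subgroup Ω) : Subgroup (stabAut F X U) :=
  (autInducedBy (normalizerIn S U) X).subgroupOf (stabAut F X U)

theorem Anchor.induced_le (h : Anchor F U X) :
    autInducedBy (normalizerIn S U) X ≤ stabAut F X U := by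
  intro α hα
  obtain ⟨g, hg, -, hge⟩ := mem_autInducedBy_iff.mp hα
  refine ⟨autInducedBy_le_autGroup h.le_S (autInducedBy_mono normalizerIn_le hα), fun x => ?_⟩
  rw [hge x]
  exact (Subgroup.mem_normalizer_iff.mp hg.2 x).symm

theorem Anchor.conjAut (h : Anchor F U X) {v : Ω} (hv : v ∈ normalizerIn S U) :
    ∃ a : stabAut F X U, a ∈ inducedStab F X U ∧ ∀ x : X, (((a : MulAut X) x : X) : Ω) = v * x * v⁻¹ := by
  have hm : (X.normalizerMonoidHom ⟨v, h.normalizes hv⟩) ∈ autInducedBy (normalizerIn S U) X :=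
    mem_autInducedBy_iff.mpr ⟨v, hv, h.normalizes hv, fun _ => rfl⟩
  exact ⟨⟨_, h.induced_le hm⟩, hm, fun _ => rfl⟩

variable [Finite S] [Fact p.Prime]

/-- The stabiliser of `U` in the automiser of an anchor is fully automised by `N_S(U)`. -/
theorem Anchor.sylow (h : Anchor F U X) (hS : IsPGroup p S) (hF : F.IsSaturated p) :
    ∃ P : Sylow p (stabAut F X U), (P : Subgroup (stabAut F X U)) = inducedStab F X U := by
  set N := F.normalizerSystem U h.norm.1 with hN
  haveI := finite_normalizerIn (S := S) (P := U)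
  have hNp : IsPGroup p (normalizerIn S U) := hS.to_le normalizerIn_le
  have hNs : N.IsSaturated p := hF.isSaturated_normalizerSystem hS h.norm (fun _ => rfl)
  have hn : N.IsFullyNormalized X := by
    refine ⟨h.leN, fun Q hQ => ?_⟩
    obtain ⟨φ, hφ, hr⟩ := hQ
    obtain ⟨-, hXN, hφN, ψ, hψ, hψe, hψU⟩ := id hφ
    have hiso : F.IsIso X Q (funOf ψ) := by
      refine ⟨φ, hφ.1, hr, fun x => ?_⟩
      rw [← hψe]
      exact funOf_apply ψ (Subgroup.inclusion le_sup_left x)
    have hU : ∀ y, y ∈ U ↔ ∃ x ∈ U, funOf ψ x = y := fun y => by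
      constructor
      · intro hy
        obtain ⟨x, hx, he⟩ := hψU.ge hy
        exact ⟨x, hx, (funOf_apply ψ x).symm.trans he⟩
      · rintro ⟨x, hx, rfl⟩
        exact hψU.le ⟨⟨x, Subgroup.mem_sup_right hx⟩, hx, funOf_apply ψ _⟩
    have hQN : Q ≤ normalizerIn S U := hr ▸ (by rintro _ ⟨x, rfl⟩; exact hφN x)
    have heq : Q = X := by
      ext y
      rw [h.image hiso le_rfl hQN hU y]
      exact ⟨hiso.surj, fun ⟨x, hx, he⟩ => he ▸ hiso.mem hx⟩
    rw [heq]
  obtain ⟨-, P, hP⟩ := hNs.isFullyAutomized_of_isFullyNormalized hNp hn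
  have heq : N.autGroup X = stabAut F X U := by
    ext α
    constructor
    · intro hα
      obtain ⟨φ, hφ, -, hφe⟩ := N.exists_map_of_mem_autGroup h.leN hα
      refine ⟨F.mem_autGroup_of_map hφ.1 fun x => (hφe x).symm, fun x => ?_⟩
      obtain ⟨-, -, -, ψ, hψ, hψe, hψU⟩ := id hφ
      rw [← hφe x, ← hψe x]
      constructor
      · intro hx
        obtain ⟨z, hz, he⟩ := hψU.ge hx
        replace hz : (z : Ω) ∈ U := hz
        have := congrArg Subtype.val (F.injective_of_mem hψ he)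
        show (x : Ω) ∈ U
        have h2 : (z : Ω) = x := this
        exact h2 ▸ hz
      · intro hx
        exact hψU.le ⟨_, (show (Subgroup.inclusion le_sup_left x : ↥(X ⊔ U)) ∈ U.subgroupOf (X ⊔ U) from hx), rfl⟩
    · rintro ⟨hα, hαU⟩
      obtain ⟨φ, hφ, hr, hφe⟩ := F.exists_map_of_mem_autGroup h.le_S hα
      have hXU : X ⊔ U = X := sup_eq_left.mpr h.le
      refine N.mem_autGroup_of_map (φ := φ) ⟨hφ, h.leN, fun x => h.leN (hr.le ⟨x, rfl⟩),
        φ.comp (Subgroup.inclusion hXU.le), F.restrict_mem hφ hXU.le, fun x => rfl, ?_⟩ fun x => (hφe x).symm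
      ext y
      constructor
      · rintro ⟨z, hz, rfl⟩
        show φ (Subgroup.inclusion hXU.le z) ∈ U
        rw [hφe]
        exact (hαU _).mpr hz
      · intro hy
        obtain ⟨x, hx⟩ := α.surjective ⟨y, h.le hy⟩
        refine ⟨Subgroup.inclusion hXU.ge x, (hαU x).mp (by rw [hx]; exact hy), ?_⟩
        show φ _ = y
        rw [hφe]
        exact congrArg Subtype.val (show α _ = _ from hx)
  revert P
  rw [heq]
  exact fun P hP => ⟨P, hP⟩

end Cfsg.FusionSystem.Wedge
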