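import Cfsg.Agent.Lib.Fusion.Wedge.Lifts
import Cfsg.Agent.Lib.Fusion.Hyperfocal
import Cfsg.Agent.Lib.SylowExtra

/-!
The common automisers of two normal subsystems on subgroups of the intersection of their carriers, and the
containment of their `p`-residual in the automisers induced by the intersection.
-/

set_option autoImplicit false
set_option linter.unusedSectionVars false
set_option linter.style.haveILetI false

namespace Cfsg.FusionSystem.Wedge

open Cfsg.FusionSystem.SubCent (image_self isIso_self map_centralizer)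

universe u

variable {Ω : Type u} [Group Ω] {S T T₁ T₂ : Subgroup Ω} {F : FusionSystem S} {E : FusionSystem T}
  {E₁ : FusionSystem T₁} {E₂ : FusionSystem T₂} {U V P Q : Subgroup Ω} {f g : Ω → Ω} {p : ℕ}

/-! ### Preimages in `N_S(U)` of groups of automorphisms -/

/-- The elements of `K` normalising `U` and inducing on it a member of `A`. -/
def pre (K U : Subgroup Ω) (A : Subgroup (MulAut U)) : Subgroup Ω :=
  K ⊓ (A.comap U.normalizerMonoidHom).map (Subgroup.normalizer (U : Set Ω)).subtype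

theorem mem_pre {K : Subgroup Ω} {A : Subgroup (MulAut U)} {v : Ω} :
    v ∈ pre K U A ↔ v ∈ K ∧ ∃ hn : v ∈ Subgroup.normalizer (U : Set Ω), U.normalizerMonoidHom ⟨v, hn⟩ ∈ A := by
  constructor
  · rintro ⟨hK, ⟨w, hw, rfl⟩⟩
    exact ⟨hK, w.2, hw⟩
  · rintro ⟨hK, hn, h⟩
    exact ⟨hK, ⟨⟨v, hn⟩, h, rfl⟩⟩

theorem pre_le {K : Subgroup Ω} {A : Subgroup (MulAut U)} : pre K U A ≤ normalizerIn K U :=
  fun _ hv => ⟨(mem_pre.mp hv).1, (mem_pre.mp hv).2.1⟩

theorem self_le_pre {K : Subgroup Ω} {A : Subgroup (MulAut U)} (hU : U ≤ K) (hA : Inn U ≤ A) : U ≤ pre K U A :=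
  fun v hv => mem_pre.mpr ⟨hU hv, Subgroup.le_normalizer hv, hA ⟨⟨v, hv⟩, MulEquiv.ext fun _ => rfl⟩⟩

theorem cent_le_pre {K : Subgroup Ω} {A : Subgroup (MulAut U)} : centralizerIn K U ≤ pre K U A := by
  intro c hc
  refine mem_pre.mpr ⟨hc.1, Subgroup.centralizer_le_normalizer _ hc.2, ?_⟩
  rw [show U.normalizerMonoidHom ⟨c, Subgroup.centralizer_le_normalizer _ hc.2⟩ = 1 from MulEquiv.ext fun x =>
    Subtype.ext (show c * x * c⁻¹ = x by
      rw [← Subgroup.mem_centralizer_iff.mp hc.2 x x.2, mul_inv_cancel_right])]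
  exact A.one_mem

theorem mem_pre_of_induced {K : Subgroup Ω} {A : Subgroup (MulAut U)} {α : MulAut U} (hα : α ∈ A)
    (hind : α ∈ autInducedBy K U) : ∃ v ∈ pre K U A, ∀ x : U, ((α x : U) : Ω) = v * x * v⁻¹ := by
  obtain ⟨v, hv, hn, he⟩ := mem_autInducedBy_iff.mp hind
  refine ⟨v, mem_pre.mpr ⟨hv, hn, ?_⟩, he⟩
  rwa [show U.normalizerMonoidHom ⟨v, hn⟩ = α from MulEquiv.ext fun x => Subtype.ext (he x).symm]

theorem conj_inn (β : MulAut U) {α : MulAut U} (hα : α ∈ Inn U) : β * α * β⁻¹ ∈ Inn U := by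
  obtain ⟨u, rfl⟩ := hα
  refine ⟨β u, MulEquiv.ext fun x => ?_⟩
  show β u * x * (β u)⁻¹ = β (u * β⁻¹ x * u⁻¹)
  simp

/-! ### Anchors `U C_T(U)` -/

theorem anchor_ext [Finite S] (hT : F.StronglyClosed T) (hUT : U ≤ T) (hn : F.IsFullyNormalized U) :
    Anchor F U (PrimeResidual.ext T U) := by
  refine ⟨hn, le_sup_left, sup_le (le_normalizerIn hn.1) fun c hc =>
    ⟨hT.1 hc.1, Subgroup.centralizer_le_normalizer _ hc.2⟩, ?_⟩
  intro R R' g hg hWR hR' hU x hx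
  obtain ⟨E', hE', -, hm⟩ := hg.restrict hWR
  have hle : E' ≤ PrimeResidual.ext T U := PrimeResidual.image_sup_le hE'
    (fun z hz => Subgroup.mem_sup_left ((hU _).mpr ⟨z, hz, rfl⟩))
    (fun c hc => Subgroup.mem_sup_right ⟨hT.iso_mem hg (hWR (Subgroup.mem_sup_right hc)) hc.1,
      hg.mem_centralizer (le_sup_left.trans hWR) hU (hWR (Subgroup.mem_sup_right hc)) hc.2⟩)
  exact hle ((hm _).mpr ⟨x, hx, rfl⟩)

variable [Finite S] [Fact p.Prime]

/-- In a weakly normal subsystem, the induced automorphisms are induced by its carrier. -/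
theorem mem_induced_of_autGroup (hS : IsPGroup p S) (hE : E.IsWeaklyNormalIn F p) (hUT : U ≤ T)
    (hn : F.IsFullyNormalized U) {α : MulAut U} (hαE : α ∈ E.autGroup U) (hαS : α ∈ autInducedBy S U) :
    α ∈ autInducedBy T U := by
  obtain ⟨hEs, hF, hEi⟩ := id hE
  haveI := finite_of_le hEi.2.1.1
  have hEn := hn.of_invariant hEi hS hF hUT
  obtain ⟨-, P, hP⟩ := hEs.isFullyAutomized_of_isFullyNormalized (hS.to_le hEi.2.1.1) hEn
  haveI := finite_autGroup (F := E) hUT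
  let X : Subgroup (E.autGroup U) := (autInducedBy S U).subgroupOf (E.autGroup U)
  have hXp : IsPGroup p X := (isPGroup_autInducedBy hS).comap_of_injective _ Subtype.coe_injective
  have hle : (P : Subgroup (E.autGroup U)) ≤ X := fun a ha =>
    autInducedBy_mono hEi.2.1.1 (hP.le ha : (a : MulAut U) ∈ autInducedBy T U)
  have heq := P.3 hXp hle
  exact (hP.le (heq.le (show (⟨α, hαE⟩ : E.autGroup U) ∈ X from hαS)) :)

/-! ### The common automisers -/

/-- Two normal subsystems. -/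
structure IsPair (F : FusionSystem S) (p : ℕ) (E₁ : FusionSystem T₁) (E₂ : FusionSystem T₂) : Prop where
  pgroup : IsPGroup p S
  normal₁ : E₁.IsNormalIn F p
  normal₂ : E₂.IsNormalIn F p

/-- The automorphisms in both subsystems. -/
def com (E₁ : FusionSystem T₁) (E₂ : FusionSystem T₂) (U : Subgroup Ω) : Subgroup (MulAut U) :=
  E₁.autGroup U ⊓ E₂.autGroup U

namespace IsPair

variable (hp : IsPair F p E₁ E₂)
include hp

theorem sat : F.IsSaturated p := hp.normal₁.1.2.1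
theorem inv₁ : E₁.IsInvariantIn F := hp.normal₁.1.2.2
theorem inv₂ : E₂.IsInvariantIn F := hp.normal₂.1.2.2
theorem closed₁ : F.StronglyClosed T₁ := hp.inv₁.2.1
theorem closed₂ : F.StronglyClosed T₂ := hp.inv₂.2.1

theorem closed : F.StronglyClosed (T₁ ⊓ T₂) :=
  ⟨inf_le_left.trans hp.closed₁.1, fun R hR φ hφ x =>
    ⟨hp.closed₁.2 R (hR.trans inf_le_left) φ hφ x, hp.closed₂.2 R (hR.trans inf_le_right) φ hφ x⟩⟩

theorem le_S (hU : U ≤ T₁ ⊓ T₂) : U ≤ S := hU.trans hp.closed.1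

theorem com_le (hU : U ≤ T₁ ⊓ T₂) : com E₁ E₂ U ≤ F.autGroup U :=
  fun _ h => hp.inv₁.1.isIso_autGroup (hU.trans inf_le_left) h.1

theorem induced_le_com (hU : U ≤ T₁ ⊓ T₂) : autInducedBy (T₁ ⊓ T₂) U ≤ com E₁ E₂ U := fun _ h =>
  ⟨autInducedBy_le_autGroup (hU.trans inf_le_left) (autInducedBy_mono inf_le_left h),
    autInducedBy_le_autGroup (hU.trans inf_le_right) (autInducedBy_mono inf_le_right h)⟩

theorem com_transport {U' : Subgroup Ω} {h : Ω → Ω} (hU : U ≤ T₁ ⊓ T₂) (hh : F.IsIso U U' h)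
    {α : MulAut U} (hα : α ∈ com E₁ E₂ U) :
    ∃ α' ∈ com E₁ E₂ U', ∀ (x : U) (hx : h x ∈ U'), ((α' ⟨h x, hx⟩ : U') : Ω) = h (α x : U) := by
  obtain ⟨f₁, hf₁, hf₁e⟩ := isIso_of_aut (hU.trans inf_le_left) hα.1
  obtain ⟨f₂, hf₂, hf₂e⟩ := isIso_of_aut (hU.trans inf_le_right) hα.2
  have himg : ∀ y, y ∈ U' ↔ ∃ x ∈ U, h x = y := fun y =>
    ⟨hh.surj, fun ⟨x, hx, he⟩ => he ▸ hh.mem hx⟩
  obtain ⟨g₁, hg₁, hg₁e⟩ := hp.inv₁.iso_transport hh (hU.trans inf_le_left) hf₁ le_rfl le_rfl himg himg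
  obtain ⟨g₂, hg₂, hg₂e⟩ := hp.inv₂.iso_transport hh (hU.trans inf_le_right) hf₂ le_rfl le_rfl himg himg
  obtain ⟨α₁, hα₁, hα₁e⟩ := hg₁.toAut
  obtain ⟨α₂, hα₂, hα₂e⟩ := hg₂.toAut
  have h1 : ∀ (x : U) (hx : h x ∈ U'), ((α₁ ⟨h x, hx⟩ : U') : Ω) = h (α x : U) := fun x hx => by
    rw [hα₁e, hg₁e x x.2, hf₁e]
  have heq : α₁ = α₂ := MulEquiv.ext fun ⟨y, hy⟩ => Subtype.ext (by
    obtain ⟨x, hx, rfl⟩ := hh.surj hy
    rw [h1 ⟨x, hx⟩ hy, hα₂e, hg₂e x hx, ← hf₂e ⟨x, hx⟩])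
  exact ⟨α₁, ⟨hα₁, heq ▸ hα₂⟩, h1⟩

/-- The common automiser is normal in the automiser. -/
theorem com_conj (hU : U ≤ T₁ ⊓ T₂) {β α : MulAut U} (hβ : β ∈ F.autGroup U) (hα : α ∈ com E₁ E₂ U) :
    β * α * β⁻¹ ∈ com E₁ E₂ U := by
  obtain ⟨b, hb, hbe⟩ := isIso_of_aut (hp.le_S hU) hβ
  obtain ⟨α', hα', hα'e⟩ := hp.com_transport hU hb hα
  have : α' = β * α * β⁻¹ := MulEquiv.ext fun y => Subtype.ext (by
    have h1 := hα'e (β⁻¹ y) (hb.mem (SetLike.coe_mem _))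
    have h2 : (⟨b ((β⁻¹ y : U) : Ω), hb.mem (SetLike.coe_mem _)⟩ : U) = y :=
      Subtype.ext (show b ((β⁻¹ y : U) : Ω) = y by rw [← hbe, MulAut.apply_inv_self])
    rw [h2] at h1
    rw [h1, MulAut.mul_apply, MulAut.mul_apply, hbe])
  exact this ▸ hα'

theorem com_normal (hU : U ≤ T₁ ⊓ T₂) : ((com E₁ E₂ U).subgroupOf (F.autGroup U)).Normal :=
  ⟨fun a ha b => hp.com_conj hU b.2 ha⟩

set_option maxHeartbeats 800000 in
/-- `[q, β]` is induced by the intersection. -/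
theorem comm_induced (hU : U ≤ T₁ ⊓ T₂) (hn : F.IsFullyNormalized U) {β : MulAut U} (hβ : β ∈ com E₁ E₂ U)
    (hord : ¬ p ∣ orderOf β) {A : Subgroup (MulAut U)} (hAS : A ≤ autInducedBy S U)
    (hAn : ∀ a ∈ A, β * a * β⁻¹ ∈ A) {q : MulAut U} (hq : q ∈ A) (hqT : q ∈ autInducedBy T₂ U) :
    q⁻¹ * (β * q * β⁻¹) ∈ autInducedBy (T₁ ⊓ T₂) U := by
  classical
  have hS := hp.pgroup
  have hF := hp.sat
  obtain ⟨hEs, -, hEi⟩ := id hp.normal₁.1
  have hT := hEi.2.1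
  haveI := finite_of_le hT.1
  have hT₁p : IsPGroup p T₁ := hS.to_le hT.1
  have hUT : U ≤ T₁ := hU.trans inf_le_left
  have hUS : U ≤ S := hn.1
  set A' := A ⊔ Inn U with hA'
  have hA'S : A' ≤ autInducedBy S U := sup_le hAS (inn_le_autInducedBy hUS)
  have hA'n : ∀ a ∈ A', β * a * β⁻¹ ∈ A' := by
    intro a ha
    have : A' ≤ A'.comap (MulAut.conj β).toMonoidHom := sup_le
      (fun x hx => (Subgroup.mem_sup_left (hAn x hx) : β * x * β⁻¹ ∈ A'))
      (fun x hx => (Subgroup.mem_sup_right (conj_inn β hx) : β * x * β⁻¹ ∈ A'))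
    exact this ha
  set V := pre S U A' with hV
  obtain ⟨f, hf, hfe⟩ := isIso_of_aut hUT hβ.1
  have hnorm : ∀ v ∈ V, ∃ v' ∈ V, ∀ x ∈ U, f (v * x * v⁻¹) = v' * f x * v'⁻¹ := by
    intro v hv
    obtain ⟨-, hvn, hvA⟩ := mem_pre.mp hv
    obtain ⟨v', hv', hv'e⟩ := mem_pre_of_induced (hA'n _ hvA) (hA'S (hA'n _ hvA))
    refine ⟨v', hv', fun x hx => ?_⟩
    have h1 := hv'e (β ⟨x, hx⟩)
    simp only [MulAut.mul_apply, MulAut.inv_apply_self] at h1
    rw [hfe, hfe] at h1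
    exact h1
  -- the anchor
  set W := PrimeResidual.ext T₁ U
  have hW : Anchor F U W := anchor_ext hT hUT hn
  have hEn := hn.of_invariant hEi hS hF hUT
  have hEfc := hEs.isFullyCentralized_of_isFullyNormalized hT₁p hEn
  have hWc : E₁.IsCentric W := PrimeResidual.ext_isCentric hEfc
  obtain ⟨ψ, hψ, hψe⟩ := exists_extension_of_normalizes (γ := β) (M := centralizerIn T₁ U)
    (hEs.isReceptive_of_isFullyNormalized hT₁p hEn) hβ.1 centralizerIn_le_normalizerIn (by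
      intro c hc hcn
      rw [show U.normalizerMonoidHom ⟨c, hcn⟩ = 1 from MulEquiv.ext fun x => Subtype.ext (show c * x * c⁻¹ = x by
        rw [← Subgroup.mem_centralizer_iff.mp hc.2 x x.2, mul_inv_cancel_right]), mul_one, mul_inv_cancel]
      exact (autInducedBy T₁ U).one_mem)
  have hψiso := isIso_funOf hψ
  have hψU : ∀ x ∈ U, funOf ψ x = f x := fun x hx =>
    (funOf_apply ψ ⟨x, Subgroup.mem_sup_left hx⟩).symm.trans ((hψe ⟨x, hx⟩).trans (hfe _))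
  have hψimg : ∀ y, y ∈ U ↔ ∃ x ∈ U, funOf ψ x = y :=
    image_self hψiso le_sup_left fun x hx => by rw [hψU x hx]; exact hf.mem hx
  have hψW : E₁.IsIso W W (funOf ψ) := isIso_self hψiso le_rfl fun x hx =>
    (PrimeResidual.image_sup_le hψiso (fun z hz => Subgroup.mem_sup_left ((hψimg _).mpr ⟨z, hz, rfl⟩))
      fun c hc => Subgroup.mem_sup_right (map_centralizer hψiso le_sup_left hψimg hc (Subgroup.mem_sup_right hc)))
      (hψiso.mem hx)
  obtain ⟨g, hg, hgU, -, hgT⟩ := key_extension (V := V) hS hF hEs hEi hUT hW (sup_le hUT centralizerIn_le)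
    (hasLifts hS hp.normal₁ hWc (hW.fullyCentralized hS hF)) ⟨funOf ψ, hψW, hψU⟩ hf (m := orderOf β) hord
    (fun x hx => by rw [← coe_pow_apply hfe _ ⟨x, hx⟩, pow_orderOf_eq_one]; rfl) pre_le
    (sup_le (self_le_pre hUS le_sup_right) fun c hc => cent_le_pre ⟨hT.1 hc.1, hc.2⟩) cent_le_pre hnorm
  obtain ⟨t, ht, htn, hte⟩ := mem_autInducedBy_iff.mp hqT
  have htV : t ∈ V := mem_pre.mpr ⟨hp.closed₂.1 ht, htn, by
    rw [show U.normalizerMonoidHom ⟨t, htn⟩ = q from MulEquiv.ext fun x => Subtype.ext (hte x).symm]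
    exact Subgroup.mem_sup_left hq⟩
  have hd : t⁻¹ * g t ∈ T₁ ⊓ T₂ :=
    ⟨hgT t htV, T₂.mul_mem (T₂.inv_mem ht) (hp.closed₂.iso_mem hg htV ht)⟩
  have hgtn : g t ∈ Subgroup.normalizer (U : Set Ω) := (pre_le (hg.mem htV)).2
  refine mem_autInducedBy_iff.mpr ⟨_, hd,
    (Subgroup.normalizer _).mul_mem ((Subgroup.normalizer _).inv_mem htn) hgtn, fun y => ?_⟩
  let z : U := β⁻¹ y
  have hzy : f z = y := by rw [← hfe, MulAut.apply_inv_self]
  have h1 : ((β (q z) : U) : Ω) = g t * y * (g t)⁻¹ := by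
    rw [hfe, hte, ← hgU _ ((Subgroup.mem_normalizer_iff.mp htn z).mp z.2),
      hg.apply_conj htV (self_le_pre hUS le_sup_right z.2), hgU z z.2, hzy]
  let w : U := β (q z)
  have h2 : q⁻¹ w = ⟨t⁻¹ * w * t, (Subgroup.mem_normalizer_iff''.mp htn w).mp w.2⟩ := by
    apply q.injective
    rw [MulAut.apply_inv_self]
    apply Subtype.ext
    rw [hte]
    show (w : Ω) = t * (t⁻¹ * w * t) * t⁻¹
    group
  show ((q⁻¹ w : U) : Ω) = _
  rw [h2]
  show t⁻¹ * ((β (q z) : U) : Ω) * t = _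
  rw [h1]
  group

set_option maxHeartbeats 800000 in
/-- The `p`-residual of the common automiser meets `Aut_S(U)` inside `Aut_R(U)`. -/
theorem residual_inf_le (hU : U ≤ T₁ ⊓ T₂) (hn : F.IsFullyNormalized U) :
    (pResidual p (com E₁ E₂ U)).map (com E₁ E₂ U).subtype ⊓ autInducedBy S U ≤
      autInducedBy (T₁ ⊓ T₂) U := by
  classical
  have hS := hp.pgroup
  have hUS : U ≤ S := hn.1
  haveI := finite_mulAut_of_le hUS
  set C := com E₁ E₂ U with hC
  haveI := finite_autGroup (F := F) hUS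
  obtain ⟨-, P, hP⟩ := hp.sat.isFullyAutomized_of_isFullyNormalized hS hn
  set K := C.subgroupOf (F.autGroup U)
  haveI : K.Normal := hp.com_normal hU
  let Q₀ := CfsgLib.sylowInfNormal P K
  let e : K ≃* C := Subgroup.subgroupOfEquivOfLe (hp.com_le hU)
  let QC : Sylow p C := Q₀.mapSurjective (f := e.toMonoidHom) e.surjective
  have hQC : (QC : Subgroup C) = (autInducedBy S U).subgroupOf C := by
    show (Q₀ : Subgroup K).map e.toMonoidHom = _
    ext c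
    constructor
    · rintro ⟨k, hk, rfl⟩
      exact (hP.le hk :)
    · intro hc
      exact ⟨⟨⟨c, hp.com_le hU c.2⟩, c.2⟩, hP.ge hc, rfl⟩
  rintro _ ⟨⟨c, hc, rfl⟩, hcS⟩
  have hmem : c ∈ (QC : Subgroup C) ⊓ pResidual p C := ⟨hQC.ge hcS, hc⟩
  rw [← hyperfocalSubgroup_groupFusionSystem QC] at hmem
  refine (((hyperfocal_group_le_iff QC).mpr ?_) hmem :
    c ∈ (autInducedBy (T₁ ⊓ T₂) U).subgroupOf C)
  intro A hA β hβn hβp a ha
  have hβord : ¬ p ∣ orderOf (β : MulAut U) := by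
    rw [Subgroup.orderOf_coe]
    exact (Nat.Prime.coprime_iff_not_dvd Fact.out).mp hβp.symm
  show (a : MulAut U)⁻¹ * ((β : MulAut U) * a * (β : MulAut U)⁻¹) ∈ autInducedBy (T₁ ⊓ T₂) U
  refine hp.comm_induced hU hn β.2 hβord (A := A.map C.subtype) ?_ ?_ ⟨a, ha, rfl⟩
    (mem_induced_of_autGroup hS hp.normal₂.1 (hU.trans inf_le_right) hn a.2.2 (hQC.le (hA ha)))
  · rintro _ ⟨x, hx, rfl⟩
    exact hQC.le (hA hx)
  · rintro _ ⟨x, hx, rfl⟩
    exact ⟨β * x * β⁻¹, (Subgroup.mem_normalizer_iff.mp hβn x).mp hx, rfl⟩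

end IsPair

end Cfsg.FusionSystem.Wedge
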