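import Cfsg.Agent.Lib.Fusion.Wedge.System

/-!
An element of `O^p(com U) Aut_R(U)` carrying part of `Aut_R(U)` into `Aut_R(U)` is the restriction of a map of
the generated system on the corresponding part of `N_R(U)`.
-/

set_option autoImplicit false
set_option linter.unusedSectionVars false
set_option linter.style.haveILetI false

namespace Cfsg.FusionSystem.Wedge

open Cfsg.FusionSystem.SubCent (image_self isIso_self map_centralizer)

universe u

variable {Ω : Type u} [Group Ω] {S T T₁ T₂ : Subgroup Ω} {F : FusionSystem S} {E : FusionSystem T}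
  {E₁ : FusionSystem T₁} {E₂ : FusionSystem T₂} {U V : Subgroup Ω} {p : ℕ}

theorem pre_mono {K : Subgroup Ω} {A B : Subgroup (MulAut U)} (h : A ≤ B) : pre K U A ≤ pre K U B := by
  intro v hv
  obtain ⟨hK, hn, hA⟩ := mem_pre.mp hv
  exact mem_pre.mpr ⟨hK, hn, h hA⟩

variable [Finite S] [Fact p.Prime]

/-- An automorphism of `V` trivial on a self-centralising `U ≤ V ≤ N(U)` has `p`-power order. -/
theorem pow_eq_one_of_fixing {R : Subgroup Ω} (hR : IsPGroup p R) (hV : V ≤ normalizerIn R U) (hUV : U ≤ V)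
    (hC : centralizerIn R U ≤ U) {k : MulAut V} (hk : ∀ x : V, (x : Ω) ∈ U → k x = x) [Finite V] :
    ∃ e : ℕ, k ^ p ^ e = 1 := by
  haveI : Finite (MulAut V) := Finite.of_injective (fun α : MulAut V => (α : V → V)) DFunLike.coe_injective
  obtain ⟨e, he⟩ := SubCent.prime_part (p := p) k
  refine ⟨e, ?_⟩
  set h := k ^ p ^ e
  have hfix : ∀ x : V, (x : Ω) ∈ U → h x = x := by
    intro x hx
    show (k ^ p ^ e) x = x
    have : ∀ i : ℕ, (k ^ i) x = x := fun i => by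
      induction i with
      | zero => rfl
      | succ i ih => rw [pow_succ, MulAut.mul_apply, hk x hx, ih]
    exact this _
  have hd : ∀ v : V, (v : Ω)⁻¹ * (h v : V) ∈ U := by
    intro v
    refine hC ⟨R.mul_mem (R.inv_mem (hV v.2).1) (hV (h v).2).1, Subgroup.mem_centralizer_iff.mpr fun y hy => ?_⟩
    let z : V := ⟨y, hUV hy⟩
    have hc : v * z * v⁻¹ = h (v * z * v⁻¹) :=
      (hfix _ ((Subgroup.mem_normalizer_iff.mp (hV v.2).2 y).mp hy)).symm
    rw [map_mul, map_mul, map_inv, hfix z hy] at hc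
    have h2 : (v : Ω) * y * (v : Ω)⁻¹ = (h v : V) * y * ((h v : V) : Ω)⁻¹ := congrArg Subtype.val hc
    calc y * ((v : Ω)⁻¹ * (h v : V)) = (v : Ω)⁻¹ * ((v : Ω) * y * (v : Ω)⁻¹) * (h v : V) := by group
      _ = (v : Ω)⁻¹ * (((h v : V) : Ω) * y * ((h v : V) : Ω)⁻¹) * (h v : V) := by rw [h2]
      _ = _ := by group
  apply MulEquiv.ext
  intro v
  set c : V := v⁻¹ * h v
  have hcU : (c : Ω) ∈ U := hd v
  have hpow : ∀ i : ℕ, (h ^ i) v = v * c ^ i := by
    intro i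
    induction i with
    | zero => simp
    | succ i ih =>
      rw [pow_succ', MulAut.mul_apply, ih, map_mul, map_pow, hfix c hcU, pow_succ', ← mul_assoc]
      simp [c]
  have h1 := hpow (orderOf h)
  rw [pow_orderOf_eq_one, MulAut.one_apply, left_eq_mul] at h1
  obtain ⟨j, hj⟩ := (hR.to_le (hV.trans normalizerIn_le)) c
  have hc1 : c = 1 := SubCent.eq_one_of_coprime_pow hj h1
    (((Nat.Prime.coprime_iff_not_dvd Fact.out).mpr he).pow_left j)
  show h v = v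
  rw [show h v = v * c by simp [c], hc1, mul_one]

/-- Automisers of an invariant subsystem are invariant. -/
theorem autGroup_conj (hE : E.IsInvariantIn F) (hV : V ≤ T) {β α : MulAut V} (hβ : β ∈ F.autGroup V)
    (hα : α ∈ E.autGroup V) : β * α * β⁻¹ ∈ E.autGroup V := by
  obtain ⟨b, hb, hbe⟩ := isIso_of_aut (hV.trans hE.2.1.1) hβ
  obtain ⟨a, ha, hae⟩ := isIso_of_aut hV hα
  have himg : ∀ y, y ∈ V ↔ ∃ x ∈ V, b x = y := fun y =>
    ⟨hb.surj, fun ⟨x, hx, he⟩ => he ▸ hb.mem hx⟩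
  obtain ⟨g, hg, hge⟩ := hE.iso_transport hb hV ha le_rfl le_rfl himg himg
  obtain ⟨γ, hγ, hγe⟩ := hg.toAut
  have : γ = β * α * β⁻¹ := MulEquiv.ext fun y => Subtype.ext (by
    rw [MulAut.mul_apply, MulAut.mul_apply, hbe, hae, hγe, ← hge _ (SetLike.coe_mem _), ← hbe,
      MulAut.apply_inv_self])
  exact this ▸ hγ

omit [Finite S] in
/-- The stabiliser of `U` in an automiser. -/
theorem stab_le {α : MulAut V} (hα : α ∈ F.autGroup V) (hUV : U ≤ V) {β : MulAut U} [Finite U]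
    (he : ∀ x : U, ((α ⟨x, hUV x.2⟩ : V) : Ω) = (β x : U)) : α ∈ stabAut F V U := by
  refine ⟨hα, fun x => ⟨fun hx => ?_, fun hx => ?_⟩⟩
  · obtain ⟨y, hy⟩ := β.surjective ⟨_, hx⟩
    have h1 : α ⟨y, hUV y.2⟩ = α x := Subtype.ext ((he y).trans (congrArg Subtype.val hy))
    rw [← α.injective h1]
    exact y.2
  · rw [show α x = α ⟨(x : Ω), hUV hx⟩ from rfl, he ⟨x, hx⟩]
    exact SetLike.coe_mem _

namespace IsPair

variable (hp : IsPair F p E₁ E₂)
include hp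

theorem pgroupR : IsPGroup p ↥(T₁ ⊓ T₂) := hp.pgroup.to_le hp.closed.1

/-- An automorphism of order prime to `p` in `com U` normalising part of `Aut_R(U)` extends to a common
automorphism of order prime to `p`. -/
theorem common_extension (hself : Self F (T₁ ⊓ T₂) U) (hn : F.IsFullyNormalized U) {A : Subgroup (MulAut U)}
    (hA : Inn U ≤ A) (hAR : A ≤ autInducedBy (T₁ ⊓ T₂) U) {b : MulAut U} (hb : b ∈ com E₁ E₂ U)
    (hord : ¬ p ∣ orderOf b) (hbA : ∀ a ∈ A, b * a * b⁻¹ ∈ A) :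
    ∃ α ∈ com E₁ E₂ (pre (T₁ ⊓ T₂) U A), ¬ p ∣ orderOf α ∧
      ∀ (x : U) (hx : (x : Ω) ∈ pre (T₁ ⊓ T₂) U A), ((α ⟨x, hx⟩ : ↥(pre (T₁ ⊓ T₂) U A)) : Ω) = (b x : U) := by
  classical
  set R := T₁ ⊓ T₂ with hR
  set V := pre R U A with hV
  have hUR : U ≤ R := hself.1
  have hUV : U ≤ V := self_le_pre hUR hA
  have hVR : V ≤ R := fun v hv => (pre_le hv).1
  have hVS : V ≤ S := hVR.trans hp.closed.1
  have hC := hself.cent hp.closed.1
  haveI := finite_of_le hVS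
  haveI := finite_of_le hn.1
  haveI := finite_mulAut_of_le hVS
  -- an extension inside a single subsystem
  have one : ∀ {T : Subgroup Ω} (E : FusionSystem T), E.IsWeaklyNormalIn F p → R ≤ T → b ∈ E.autGroup U →
      ∃ α : MulAut V, α ∈ E.autGroup V ∧ ∀ x : U, ((α ⟨x, hUV x.2⟩ : V) : Ω) = (b x : U) := by
    intro T E hE hRT hbE
    obtain ⟨hEs, hF, hEi⟩ := id hE
    haveI := finite_of_le hEi.2.1.1
    have hEn := hn.of_invariant hEi hp.pgroup hF (hUR.trans hRT)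
    obtain ⟨ψ, hψ, hψe⟩ := exists_extension_of_normalizes
      (hEs.isReceptive_of_isFullyNormalized (hp.pgroup.to_le hEi.2.1.1) hEn) hbE
      (M := V) (fun v hv => ⟨hRT (hVR hv), (pre_le hv).2⟩) fun v hv hvn =>
        autInducedBy_mono hRT (hAR (hbA _ (mem_pre.mp hv).2.2))
    have hiso := isIso_funOf hψ
    have hval : ∀ x : U, funOf ψ x = (b x : U) := fun x =>
      (funOf_apply ψ ⟨x, Subgroup.mem_sup_left x.2⟩).symm.trans (hψe x)
    have himg := image_self hiso le_sup_left fun x hx => by rw [hval ⟨x, hx⟩]; exact SetLike.coe_mem _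
    have hmem : ∀ v ∈ V, funOf ψ v ∈ V := by
      intro v hv
      have hvW : v ∈ U ⊔ V := Subgroup.mem_sup_right hv
      have hgn := hiso.mem_normalizer le_sup_left himg hvW (pre_le hv).2
      refine mem_pre.mpr ⟨hp.closed.iso_mem (hiso.mono hEi.1) hvW (hVR hv), hgn, ?_⟩
      obtain ⟨-, hvn, hvA⟩ := mem_pre.mp hv
      rw [show U.normalizerMonoidHom ⟨funOf ψ v, hgn⟩ = b * U.normalizerMonoidHom ⟨v, hvn⟩ * b⁻¹ from ?_]
      · exact hbA _ hvA
      refine MulEquiv.ext fun y => Subtype.ext ?_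
      show funOf ψ v * y * (funOf ψ v)⁻¹ = (b (U.normalizerMonoidHom ⟨v, hvn⟩ (b⁻¹ y)) : U)
      rw [← hval]
      show _ = funOf ψ (v * ((b⁻¹ y : U) : Ω) * v⁻¹)
      rw [hiso.apply_conj hvW (Subgroup.mem_sup_left (b⁻¹ y).2), hval, MulAut.apply_inv_self]
    obtain ⟨α, hα, hαe⟩ := (isIso_self hiso le_sup_right hmem).toAut
    exact ⟨α, hα, fun x => (hαe _).trans (hval x)⟩
  obtain ⟨α₁, hα₁, hα₁b⟩ := one E₁ hp.normal₁.1 inf_le_left hb.1
  obtain ⟨α₂, hα₂, hα₂b⟩ := one E₂ hp.normal₂.1 inf_le_right hb.2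
  set G := stabAut F V U with hG
  let g₁ : G := ⟨α₁, stab_le (hp.inv₁.1.isIso_autGroup (hVR.trans inf_le_left) hα₁) hUV hα₁b⟩
  let g₂ : G := ⟨α₂, stab_le (hp.inv₂.1.isIso_autGroup (hVR.trans inf_le_right) hα₂) hUV hα₂b⟩
  have hr₁ : res F hUV g₁ = b := MulEquiv.ext fun x => Subtype.ext ((res_apply hUV g₁ x).trans (hα₁b x))
  have hr₂ : res F hUV g₂ = b := MulEquiv.ext fun x => Subtype.ext ((res_apply hUV g₂ x).trans (hα₂b x))
  obtain ⟨k, hk, hke⟩ := exists_pow_pprime (p := p) (res F hUV) g₁ (by rw [hr₁]; exact hord)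
  set n := g₁ ^ k with hn'
  let N : Subgroup G := (E₂.autGroup V).subgroupOf G
  haveI : N.Normal := ⟨fun a ha c => autGroup_conj hp.inv₂ (hVR.trans inf_le_right) c.2.1 ha⟩
  have hKp : IsPGroup p (res F hUV).ker := by
    intro x
    obtain ⟨e, he⟩ := pow_eq_one_of_fixing hp.pgroupR pre_le hUV hC (k := ((x : G) : MulAut V)) fun v hv =>
      Subtype.ext (congrArg (fun β : MulAut U => ((β ⟨v, hv⟩ : U) : Ω)) x.2)
    exact ⟨e, Subtype.ext (Subtype.ext he)⟩
  have hnK : n ∈ (res F hUV).ker ⊔ N := by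
    have h1 : g₂⁻¹ * n ∈ (res F hUV).ker := by
      show res F hUV (g₂⁻¹ * n) = 1
      rw [map_mul, map_inv, hr₂, hke, hr₁, inv_mul_cancel]
    have := Subgroup.mul_mem _ (Subgroup.mem_sup_right (show g₂ ∈ N from hα₂) : g₂ ∈ (res F hUV).ker ⊔ N)
      (Subgroup.mem_sup_left h1)
    rwa [mul_inv_cancel_left] at this
  have hnN : n ∈ N := mem_of_coprime_sup hKp hnK hk
  refine ⟨(n : MulAut V), ⟨?_, hnN⟩, by rw [Subgroup.orderOf_coe]; exact hk, fun x hx => ?_⟩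
  · show ((g₁ ^ k : G) : MulAut V) ∈ E₁.autGroup V
    rw [SubmonoidClass.coe_pow]
    exact pow_mem hα₁ k
  · rw [← res_apply (F := F) hUV n x, hke, hr₁]

set_option maxHeartbeats 1600000 in
/-- The converse. -/
theorem converse (hself : Self F (T₁ ⊓ T₂) U) (hn : F.IsFullyNormalized U) {a : MulAut U}
    (ha : a ∈ wAut p E₁ E₂ U) {M : Subgroup Ω} (hM : M ≤ normalizerIn (T₁ ⊓ T₂) U) (hUM : U ≤ M)
    (hcond : ∀ v ∈ M, ∀ hv : v ∈ Subgroup.normalizer (U : Set Ω),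
      a * U.normalizerMonoidHom ⟨v, hv⟩ * a⁻¹ ∈ autInducedBy (T₁ ⊓ T₂) U) :
    ∃ g M', (wSys F p E₁ E₂).IsIso M M' g ∧ ∀ x : U, g x = (a x : U) := by
  classical
  set R := T₁ ⊓ T₂ with hR
  set W := wSys F p E₁ E₂ with hW
  have hUR : U ≤ R := hself.1
  have hUS : U ≤ S := hn.1
  haveI := finite_mulAut_of_le hUS
  set A := wAut p E₁ E₂ U with hA
  obtain ⟨Z, hZ⟩ := hp.wAut_sylow hUR hn
  have hInn : Inn U ≤ autInducedBy R U := inn_le_autInducedBy hUR
  have hPR : ∀ P : Subgroup A, P ≤ (Z : Subgroup A) → P.map A.subtype ⊔ Inn U ≤ autInducedBy R U := by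
    intro P hPZ
    refine sup_le ?_ hInn
    rintro _ ⟨y, hy, rfl⟩
    exact hZ.le (hPZ hy)
  let D : Subgroup A → Subgroup Ω := fun P => pre R U (P.map A.subtype ⊔ Inn U)
  have hUD : ∀ P, U ≤ D P := fun P => self_le_pre hUR le_sup_right
  have hDR : ∀ P, D P ≤ R := fun P v hv => (pre_le hv).1
  let L : Subgroup A → A → Prop := fun P b =>
    ∃ g Q, W.IsIso (D P) Q g ∧ ∀ x : U, g x = ((b : MulAut U) x : U)
  have himg : ∀ {P : Subgroup A} {b : A} {g : Ω → Ω} {Q : Subgroup Ω}, W.IsIso (D P) Q g →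
      (∀ x : U, g x = ((b : MulAut U) x : U)) →
      ∀ v ∈ D P, g v ∈ D (P.map (MulAut.conj b).toMonoidHom) := by
    intro P b g Q hg hge v hv
    obtain ⟨-, hvn, hvA⟩ := mem_pre.mp hv
    have himgU : ∀ y, y ∈ U ↔ ∃ x ∈ U, g x = y := fun y =>
      ⟨fun hy => ⟨_, ((b : MulAut U)⁻¹ ⟨y, hy⟩).2, by rw [hge, MulAut.apply_inv_self]⟩,
        fun ⟨x, hx, he⟩ => he ▸ (hge ⟨x, hx⟩ ▸ SetLike.coe_mem _)⟩
    have hgn := hg.mem_normalizer (hUD P) himgU hv hvn
    refine mem_pre.mpr ⟨hg.le_right (hg.mem hv), hgn, ?_⟩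
    rw [show U.normalizerMonoidHom ⟨g v, hgn⟩ = (b : MulAut U) * U.normalizerMonoidHom ⟨v, hvn⟩ * (b : MulAut U)⁻¹
      from ?_]
    · have key : P.map A.subtype ⊔ Inn U ≤
          ((P.map (MulAut.conj b).toMonoidHom).map A.subtype ⊔ Inn U).comap
            (MulAut.conj (b : MulAut U)).toMonoidHom := sup_le
        (fun x ⟨y, hy, hye⟩ => Subgroup.mem_sup_left ⟨b * y * b⁻¹, ⟨y, hy, rfl⟩, hye ▸ rfl⟩)
        (fun x hx => (Subgroup.mem_sup_right (conj_inn _ hx) : (b : MulAut U) * x * (b : MulAut U)⁻¹ ∈ _))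
      exact key hvA
    refine MulEquiv.ext fun y => Subtype.ext ?_
    show g v * y * (g v)⁻¹ = (((b : MulAut U)) (U.normalizerMonoidHom ⟨v, hvn⟩ ((b : MulAut U)⁻¹ y)) : U)
    rw [← hge]
    show _ = g (v * (((b : MulAut U)⁻¹ y : U) : Ω) * v⁻¹)
    rw [hg.apply_conj hv (hUD P ((b : MulAut U)⁻¹ y).2), hge, MulAut.apply_inv_self]
  have hlink := linked_of_conj_le Z L ?hmul ?hinv ?hmono ?hZ ?hprime
  case hmul =>
    rintro P x y - ⟨g, Q, hg, hge⟩ ⟨g', Q', hg', hg'e⟩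
    obtain ⟨Q'', hQ'', -, -⟩ := hg'.restrict (show Q ≤ D (P.map (MulAut.conj x).toMonoidHom) from fun q hq => by
      obtain ⟨v, hv, rfl⟩ := hg.surj hq
      exact himg hg hge v hv)
    exact ⟨_, Q'', hg.comp hQ'', fun u => by
      show g' (g u) = _
      rw [hge, hg'e, Subgroup.coe_mul, MulAut.mul_apply]⟩
  case hinv =>
    rintro P x hPZ - ⟨g, Q, hg, hge⟩
    obtain ⟨g', hg', hl, -⟩ := hg.symm
    have hge' : ∀ u : U, g' u = (((x⁻¹ : A) : MulAut U) u : U) := fun u => by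
      conv_lhs => rw [← MulAut.apply_inv_self U (x : MulAut U) u, ← hge, hl _ (hUD P (SetLike.coe_mem _))]
      rfl
    have hle : D (P.map (MulAut.conj x).toMonoidHom) ≤ Q := by
      intro v' hv'
      obtain ⟨hv'R, hv'n, hv'A⟩ := mem_pre.mp hv'
      have key : (P.map (MulAut.conj x).toMonoidHom).map A.subtype ⊔ Inn U ≤
          (P.map A.subtype ⊔ Inn U).map (MulAut.conj (x : MulAut U)).toMonoidHom := by
        refine sup_le ?_ ?_
        · rintro _ ⟨_, ⟨y, hy, rfl⟩, rfl⟩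
          exact ⟨y, Subgroup.mem_sup_left ⟨y, hy, rfl⟩, rfl⟩
        · intro y hy
          refine ⟨(x : MulAut U)⁻¹ * y * (x : MulAut U)⁻¹⁻¹, Subgroup.mem_sup_right (conj_inn _ hy), ?_⟩
          simp [mul_assoc]
      obtain ⟨α, hα, hαe⟩ := key hv'A
      have hαR : α ∈ autInducedBy R U := hPR P hPZ hα
      obtain ⟨v, hv, hve⟩ := mem_pre_of_induced hα hαR
      have hgv : g v ∈ Q := hg.mem hv
      have hgU : ∀ y, y ∈ U → y ∈ Q := fun y hy => by
        have := hg.mem (hUD P ((x : MulAut U)⁻¹ ⟨y, hy⟩).2)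
        rwa [hge, MulAut.apply_inv_self] at this
      have hd : (g v)⁻¹ * v' ∈ U := by
        refine hself.cent hp.closed.1 ⟨R.mul_mem (R.inv_mem (hg.le_right hgv)) hv'R,
          Subgroup.mem_centralizer_iff.mpr fun y hy => ?_⟩
        let z : U := (x : MulAut U)⁻¹ ⟨y, hy⟩
        have hgz : g z = y := by rw [hge, MulAut.apply_inv_self]
        have h1 : v' * y * v'⁻¹ = ((((x : MulAut U) * α * (x : MulAut U)⁻¹) ⟨y, hy⟩ : U) : Ω) :=
          (congrArg (fun β : MulAut U => ((β ⟨y, hy⟩ : U) : Ω)) hαe).symm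
        have h2 : v' * y * v'⁻¹ = g v * y * (g v)⁻¹ := by
          rw [h1, MulAut.mul_apply, MulAut.mul_apply, ← hge, hve, hg.apply_conj hv (hUD P z.2), hgz]
        calc y * ((g v)⁻¹ * v') = (g v)⁻¹ * (g v * y * (g v)⁻¹) * v' := by group
          _ = (g v)⁻¹ * (v' * y * v'⁻¹) * v' := by rw [h2]
          _ = _ := by group
      have := Q.mul_mem hgv (hgU _ hd)
      rwa [mul_inv_cancel_left] at this
    obtain ⟨Q', hQ', -, -⟩ := hg'.restrict hle
    exact ⟨g', Q', hQ', hge'⟩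
  case hmono =>
    rintro P P' x hle ⟨g, Q, hg, hge⟩
    have h1 : P.map A.subtype ⊔ Inn U ≤ P'.map A.subtype ⊔ Inn U :=
      sup_le ((Subgroup.map_mono hle).trans le_sup_left) le_sup_right
    obtain ⟨Q', hQ', -, -⟩ := hg.restrict (pre_mono (K := R) h1)
    exact ⟨g, Q', hQ', hge⟩
  case hZ =>
    intro z hz
    obtain ⟨r, hr, -, hre⟩ := mem_autInducedBy_iff.mp (hZ.le hz : (z : MulAut U) ∈ autInducedBy R U)
    exact ⟨_, _, isIso_conj (hDR _) hr, fun x => (hre x).symm⟩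
  case hprime =>
    intro P b hPZ hbn hord
    have hAR : P.map A.subtype ⊔ Inn U ≤ autInducedBy R U := hPR P hPZ
    rw [← Subgroup.orderOf_coe] at hord
    obtain ⟨α, hα, hαord, hαe⟩ := hp.common_extension hself hn le_sup_right hAR
      (hp.wAut_le_com hUR b.2) hord fun x hx => by
        have key : P.map A.subtype ⊔ Inn U ≤
            (P.map A.subtype ⊔ Inn U).comap (MulAut.conj (b : MulAut U)).toMonoidHom := sup_le
          (fun x ⟨y, hy, hye⟩ => Subgroup.mem_sup_left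
            ⟨b * y * b⁻¹, (Subgroup.mem_normalizer_iff.mp hbn y).mp hy, hye ▸ rfl⟩)
          (fun x hx => (Subgroup.mem_sup_right (conj_inn _ hx) : (b : MulAut U) * x * (b : MulAut U)⁻¹ ∈ _))
        exact key hx
    obtain ⟨g, hg, hge⟩ := isIso_of_aut (hDR P)
      (gens_wSys (D P) (hself.mono (hUD P) (hDR P)) α hα hαord)
    exact ⟨g, _, hg, fun x => (hge ⟨x, hUD P x.2⟩).symm.trans (hαe x _)⟩
  let P : Subgroup A := (autInducedBy M U).subgroupOf A
  have hMR : M ≤ R := hM.trans normalizerIn_le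
  obtain ⟨g, Q, hg, hge⟩ := hlink P ⟨a, ha⟩
    (fun x hx => hZ.ge (autInducedBy_mono hMR hx)) fun x hx => by
      refine hZ.ge ?_
      obtain ⟨v, hv, hvn, hve⟩ := mem_autInducedBy_iff.mp (hx : (x : MulAut U) ∈ autInducedBy M U)
      show a * (x : MulAut U) * a⁻¹ ∈ autInducedBy R U
      rw [show (x : MulAut U) = U.normalizerMonoidHom ⟨v, hvn⟩ from MulEquiv.ext fun y => Subtype.ext (hve y)]
      exact hcond v hv hvn
  obtain ⟨Q', hQ', -, -⟩ := hg.restrict (show M ≤ D P from fun v hv => mem_pre.mpr ⟨hMR hv, (hM hv).2,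
    Subgroup.mem_sup_left ⟨⟨_, (Subgroup.mem_sup_right (mem_autInducedBy_iff.mpr ⟨v, hMR hv, (hM hv).2, fun _ => rfl⟩)
        : U.normalizerMonoidHom ⟨v, (hM hv).2⟩ ∈ A)⟩,
      mem_autInducedBy_iff.mpr ⟨v, hv, (hM hv).2, fun _ => rfl⟩, rfl⟩⟩)
  exact ⟨g, Q', hQ', hge⟩

end IsPair

end Cfsg.FusionSystem.Wedge
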