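import Cfsg.Agent.Lib.Fusion.Wedge.Converse

/-!
Maps of the generated system defined above a fully normalised subgroup `U` can be enlarged inside `N_R(U)` as far
as a map of the ambient system allows, keeping their restriction to `U`.
-/

set_option autoImplicit false
set_option linter.unusedSectionVars false
set_option linter.style.haveILetI false

namespace Cfsg.FusionSystem.Wedge

open Cfsg.FusionSystem.SubCent (image_self isIso_self map_centralizer le_sylow)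

universe u

variable {Ω : Type u} [Group Ω] {S T T₁ T₂ : Subgroup Ω} {F : FusionSystem S} {G : FusionSystem T}
  {E₁ : FusionSystem T₁} {E₂ : FusionSystem T₂} {U V P Q X : Subgroup Ω} {f g : Ω → Ω} {p : ℕ}

/-- Extension of maps onto `X'` under the transport condition. -/
def GenExt (F : FusionSystem S) (p : ℕ) (E₁ : FusionSystem T₁) (E₂ : FusionSystem T₂) (X' : Subgroup Ω) : Prop :=
  ∀ (X M : Subgroup Ω) (e : Ω → Ω), (wSys F p E₁ E₂).IsIso X X' e → X ≤ M → M ≤ normalizerIn (T₁ ⊓ T₂) X →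
    (∀ v ∈ M, ∃ k ∈ T₁ ⊓ T₂, ∀ x ∈ X, e (v * x * v⁻¹) = k * e x * k⁻¹) →
    ∃ g M', (wSys F p E₁ E₂).IsIso M M' g ∧ ∀ x ∈ X, g x = e x

/-- A map of the normaliser system of `U` preserves `U`. -/
theorem normalizerSystem_pres {hU : U ≤ S} (h : (F.normalizerSystem U hU).IsIso P Q f) (hUP : U ≤ P) :
    ∀ x ∈ U, f x ∈ U := by
  intro x hx
  obtain ⟨φ, ⟨-, -, -, ψ, -, hψe, hψU⟩, -, he⟩ := h
  rw [← he ⟨x, hUP hx⟩, ← hψe ⟨x, hUP hx⟩]
  exact hψU.le ⟨_, (show (Subgroup.inclusion le_sup_left (⟨x, hUP hx⟩ : P) : ↥(P ⊔ U)) ∈ U.subgroupOf (P ⊔ U)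
    from hx), rfl⟩

theorem autGroup_normalizerSystem (hU : U ≤ S) (hUX : U ≤ X) (hXN : X ≤ normalizerIn S U) [Finite S] :
    (F.normalizerSystem U hU).autGroup X = stabAut F X U := by
  have hXS : X ≤ S := hXN.trans normalizerIn_le
  set N := F.normalizerSystem U hU with hN
  ext α
  constructor
  · intro hα
    obtain ⟨φ, hφ, -, hφe⟩ := N.exists_map_of_mem_autGroup hXN hα
    refine ⟨F.mem_autGroup_of_map hφ.1 fun x => (hφe x).symm, fun x => ?_⟩
    obtain ⟨f, hf, hfe⟩ := isIso_of_aut hXN hα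
    rw [hfe]
    constructor
    · intro hx
      obtain ⟨z, hz, he⟩ := (image_self (hf.mono (fun P φ h => h.1)) hUX (normalizerSystem_pres hf hUX) _).mp hx
      exact hf.inj (hUX hz) x.2 he ▸ hz
    · exact fun hx => normalizerSystem_pres hf hUX _ hx
  · rintro ⟨hα, hαU⟩
    obtain ⟨φ, hφ, hr, hφe⟩ := F.exists_map_of_mem_autGroup hXS hα
    have hXU : X ⊔ U = X := sup_eq_left.mpr hUX
    refine N.mem_autGroup_of_map (φ := φ) ⟨hφ, hXN, fun x => hXN (hr.le ⟨x, rfl⟩),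
      φ.comp (Subgroup.inclusion hXU.le), F.restrict_mem hφ hXU.le, fun x => rfl, ?_⟩ fun x => (hφe x).symm
    ext y
    constructor
    · rintro ⟨z, hz, rfl⟩
      show φ (Subgroup.inclusion hXU.le z) ∈ U
      rw [hφe]
      exact (hαU _).mpr hz
    · intro hy
      obtain ⟨x, hx⟩ := α.surjective ⟨y, hUX hy⟩
      refine ⟨Subgroup.inclusion hXU.ge x, (hαU x).mp (by rw [hx]; exact hy), ?_⟩
      show φ _ = y
      rw [hφe]
      exact congrArg Subtype.val (show α _ = _ from hx)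

variable [Finite S] [Fact p.Prime]

/-- Moving a conjugate onto a fully normalised subgroup. -/
theorem exists_norm_map (hT : IsPGroup p T) [Finite T] (hG : G.IsSaturated p) (hP : G.IsFullyNormalized P)
    (hQ : G.IsConj Q P) :
    ∃ s D, G.IsIso (normalizerIn T Q) D s ∧ D ≤ normalizerIn T P ∧ ∀ y, y ∈ P ↔ ∃ x ∈ Q, s x = y := by
  obtain ⟨φ, hφ, hr, ψ, hψ, hψN, hψe⟩ := hG.exists_map_to_fullyNormalized hT hP hQ
  have hQT : Q ≤ T := hQ.le_left
  have he : ∀ x : Q, funOf ψ x = φ x := fun x => by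
    rw [← funOf_apply ψ ⟨x, le_normalizerIn hQT x.2⟩]
    exact hψe x _
  refine ⟨funOf ψ, ψ.range, isIso_funOf hψ, by rintro _ ⟨x, rfl⟩; exact hψN x, fun y => ?_⟩
  constructor
  · intro hy
    obtain ⟨x, hx⟩ := hr.ge hy
    exact ⟨x, x.2, (he x).trans hx⟩
  · rintro ⟨x, hx, rfl⟩
    exact hr.le ⟨⟨x, hx⟩, (he ⟨x, hx⟩).symm⟩

namespace IsPair

variable (hp : IsPair F p E₁ E₂)
include hp

set_option maxHeartbeats 800000 in
/-- An automorphism of `X` fixing `U` commutes with the action of `N_R(U) ∩ N(X)` up to `U`. -/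
theorem commute_mod (hself : Self F (T₁ ⊓ T₂) U) (hn : F.IsFullyNormalized U) (hUX : U ≤ X)
    (hX : X ≤ normalizerIn (T₁ ⊓ T₂) U) {k : Ω → Ω} (hk : F.IsIso X X k) (hkU : ∀ x ∈ U, k x = x) {y : Ω}
    (hy : y ∈ normalizerIn (T₁ ⊓ T₂) U) (hyX : y ∈ Subgroup.normalizer (X : Set Ω)) :
    ∃ z ∈ U, ∀ x ∈ X, k (y * x * y⁻¹) = (z * y) * k x * (z * y)⁻¹ := by
  classical
  set R := T₁ ⊓ T₂
  have hUS : U ≤ S := hn.1
  have hRS : R ≤ S := hp.closed.1
  set N := F.normalizerSystem U hUS with hN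
  haveI := finite_normalizerIn (S := S) (P := U)
  have hNp : IsPGroup p (normalizerIn S U) := hp.pgroup.to_le normalizerIn_le
  have hNs : N.IsSaturated p := hp.sat.isSaturated_normalizerSystem hp.pgroup hn (fun _ => rfl)
  have hNF : N.IsSubsystemOf F := fun P φ h => h.1
  have hXN : X ≤ normalizerIn S U := fun x hx => ⟨hRS (hX hx).1, (hX hx).2⟩
  obtain ⟨Xf, hXf, hXfn⟩ := N.exists_isFullyNormalized hXN
  obtain ⟨θ, D, hθ, -, hθX⟩ := exists_norm_map hNp hNs hXfn hXf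
  have hXdom : X ≤ normalizerIn (normalizerIn S U) X := le_normalizerIn hXN
  have hθU : ∀ x ∈ U, θ x ∈ U := normalizerSystem_pres hθ (hUX.trans hXdom)
  have hθF := hθ.mono hNF
  have hθimg := image_self hθF (hUX.trans hXdom) hθU
  have hθiso : F.IsIso X Xf θ := hθF.restrict' hXdom hθX
  obtain ⟨θ', hθ', hl, hr⟩ := hθiso.symm
  have hUXf : U ≤ Xf := fun u hu => by
    obtain ⟨v, hv, rfl⟩ := (hθimg u).mp hu
    exact hθiso.mem (hUX hv)
  have hXfR : Xf ≤ normalizerIn R U := fun v hv => by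
    obtain ⟨x, hx, rfl⟩ := hθiso.surj hv
    exact ⟨hp.closed.iso_mem hθiso hx (hX hx).1, (hXfn.1 hv).2⟩
  -- the transported automorphism
  have hk' : F.IsIso Xf Xf (fun v => θ (k (θ' v))) := (hθ'.comp hk).comp hθiso
  have hk'U : ∀ v ∈ U, θ (k (θ' v)) = v := fun v hv => by
    obtain ⟨u, hu, rfl⟩ := (hθimg v).mp hv
    rw [hl u (hUX hu), hkU u hu]
  obtain ⟨κ, hκ, hκe⟩ := hk'.toAut
  haveI := finite_of_le hXfn.1
  haveI := finite_of_le (hXfR.trans normalizerIn_le |>.trans hRS)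
  haveI := finite_mulAut_of_le (hXfR.trans normalizerIn_le |>.trans hRS)
  have hκst : κ ∈ stabAut F Xf U := ⟨hκ, fun x => by
    constructor
    · intro hx
      rw [hκe] at hx
      have h2 : ((x : Ω)) = θ (k (θ' x)) := hk'.inj x.2 (hUXf hx) (hk'U _ hx).symm
      exact h2 ▸ hx
    · intro hx
      rw [hκe, hk'U _ hx]
      exact hx⟩
  obtain ⟨-, P, hP⟩ := hNs.isFullyAutomized_of_isFullyNormalized hNp hXfn
  have hGA : N.autGroup Xf = stabAut F Xf U := autGroup_normalizerSystem hUS hUXf hXfn.1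
  let κ' : N.autGroup Xf := ⟨κ, hGA.ge hκst⟩
  let K : Subgroup (N.autGroup Xf) :=
    { carrier := {a | ∀ x : Xf, (x : Ω) ∈ U → (a : MulAut Xf) x = x}
      one_mem' := fun x _ => rfl
      mul_mem' := fun {a b} ha hb x hx => by
        show (a : MulAut Xf) ((b : MulAut Xf) x) = x
        rw [hb x hx, ha x hx]
      inv_mem' := fun {a} ha x hx => by
        show (a : MulAut Xf)⁻¹ x = x
        conv_lhs => rw [← ha x hx]
        rw [MulAut.inv_apply_self] }
  have hKn : K.Normal := ⟨fun a ha b x hx => by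
    show (b : MulAut Xf) ((a : MulAut Xf) ((b : MulAut Xf)⁻¹ x)) = x
    have hbx : (((b : MulAut Xf)⁻¹ x : Xf) : Ω) ∈ U := by
      have := ((hGA.le b.2).2 ((b : MulAut Xf)⁻¹ x)).mp (by rwa [MulAut.apply_inv_self])
      exact this
    rw [ha _ hbx, MulAut.apply_inv_self]⟩
  have hKp : IsPGroup p K := by
    intro a
    obtain ⟨e, he⟩ := pow_eq_one_of_fixing hp.pgroupR hXfR hUXf (hself.cent hRS)
      (k := ((a : N.autGroup Xf) : MulAut Xf)) a.2
    exact ⟨e, Subtype.ext (Subtype.ext he)⟩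
  haveI : Finite (N.autGroup Xf) := inferInstance
  have hκK : κ' ∈ (P : Subgroup (N.autGroup Xf)) := le_sylow P hKn hKp fun x hx => by
    apply Subtype.ext
    show ((κ x : Xf) : Ω) = x
    rw [hκe, hk'U _ hx]
  obtain ⟨s, hs, hsn, hse⟩ := mem_autInducedBy_iff.mp (hP.le hκK : κ ∈ autInducedBy (normalizerIn S U) Xf)
  have hsC : ∀ u ∈ U, s * u * s⁻¹ = u := fun u hu => by
    exact (hse ⟨u, hUXf hu⟩).symm.trans ((hκe _).trans (hk'U u hu))
  have hyN : y ∈ normalizerIn S U := ⟨hRS hy.1, hy.2⟩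
  have hydom : y ∈ normalizerIn (normalizerIn S U) X := ⟨hyN, hyX⟩
  set y' := θ y
  have hy'R : y' ∈ R := hp.closed.iso_mem hθF hydom hy.1
  have hy'U : y' ∈ Subgroup.normalizer (U : Set Ω) :=
    hθF.mem_normalizer (hUX.trans hXdom) hθimg hydom hy.2
  set z' := s * y' * s⁻¹ * y'⁻¹ with hz'
  have hz'U : z' ∈ U := by
    refine hself.cent hRS ⟨R.mul_mem (hp.closed.conj_mem_of_mem hs.1 hy'R) (R.inv_mem hy'R),
      Subgroup.mem_centralizer_iff.mpr fun u hu => ?_⟩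
    have h1 : z' * u * z'⁻¹ = u := by
      rw [hz']
      have e1 : y'⁻¹ * u * y' ∈ U := (Subgroup.mem_normalizer_iff''.mp hy'U u).mp hu
      have e2 : s⁻¹ * (y'⁻¹ * u * y') * s = y'⁻¹ * u * y' := by
        have := hsC _ e1
        calc s⁻¹ * (y'⁻¹ * u * y') * s = s⁻¹ * (s * (y'⁻¹ * u * y') * s⁻¹) * s := by rw [this]
          _ = _ := by group
      calc s * y' * s⁻¹ * y'⁻¹ * u * (s * y' * s⁻¹ * y'⁻¹)⁻¹
          = s * (y' * (s⁻¹ * (y'⁻¹ * u * y') * s) * y'⁻¹) * s⁻¹ := by group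
        _ = s * (y' * (y'⁻¹ * u * y') * y'⁻¹) * s⁻¹ := by rw [e2]
        _ = s * u * s⁻¹ := by group
        _ = u := hsC u hu
    calc u * z' = (z' * u * z'⁻¹) * z' := by rw [h1]
      _ = z' * u := by group
  obtain ⟨z, hz, hze⟩ := (hθimg _).mp hz'U
  refine ⟨z, hz, fun x hx => hθiso.inj (hk.mem ?_) ?_ ?_⟩
  · exact (Subgroup.mem_normalizer_iff.mp hyX x).mp hx
  · exact (Subgroup.mem_normalizer_iff.mp ((Subgroup.normalizer _).mul_mem
      (Subgroup.le_normalizer (hUX hz)) hyX) _).mp (hk.mem hx)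
  have hzy : z * y ∈ normalizerIn (normalizerIn S U) X :=
    (normalizerIn (normalizerIn S U) X).mul_mem (hXdom (hUX hz)) hydom
  have hyx : y * x * y⁻¹ ∈ X := (Subgroup.mem_normalizer_iff.mp hyX x).mp hx
  rw [hθF.apply_conj hzy (hXdom (hk.mem hx)), hθF.apply_mul (hXdom (hUX hz)) hydom, hze]
  conv_lhs => rw [← hl _ hyx]
  have h2 : ∀ v ∈ Xf, θ (k (θ' v)) = s * v * s⁻¹ := fun v hv => (hκe ⟨v, hv⟩).symm.trans (hse _)
  rw [h2 _ (hθiso.mem hyx), hθF.apply_conj hydom (hXdom hx), ← hl x hx, h2 _ (hθiso.mem hx), hl x hx, hz', show y' = θ y from rfl]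
  group

set_option maxHeartbeats 800000 in
/-- Enlarging a map of the generated system. -/
theorem enlarge (hself : Self F (T₁ ⊓ T₂) U) (hn : F.IsFullyNormalized U) {Y Y' : Subgroup Ω} {γ : Ω → Ω}
    (hY : Y ≤ normalizerIn (T₁ ⊓ T₂) U) (hγ : F.IsIso Y Y' γ)
    (hgen : ∀ X', Self F (T₁ ⊓ T₂) X' → Nat.card U < Nat.card X' → GenExt F p E₁ E₂ X') :
    ∀ (X X' : Subgroup Ω) (e : Ω → Ω), U < X → X ≤ Y → (wSys F p E₁ E₂).IsIso X X' e →
      (∀ x ∈ U, e x = γ x) → ∃ e' Y'', (wSys F p E₁ E₂).IsIso Y Y'' e' ∧ ∀ x ∈ U, e' x = γ x := by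
  classical
  set R := T₁ ⊓ T₂
  set W := wSys F p E₁ E₂
  have hRS : R ≤ S := hp.closed.1
  have hYR : Y ≤ R := hY.trans normalizerIn_le
  haveI := finite_of_le (hYR.trans hRS)
  intro X
  induction hd : Nat.card Y - Nat.card X using Nat.strong_induction_on generalizing X with
  | _ d ih =>
  intro X' e hUX hXY he heU
  rcases eq_or_lt_of_le hXY with rfl | hlt
  · exact ⟨e, X', he, heU⟩
  have hUY : U ≤ Y := hUX.le.trans hXY
  have hXR : X ≤ normalizerIn R U := hXY.trans hY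
  set X₁ := normalizerIn Y X
  have hX₁ : X < X₁ := lt_normalizerIn (hp.pgroup.to_le (hYR.trans hRS)) hlt
  have heF := he.mono hp.sub
  obtain ⟨U', hU', -, hU'm⟩ := hγ.restrict hUY
  have hU'self := hself.conj hp.closed hU'
  obtain ⟨Xγ, hXγ, -, hXγm⟩ := hγ.restrict hXY
  have heimg : ∀ y, y ∈ U' ↔ ∃ x ∈ U, e x = y := fun y => (hU'm y).trans
    ⟨fun ⟨x, hx, h⟩ => ⟨x, hx, (heU x hx).trans h⟩, fun ⟨x, hx, h⟩ => ⟨x, hx, (heU x hx).symm.trans h⟩⟩
  have hXγR : Xγ ≤ R := hp.closed.iso_le hXγ (hXR.trans normalizerIn_le)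
  have hsub : X' ≤ Xγ := by
    intro v hv
    obtain ⟨x, hx, rfl⟩ := he.surj hv
    have hd : (γ x)⁻¹ * e x ∈ U' := by
      refine hU'self.cent hRS ⟨R.mul_mem (R.inv_mem (hXγR (hXγ.mem hx))) (he.le_right (he.mem hx)),
        Subgroup.mem_centralizer_iff.mpr fun y hy => ?_⟩
      obtain ⟨u, hu, rfl⟩ := (hU'm y).mp hy
      have hu' : x * u * x⁻¹ ∈ U := (Subgroup.mem_normalizer_iff.mp (hXR hx).2 u).mp hu
      have h1 := (heU _ hu').symm.trans rfl
      rw [hγ.apply_conj (hXY hx) (hUY hu), heF.apply_conj hx (hUX.le hu), heU u hu] at h1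
      calc γ u * ((γ x)⁻¹ * e x) = (γ x)⁻¹ * (γ x * γ u * (γ x)⁻¹) * e x := by group
        _ = (γ x)⁻¹ * (e x * γ u * (e x)⁻¹) * e x := by rw [h1]
        _ = _ := by group
    obtain ⟨u, hu, hue⟩ := (hU'm _).mp hd
    have := Xγ.mul_mem (hXγ.mem hx) (hue ▸ hXγ.mem (hUX.le hu))
    rwa [mul_inv_cancel_left] at this
  have hXX : X' = Xγ := by
    haveI := finite_of_le (hXγR.trans hRS)
    exact Subgroup.eq_of_le_of_card_ge hsub (hXγ.card_eq.symm.trans he.card_eq).le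
  subst hXX
  obtain ⟨γ', hγ', hl, hr⟩ := hXγ.symm
  have hk : F.IsIso X X (fun x => γ' (e x)) := heF.comp hγ'
  have hkU : ∀ x ∈ U, γ' (e x) = x := fun x hx => by rw [heU x hx, hl x (hUX.le hx)]
  have hX'self : Self F R X' := hU'self.mono (fun y hy => by
    obtain ⟨x, hx, rfl⟩ := (heimg y).mp hy
    exact he.mem (hUX.le hx)) hXγR
  have hcard : Nat.card U < Nat.card X' := by
    rw [← he.card_eq]
    haveI := finite_of_le ((hXR.trans normalizerIn_le).trans hRS)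
    exact card_lt_of_lt hUX
  obtain ⟨e₁, X₁', he₁, he₁e⟩ := hgen X' hX'self hcard X X₁ e he hX₁.le
    (fun v hv => ⟨hYR hv.1, hv.2⟩) (by
      intro v hv
      obtain ⟨z, hz, hze⟩ := hp.commute_mod hself hn hUX.le hXR hk hkU (hY hv.1) hv.2
      have hzv : z * v ∈ Y := Y.mul_mem (hUY hz) hv.1
      refine ⟨γ (z * v), hp.closed.iso_mem hγ hzv (hYR hzv), fun x hx => ?_⟩
      have hvx : v * x * v⁻¹ ∈ X := (Subgroup.mem_normalizer_iff.mp hv.2 x).mp hx
      have h1 := congrArg γ (hze x hx)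
      rw [hγ.apply_conj hzv (hXY (hk.mem hx))] at h1
      rwa [hr _ (he.mem hvx), hr _ (he.mem hx)] at h1)
  haveI := finite_of_le (normalizerIn_le : X₁ ≤ Y)
  have hd1 := card_lt_of_lt hX₁
  have hd2 : Nat.card X₁ ≤ Nat.card Y := Subgroup.card_le_of_le normalizerIn_le
  exact ih _ (by omega) X₁ rfl X₁' e₁ (hUX.trans hX₁) normalizerIn_le he₁
    fun x hx => (he₁e x (hUX.le hx)).trans (heU x hx)

end IsPair

end Cfsg.FusionSystem.Wedge
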