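import Cfsg.Agent.Lib.Fusion.Saturation
import Cfsg.Agent.Lib.Fusion.SubCent.Basic
import Cfsg.Agent.Lib.PResidual
import Cfsg.Agent.Lib.Fusion.Alperin

/-!
Finite group lemmas used for intersections of normal subsystems: Sylow subgroups of preimages, lifting of
elements of order prime to `p` into normalisers, and Alperin's conjugation principle in the form "every element
moving a subgroup of a Sylow subgroup back into it is linked".
-/

set_option autoImplicit false
set_option linter.unusedSectionVars false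

open scoped Pointwise

namespace Cfsg.FusionSystem.Wedge

universe u v

variable {G : Type u} [Group G] [Finite G] {p : ℕ} [hp : Fact p.Prime]

theorem card_map_conj (X : Subgroup G) (a : G) :
    Nat.card ↥(X.map (MulAut.conj a).toMonoidHom) = Nat.card X :=
  Subgroup.card_map_of_injective (MulAut.conj a).injective

/-- The intersection of a Sylow subgroup with a normal subgroup is maximal among its `p`-subgroups. -/
theorem le_of_normal_pSubgroup (P : Sylow p G) {K X : Subgroup G} [K.Normal] (hX : IsPGroup p X) (hXK : X ≤ K)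
    (hle : (P : Subgroup G) ⊓ K ≤ X) : X ≤ (P : Subgroup G) := by
  obtain ⟨a, ha⟩ := exists_conj_mem_sylow P hX
  have h1 : X.map (MulAut.conj a).toMonoidHom ≤ (P : Subgroup G) ⊓ K := by
    rintro _ ⟨x, hx, rfl⟩
    exact ⟨ha x hx, (inferInstance : K.Normal).conj_mem x (hXK hx) a⟩
  have h2 : X = (P : Subgroup G) ⊓ K := by
    refine (Subgroup.eq_of_le_of_card_ge hle ?_).symm
    rw [← card_map_conj X a]
    exact Subgroup.card_le_of_le h1
  exact h2.le.trans inf_le_left

/-- `n` of order prime to `p` in `H ⊔ P`, `H` normal and `P` a `p`-group, lies in `H`. -/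
theorem mem_of_coprime_sup {H P : Subgroup G} [H.Normal] (hP : IsPGroup p P) {n : G} (hn : n ∈ P ⊔ H)
    (hord : ¬ p ∣ orderOf n) : n ∈ H := by
  obtain ⟨k, hk⟩ := CfsgLib.PResidual.pow_mem_sylow_sup hP hn
  exact CfsgLib.PResidual.mem_of_pow_mem ((Nat.Prime.coprime_iff_not_dvd hp.out).mpr hord).symm hk

/-- An element whose image has order prime to `p` has a power of order prime to `p` with the same image. -/
theorem exists_pow_pprime {A : Type v} [Group A] (f : G →* A) (h : G) (hord : ¬ p ∣ orderOf (f h)) :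
    ∃ k : ℕ, ¬ p ∣ orderOf (h ^ k) ∧ f (h ^ k) = f h := by
  obtain ⟨e, he⟩ := SubCent.prime_part (p := p) h
  have hc : (p ^ e).Coprime (orderOf (f h)) :=
    ((Nat.Prime.coprime_iff_not_dvd hp.out).mpr hord).pow_left e
  obtain ⟨m, hm⟩ := exists_pow_eq_self_of_coprime hc
  refine ⟨p ^ e * m, ?_, ?_⟩
  · rw [pow_mul]
    exact fun hd => he (hd.trans (orderOf_pow_dvd m))
  · rw [map_pow, pow_mul]
    exact hm

/-- Lifting an element into the normaliser of a Sylow subgroup. -/
theorem exists_lift_normalizer {A : Type v} [Group A] (f : G →* A) (P : Sylow p G) (h : G)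
    (hn : f h ∈ Subgroup.normalizer (((P : Subgroup G).map f : Subgroup A) : Set A)) :
    ∃ n ∈ Subgroup.normalizer ((P : Subgroup G) : Set G), f n = f h := by
  let M : Subgroup G := ((P : Subgroup G).map f).comap f
  have hPM : (P : Subgroup G) ≤ M := fun x hx => ⟨x, hx, rfl⟩
  let P' : Sylow p G := MulAut.conj h • P
  have hP' : (P' : Subgroup G) ≤ M := by
    intro x hx
    rw [Sylow.pointwise_smul_def, Subgroup.mem_pointwise_smul_iff_inv_smul_mem] at hx
    show f x ∈ (P : Subgroup G).map f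
    have h1 : f ((MulAut.conj h)⁻¹ • x) ∈ (P : Subgroup G).map f := ⟨_, hx, rfl⟩
    have h2 := (Subgroup.mem_normalizer_iff.mp hn _).mp h1
    simpa [MulAut.smul_def, mul_assoc] using h2
  obtain ⟨m, hm⟩ := MulAction.exists_smul_eq M (P'.subtype hP') (P.subtype hPM)
  have hm' : MulAut.conj (m : G) • P' = P := by
    have h1 := congrArg (fun Q : Sylow p M => (Q : Subgroup M).map M.subtype) hm
    simp only [Sylow.coe_subgroup_smul, Sylow.coe_subtype] at h1
    apply Sylow.ext
    rw [Sylow.pointwise_smul_def]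
    ext x
    constructor
    · intro hx
      rw [Subgroup.mem_pointwise_smul_iff_inv_smul_mem] at hx
      have hxM : x ∈ M := by
        have := M.mul_mem (M.mul_mem m.2 (hP' hx)) (M.inv_mem m.2)
        simpa [MulAut.smul_def, mul_assoc] using this
      have h2 : (⟨x, hxM⟩ : M) ∈ MulAut.conj m • ((P' : Subgroup G).subgroupOf M) := by
        rw [Subgroup.mem_pointwise_smul_iff_inv_smul_mem]
        simpa [MulAut.smul_def, Subgroup.mem_subgroupOf] using hx
      have h3 : x ∈ (MulAut.conj m • ((P' : Subgroup G).subgroupOf M)).map M.subtype := ⟨_, h2, rfl⟩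
      rw [h1] at h3
      obtain ⟨y, hy, rfl⟩ := h3
      exact hy
    · intro hx
      have h3 : x ∈ ((P : Subgroup G).subgroupOf M).map M.subtype := ⟨⟨x, hPM hx⟩, hx, rfl⟩
      rw [← h1] at h3
      obtain ⟨y, hy, rfl⟩ := h3
      rw [Subgroup.mem_pointwise_smul_iff_inv_smul_mem]
      rw [SetLike.mem_coe, Subgroup.mem_pointwise_smul_iff_inv_smul_mem] at hy
      simpa [MulAut.smul_def, Subgroup.mem_subgroupOf] using hy
  obtain ⟨q, hq, hqe⟩ : f (m : G) ∈ (P : Subgroup G).map f := m.2
  refine ⟨q⁻¹ * ((m : G) * h), mul_mem (InvMemClass.inv_mem (Subgroup.le_normalizer hq)) ?_, ?_⟩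
  · have : MulAut.conj ((m : G) * h) • P = P := by rw [map_mul, mul_smul]; exact hm'
    exact Sylow.smul_eq_iff_mem_normalizer.mp this
  · rw [map_mul, map_mul, map_inv, hqe, inv_mul_cancel_left]

/-- Alperin's principle. -/
theorem linked_of_conj_le (Z : Sylow p G) (L : Subgroup G → G → Prop)
    (hmul : ∀ (P : Subgroup G) (a b : G), (∀ x ∈ P, a * x * a⁻¹ ∈ (Z : Subgroup G)) → L P a →
      L (P.map (MulAut.conj a).toMonoidHom) b → L P (b * a))
    (hinv : ∀ (P : Subgroup G) (a : G), P ≤ (Z : Subgroup G) → (∀ x ∈ P, a * x * a⁻¹ ∈ (Z : Subgroup G)) →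
      L P a → L (P.map (MulAut.conj a).toMonoidHom) a⁻¹)
    (hmono : ∀ (P P' : Subgroup G) (a : G), P ≤ P' → L P' a → L P a)
    (hZ : ∀ z ∈ (Z : Subgroup G), L (Z : Subgroup G) z)
    (hprime : ∀ (P : Subgroup G) (b : G), P ≤ (Z : Subgroup G) → b ∈ Subgroup.normalizer (P : Set G) →
      ¬ p ∣ orderOf b → L P b) :
    ∀ (P : Subgroup G) (b : G), P ≤ (Z : Subgroup G) → (∀ x ∈ P, b * x * b⁻¹ ∈ (Z : Subgroup G)) → L P b := by
  classical
  suffices H : ∀ (j : ℕ) (P : Subgroup G) (b : G), P ≤ (Z : Subgroup G) →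
      Nat.card (Z : Subgroup G) - Nat.card P ≤ j → (∀ x ∈ P, b * x * b⁻¹ ∈ (Z : Subgroup G)) → L P b from
    fun P b hP hb => H _ P b hP le_rfl hb
  intro j
  induction j using Nat.strong_induction_on with
  | _ j ih =>
  intro P b hPZ hj hb
  have conjEq : ∀ (Q : Subgroup G) (a : G), a ∈ Subgroup.normalizer (Q : Set G) →
      Q.map (MulAut.conj a).toMonoidHom = Q := by
    intro Q a ha
    ext y
    constructor
    · rintro ⟨x, hx, rfl⟩; exact (Subgroup.mem_normalizer_iff.mp ha x).mp hx
    · intro hy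
      exact ⟨a⁻¹ * y * a, (Subgroup.mem_normalizer_iff''.mp ha y).mp hy, by simp [mul_assoc]⟩
  -- tame subgroups: the normaliser is linked
  have tame : ∀ Q : Subgroup G, Q ≤ (Z : Subgroup G) →
      (∀ a : G, (∀ x ∈ Q, a * x * a⁻¹ ∈ (Z : Subgroup G)) →
        Nat.card ↥((Z : Subgroup G) ⊓ Subgroup.normalizer ((Q.map (MulAut.conj a).toMonoidHom : Subgroup G) : Set G)) ≤
          Nat.card ↥((Z : Subgroup G) ⊓ Subgroup.normalizer (Q : Set G))) →
      ∃ Y : Sylow p ↥(Subgroup.normalizer (Q : Set G)),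
        (Y : Subgroup ↥(Subgroup.normalizer (Q : Set G))) = (Z : Subgroup G).subgroupOf _ ∧
        ∀ n ∈ Subgroup.normalizer (Q : Set G), L Q n := by
    intro Q hQZ hmax
    set N := Subgroup.normalizer (Q : Set G)
    have hp1 : IsPGroup p ↥((Z : Subgroup G).subgroupOf N) :=
      Z.2.comap_of_injective N.subtype Subtype.coe_injective
    obtain ⟨Y, hY⟩ := hp1.exists_le_sylow
    have hYQ : Q.subgroupOf N ≤ (Y : Subgroup N) := fun x hx => hY (hQZ hx)
    obtain ⟨c, hc⟩ := exists_conj_mem_sylow Z (X := (Y : Subgroup N).map N.subtype) (Y.2.map _)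
    have hcQ : ∀ x ∈ Q, c * x * c⁻¹ ∈ (Z : Subgroup G) := fun x hx =>
      hc x ⟨⟨x, Subgroup.le_normalizer hx⟩, hYQ hx, rfl⟩
    have hYe : (Y : Subgroup N) = (Z : Subgroup G).subgroupOf N := by
      refine (Subgroup.eq_of_le_of_card_ge hY ?_).symm
      have h1 : Nat.card ↥((Z : Subgroup G).subgroupOf N) = Nat.card ↥((Z : Subgroup G) ⊓ N) := by
        rw [← show Nat.card ↥(((Z : Subgroup G).subgroupOf N).map N.subtype) = Nat.card ↥((Z : Subgroup G).subgroupOf N) from Subgroup.card_map_of_injective N.subtype_injective,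
          Subgroup.subgroupOf, Subgroup.map_comap_eq, Subgroup.range_subtype, inf_comm]
      rw [h1]
      refine le_trans ?_ (hmax c hcQ)
      refine Nat.card_le_card_of_injective
        (fun y : (Y : Subgroup N) => (⟨c * (y : N) * c⁻¹, hc _ ⟨y, y.2, rfl⟩, ?_⟩ :
          ↥((Z : Subgroup G) ⊓ Subgroup.normalizer ((Q.map (MulAut.conj c).toMonoidHom : Subgroup G) : Set G))))
        fun a b h => Subtype.ext (Subtype.ext (by simpa using congrArg Subtype.val h))
      exact Subgroup.le_normalizer_map (MulAut.conj c).toMonoidHom ⟨(y : N), (y : N).2, rfl⟩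
    refine ⟨Y, hYe, fun n hn => ?_⟩
    let K : Subgroup N :=
      { carrier := {a | L Q a}
        one_mem' := by
          exact hmono Q _ _ hQZ (hZ 1 (one_mem _))
        mul_mem' := by
          intro a b ha hb
          show L Q ((a : G) * b)
          refine hmul Q b a (fun x hx => hQZ ((Subgroup.mem_normalizer_iff.mp b.2 x).mp hx)) hb ?_
          rwa [conjEq Q b b.2]
        inv_mem' := by
          intro a ha
          have := hinv Q a hQZ (fun x hx => hQZ ((Subgroup.mem_normalizer_iff.mp a.2 x).mp hx)) ha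
          rwa [conjEq Q a a.2] at this }
    have : K = ⊤ := SubCent.eq_top_of_sylow_of_pprime K Y
      (fun a ha => by rw [hYe] at ha; exact hmono Q _ _ hQZ (hZ _ ha))
      fun a ha => hprime Q _ hQZ a.2 (by rwa [Subgroup.orderOf_coe])
    exact (this.ge (Subgroup.mem_top ⟨n, hn⟩) :)
  -- a tame conjugate
  obtain ⟨c₀, hc₀, hc₀max⟩ := Set.exists_max_image {a : G | ∀ x ∈ P, a * x * a⁻¹ ∈ (Z : Subgroup G)}
    (fun a => Nat.card ↥((Z : Subgroup G) ⊓
      Subgroup.normalizer ((P.map (MulAut.conj a).toMonoidHom : Subgroup G) : Set G)))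
    (Set.toFinite _) ⟨1, fun x hx => by simpa using hPZ hx⟩
  set Q := P.map (MulAut.conj c₀).toMonoidHom with hQ
  have hQZ : Q ≤ (Z : Subgroup G) := by rintro _ ⟨x, hx, rfl⟩; exact hc₀ x hx
  have mapmap : ∀ (a b : G) (A : Subgroup G),
      (A.map (MulAut.conj a).toMonoidHom).map (MulAut.conj b).toMonoidHom =
        A.map (MulAut.conj (b * a)).toMonoidHom := fun a b A => by
    rw [Subgroup.map_map]; congr 1; ext x; simp [mul_assoc]
  obtain ⟨Y, hY, hN⟩ := tame Q hQZ fun a ha => by
    rw [hQ, mapmap]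
    refine hc₀max (a * c₀) fun x hx => ?_
    simpa [mul_assoc] using ha _ ⟨x, hx, rfl⟩
  -- from every conjugate in `Z` to `Q`
  have toQ : ∀ a : G, (∀ x ∈ P, a * x * a⁻¹ ∈ (Z : Subgroup G)) →
      ∃ d : G, L (P.map (MulAut.conj a).toMonoidHom) d ∧
        (P.map (MulAut.conj a).toMonoidHom).map (MulAut.conj d).toMonoidHom = Q := by
    intro a ha
    set P1 := P.map (MulAut.conj a).toMonoidHom with hP1
    have hP1Z : P1 ≤ (Z : Subgroup G) := by rintro _ ⟨x, hx, rfl⟩; exact ha x hx
    set e := c₀ * a⁻¹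
    have he : P1.map (MulAut.conj e).toMonoidHom = Q := by rw [hP1, mapmap, hQ]; simp [e]
    rcases eq_or_lt_of_le hP1Z with hEq | hlt
    · refine ⟨e, ?_, he⟩
      have hQeq : Q = (Z : Subgroup G) := by
        refine Subgroup.eq_of_le_of_card_ge hQZ ?_
        rw [← he, card_map_conj, hEq]
      have hne : e ∈ Subgroup.normalizer (Q : Set G) := by
        have he' := he
        rw [hEq, ← hQeq] at he'
        rw [Subgroup.mem_normalizer_iff]
        intro x
        constructor
        · intro hx; exact he'.le ⟨x, hx, rfl⟩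
        · intro hx
          obtain ⟨y, hy, hye⟩ := he'.ge hx
          have : y = x := (MulAut.conj e).injective hye
          exact this ▸ hy
      have := hN e hne
      rwa [hQeq, ← hEq] at this
    · set N1 := normalizerIn (Z : Subgroup G) P1
      have hlt' : P1 < N1 := lt_normalizerIn Z.2 hlt
      let X : Subgroup ↥(Subgroup.normalizer (Q : Set G)) :=
        (N1.map (MulAut.conj e).toMonoidHom).subgroupOf _
      obtain ⟨m, hm⟩ := exists_conj_mem_sylow Y (X := X)
        (((Z.2.to_le inf_le_left).map _).comap_of_injective _ Subtype.coe_injective)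
      refine ⟨m * e, ?_, ?_⟩
      · refine hmono P1 N1 _ hlt'.le (ih (Nat.card (Z : Subgroup G) - Nat.card N1) ?_ N1 _ inf_le_left le_rfl ?_)
        · have h1 : Nat.card P < Nat.card N1 := by
            rw [← card_map_conj P a]
            exact card_lt_of_lt hlt'
          have h2 : Nat.card N1 ≤ Nat.card (Z : Subgroup G) := Subgroup.card_le_of_le inf_le_left
          omega
        · intro x hx
          have hxm : e * x * e⁻¹ ∈ Subgroup.normalizer (Q : Set G) := by
            rw [← he]
            exact Subgroup.le_normalizer_map (MulAut.conj e).toMonoidHom ⟨x, hx.2, rfl⟩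
          have := hm ⟨_, hxm⟩ ⟨x, hx, rfl⟩
          rw [hY, Subgroup.mem_subgroupOf] at this
          simpa [mul_assoc] using this
      · rw [← mapmap, he, conjEq Q m m.2]
  obtain ⟨d1, hd1, hd1e⟩ := toQ 1 (fun x hx => by simpa using hPZ hx)
  obtain ⟨d2, hd2, hd2e⟩ := toQ b hb
  have hone : P.map (MulAut.conj (1 : G)).toMonoidHom = P := by
    rw [show (MulAut.conj (1 : G)).toMonoidHom = MonoidHom.id G from by ext; simp, Subgroup.map_id]
  rw [hone] at hd1 hd1e
  have hbZ : P.map (MulAut.conj b).toMonoidHom ≤ (Z : Subgroup G) := by rintro _ ⟨x, hx, rfl⟩; exact hb x hx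
  set n := d2 * b * d1⁻¹ with hn
  have hnN : n ∈ Subgroup.normalizer (Q : Set G) := by
    have h1 : Q.map (MulAut.conj n).toMonoidHom = Q := by
      nth_rewrite 1 [← hd1e]
      rw [mapmap, show n * d1 = d2 * b by rw [hn]; group, ← mapmap]
      exact hd2e
    rw [Subgroup.mem_normalizer_iff]
    intro x
    constructor
    · intro hx; exact h1.le ⟨x, hx, rfl⟩
    · intro hx
      obtain ⟨y, hy, hye⟩ := h1.ge hx
      exact ((MulAut.conj n).injective hye) ▸ hy
  have hd2mem : ∀ x ∈ P.map (MulAut.conj b).toMonoidHom, d2 * x * d2⁻¹ ∈ (Z : Subgroup G) :=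
    fun x hx => hQZ (hd2e.le ⟨x, hx, rfl⟩)
  have hd2i := hinv _ _ hbZ hd2mem hd2
  rw [hd2e] at hd2i
  have hd1mem : ∀ x ∈ P, d1 * x * d1⁻¹ ∈ (Z : Subgroup G) := fun x hx => hQZ (hd1e.le ⟨x, hx, rfl⟩)
  have h1 := hmul P d1 n hd1mem hd1 (by rw [hd1e]; exact hN n hnN)
  have h2 := hmul P (n * d1) d2⁻¹ (fun x hx => hQZ (by
    have := (Subgroup.mem_normalizer_iff.mp hnN _).mp (hd1e.le ⟨x, hx, rfl⟩)
    simpa [mul_assoc] using this)) h1 (by rw [← mapmap, hd1e, conjEq Q n hnN]; exact hd2i)
  simpa [hn, mul_assoc] using h2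

end Cfsg.FusionSystem.Wedge
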