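import Cfsg.Agent.Lib.Fusion.Wedge.Anchor

/-!
The key extension lemma: an automorphism of order prime to `p` of an invariant subsystem extends over a
subgroup of `N_S(U)` it normalises, acting trivially modulo the carrier of the subsystem, provided lifts exist
on an anchor.
-/

set_option autoImplicit false
set_option linter.unusedSectionVars false
set_option linter.style.haveILetI false

namespace Cfsg.FusionSystem.Wedge

open Cfsg.FusionSystem.Family (stabIn restrictTo restrictTo_apply)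
open Cfsg.FusionSystem.SubCent (Lift map_centralizer image_self)

universe u

variable {Ω : Type u} [Group Ω] {S T : Subgroup Ω} {F : FusionSystem S} {E : FusionSystem T}
  {U W V : Subgroup Ω} {f g : Ω → Ω} {p : ℕ}

/-- Automorphisms of `W C_S(W)` restricting to `E` on `W` and trivial modulo `W`. -/
def LiftsE (E : FusionSystem T) (S W : Subgroup Ω) {X : Subgroup Ω} (a : MulAut X) : Prop :=
  ∃ h, E.IsIso W W h ∧ (∀ (x : Ω) (hx : x ∈ X), x ∈ W → ((a ⟨x, hx⟩ : X) : Ω) = h x) ∧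
    ∀ (c : Ω) (hc : c ∈ X), c ∈ centralizerIn S W → c⁻¹ * ((a ⟨c, hc⟩ : X) : Ω) ∈ W

theorem stab_preserves [Finite S] (hW : Anchor F U W) (a : stabAut F (PrimeResidual.ext S W) U) :
    ∃ k, F.IsIso (PrimeResidual.ext S W) (PrimeResidual.ext S W) k ∧
      (∀ x, (((a : MulAut (PrimeResidual.ext S W)) x : PrimeResidual.ext S W) : Ω) = k x) ∧
      (∀ y, y ∈ U ↔ ∃ x ∈ U, k x = y) ∧ (∀ y, y ∈ W ↔ ∃ x ∈ W, k x = y) ∧
      ∀ c ∈ centralizerIn S W, k c ∈ centralizerIn S W := by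
  obtain ⟨k, hk, hke⟩ := isIso_of_aut hW.extend.le_S a.2.1
  have hUX : U ≤ PrimeResidual.ext S W := hW.extend.le
  have hU : ∀ y, y ∈ U ↔ ∃ x ∈ U, k x = y :=
    image_self hk hUX fun x hx => by rw [← hke ⟨x, hUX hx⟩]; exact (a.2.2 _).mpr hx
  have himg := hW.image hk le_sup_left hW.extend.leN hU
  exact ⟨k, hk, hke, hU, himg, fun c hc => map_centralizer hk le_sup_left himg hc (Subgroup.mem_sup_right hc)⟩

/-- These form a subgroup. -/
def liftsGroup [Finite S] (hsub : E.IsSubsystemOf F) (hWT : W ≤ T) (hW : Anchor F U W) :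
    Subgroup (stabAut F (PrimeResidual.ext S W) U) where
  carrier := {a | LiftsE E S W (a : MulAut (PrimeResidual.ext S W))}
  one_mem' := ⟨fun x => x, IsIso.refl E hWT, fun _ _ _ => rfl, fun c hc _ => by simp⟩
  mul_mem' := by
    rintro a b ⟨ha, hha, hae, hat⟩ ⟨hb, hhb, hbe, hbt⟩
    obtain ⟨k, hk, hke, -, hkW, hkC⟩ := stab_preserves hW b
    refine ⟨_, hhb.comp hha, fun x hx hxW => ?_, fun c hc hcC => ?_⟩
    · show (((a : MulAut _) ((b : MulAut _) ⟨x, hx⟩) : PrimeResidual.ext S W) : Ω) = ha (hb x)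
      rw [← hbe x hx hxW]
      exact hae _ (SetLike.coe_mem _) (by
        show (((b : MulAut _) ⟨x, hx⟩ : PrimeResidual.ext S W) : Ω) ∈ W
        rw [hbe x hx hxW]; exact hhb.mem hxW)
    · show c⁻¹ * (((a : MulAut _) ((b : MulAut _) ⟨c, hc⟩) : PrimeResidual.ext S W) : Ω) ∈ W
      have h1 : (((b : MulAut _) ⟨c, hc⟩ : PrimeResidual.ext S W) : Ω) ∈ centralizerIn S W := by
        rw [hke]; exact hkC c hcC
      have h2 := W.mul_mem (hbt c hc hcC) (hat _ (SetLike.coe_mem _) h1)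
      simpa [mul_assoc] using h2
  inv_mem' := by
    rintro a ⟨ha, hha, hae, hat⟩
    obtain ⟨hi, hhi, hl, hr⟩ := hha.symm
    obtain ⟨k, hk, hke, -, hkW, hkC⟩ := stab_preserves hW a⁻¹
    refine ⟨hi, hhi, fun x hx hxW => ?_, fun c hc hcC => ?_⟩
    · let y := ((a⁻¹ : stabAut F _ U) : MulAut (PrimeResidual.ext S W)) ⟨x, hx⟩
      have hy : (a : MulAut _) y = ⟨x, hx⟩ := MulAut.apply_inv_self _ _ _
      have hyW : (y : Ω) ∈ W := by rw [hke]; exact (hkW _).mpr ⟨x, hxW, rfl⟩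
      have h1 := hae y y.2 hyW
      rw [Subtype.coe_eta, hy] at h1
      show (y : Ω) = hi x
      rw [show x = ha y from h1, hl _ hyW]
    · let y := ((a⁻¹ : stabAut F _ U) : MulAut (PrimeResidual.ext S W)) ⟨c, hc⟩
      have hy : (a : MulAut _) y = ⟨c, hc⟩ := MulAut.apply_inv_self _ _ _
      have hyC : (y : Ω) ∈ centralizerIn S W := by rw [hke]; exact hkC c hcC
      have h1 := hat y y.2 hyC
      rw [Subtype.coe_eta, hy] at h1
      show c⁻¹ * (y : Ω) ∈ W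
      have h2 := W.inv_mem h1
      simpa [mul_inv_rev] using h2

variable [Finite S] [Fact p.Prime]

theorem liftsGroup_normal (hE : E.IsInvariantIn F) (hWT : W ≤ T) (hW : Anchor F U W) :
    (liftsGroup hE.1 hWT hW).Normal := by
  refine ⟨fun a ha b => ?_⟩
  obtain ⟨h, hh, hae, hat⟩ := ha
  obtain ⟨k, hk, hke, -, hkW, hkC⟩ := stab_preserves hW b
  obtain ⟨k', hk', hk'e, -, hk'W, hk'C⟩ := stab_preserves hW b⁻¹
  have hkWiso : F.IsIso W W k := hk.restrict' le_sup_left hkW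
  obtain ⟨h', hh', hh'e⟩ := hE.iso_transport hkWiso hWT hh le_rfl le_rfl hkW hkW
  have key : ∀ z : PrimeResidual.ext S W,
      (b : MulAut _) (((b⁻¹ : stabAut F _ U) : MulAut (PrimeResidual.ext S W)) z) = z :=
    fun z => MulAut.apply_inv_self _ _ _
  refine ⟨h', hh', fun x hx hxW => ?_, fun c hc hcC => ?_⟩
  · let y := ((b⁻¹ : stabAut F _ U) : MulAut (PrimeResidual.ext S W)) ⟨x, hx⟩
    have hyW : (y : Ω) ∈ W := by rw [hk'e]; exact (hk'W _).mpr ⟨x, hxW, rfl⟩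
    show (((b : MulAut _) ((a : MulAut _) y) : PrimeResidual.ext S W) : Ω) = h' x
    rw [hke, hae y y.2 hyW, ← hh'e _ hyW, ← hke y, key]
  · let y := ((b⁻¹ : stabAut F _ U) : MulAut (PrimeResidual.ext S W)) ⟨c, hc⟩
    have hyC : (y : Ω) ∈ centralizerIn S W := by rw [hk'e]; exact hk'C c hcC
    show c⁻¹ * (((b : MulAut _) ((a : MulAut _) y) : PrimeResidual.ext S W) : Ω) ∈ W
    have hd := hat y y.2 hyC
    rw [Subtype.coe_eta] at hd
    have e : c = k y := by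
      rw [← hke y, key]
    rw [hke, ← mul_inv_cancel_left (y : Ω) (((a : MulAut _) y : PrimeResidual.ext S W) : Ω),
      hk.apply_mul y.2 (Subgroup.mem_sup_left hd), ← e, inv_mul_cancel_left]
    exact (hkW _).mpr ⟨_, hd, rfl⟩

set_option maxHeartbeats 1600000 in
/-- The extension over `V`. -/
theorem key_extension (hS : IsPGroup p S) (hF : F.IsSaturated p) (hEs : E.IsSaturated p)
    (hE : E.IsInvariantIn F) (hUT : U ≤ T) (hW : Anchor F U W) (hWT : W ≤ T)
    (hlift : ∀ h, E.IsIso W W h → ∃ k, Lift F W k ∧ ∀ x ∈ W, k x = h x)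
    (hb : ∃ b, E.IsIso W W b ∧ ∀ x ∈ U, b x = f x) (hf : E.IsIso U U f) {m : ℕ} (hm : ¬ p ∣ m)
    (hper : ∀ x ∈ U, f^[m] x = x) (hV : V ≤ normalizerIn S U) (hWV : W ≤ V) (hCV : centralizerIn S U ≤ V)
    (hnorm : ∀ v ∈ V, ∃ v' ∈ V, ∀ x ∈ U, f (v * x * v⁻¹) = v' * f x * v'⁻¹) :
    ∃ g, F.IsIso V V g ∧ (∀ x ∈ U, g x = f x) ∧ (∃ n : ℕ, ¬ p ∣ n ∧ ∀ v ∈ V, g^[n] v = v) ∧
      ∀ v ∈ V, v⁻¹ * g v ∈ T := by
  classical
  have hT := hE.2.1
  have hTp : IsPGroup p T := hS.to_le hT.1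
  haveI := finite_of_le hT.1
  set X := PrimeResidual.ext S W with hXdef
  have hX : Anchor F U X := hW.extend
  have hXV : X ≤ V := sup_le hWV fun c hc => hCV ⟨hc.1, Subgroup.centralizer_le hW.le hc.2⟩
  have hVS : V ≤ S := hV.trans normalizerIn_le
  haveI := finite_mulAut_of_le hX.le_S
  haveI : Finite (MulAut U) := finite_mulAut_of_le hW.norm.1
  set GN := stabAut F X U with hGN
  have hUX : U ≤ X := hX.le
  let r : GN →* MulAut U := res F hUX
  obtain ⟨PN, hPN⟩ := hX.sylow hS hF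
  -- the part induced by `V`
  let PV : Subgroup GN := (autInducedBy V X).subgroupOf GN
  have hPVp : IsPGroup p PV := ((isPGroup_autInducedBy (hS.to_le hVS)).comap_of_injective _ GN.subtype_injective)
  have hconjV : ∀ v ∈ V, ∃ a : GN, a ∈ PV ∧ ∀ x : X, (((a : MulAut X) x : X) : Ω) = v * x * v⁻¹ := by
    intro v hv
    obtain ⟨a, -, hae⟩ := hX.conjAut (hV hv)
    exact ⟨a, mem_autInducedBy_iff.mpr ⟨v, hv, hX.normalizes (hV hv), hae⟩, hae⟩
  have hPVmem : ∀ a ∈ PV, ∃ v ∈ V, ∀ x : X, (((a : MulAut X) x : X) : Ω) = v * x * v⁻¹ := fun a ha => by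
    obtain ⟨v, hv, -, hve⟩ := mem_autInducedBy_iff.mp ha
    exact ⟨v, hv, hve⟩
  obtain ⟨βA, -, hβe⟩ := hf.toAut
  have hβord : ¬ p ∣ orderOf βA := by
    refine fun hd => hm (hd.trans (orderOf_dvd_of_pow_eq_one (MulEquiv.ext fun x => Subtype.ext ?_)))
    rw [coe_pow_apply hβe]; exact hper x x.2
  let A0 : Subgroup (MulAut U) := PV.map r
  have hβn : βA ∈ Subgroup.normalizer (A0 : Set (MulAut U)) := by
    have hle : A0.map (MulAut.conj βA).toMonoidHom ≤ A0 := by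
      rintro _ ⟨_, ⟨a, ha, rfl⟩, rfl⟩
      obtain ⟨v, hv, hve⟩ := hPVmem a ha
      obtain ⟨v', hv', hv'e⟩ := hnorm v hv
      obtain ⟨a', ha', ha'e⟩ := hconjV v' hv'
      refine ⟨a', ha', MulEquiv.ext fun x => Subtype.ext ?_⟩
      show ((res F hUX a' x : U) : Ω) = ((βA (r a (βA⁻¹ x)) : U) : Ω)
      rw [res_apply, ha'e, hβe, res_apply, hve]
      show v' * (x : Ω) * v'⁻¹ = f (v * ((βA⁻¹ x : U) : Ω) * v⁻¹)
      rw [hv'e _ (SetLike.coe_mem _), ← hβe, MulAut.apply_inv_self]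
    have heq : A0.map (MulAut.conj βA).toMonoidHom = A0 :=
      Subgroup.eq_of_le_of_card_ge hle (card_map_conj A0 βA).ge
    rw [Subgroup.mem_normalizer_iff]
    intro x
    constructor
    · intro hx; exact heq.le ⟨x, hx, rfl⟩
    · intro hx
      obtain ⟨y, hy, hye⟩ := heq.ge hx
      exact ((MulAut.conj βA).injective hye) ▸ hy
  let Gw : Subgroup GN := (A0 ⊔ Subgroup.zpowers βA).comap r
  have hPVGw : PV ≤ Gw := fun a ha => Subgroup.mem_sup_left ⟨a, ha, rfl⟩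
  -- `PV` is a Sylow subgroup of `Gw`
  have hmax : ∀ P' : Subgroup GN, IsPGroup p P' → P' ≤ Gw → PV ≤ P' → P' ≤ PV := by
    intro P' hP' hP'G hle y hy
    have hy' := hP'G hy
    rw [Subgroup.mem_comap] at hy'
    rw [← SetLike.mem_coe, Subgroup.coe_mul_of_right_le_normalizer_left A0 (Subgroup.zpowers βA)
      (Subgroup.zpowers_le.mpr hβn)] at hy'
    obtain ⟨_, ⟨a, ha, rfl⟩, b, hbz, hab⟩ := hy'
    have hb' : b ∈ P'.map r := ⟨a⁻¹ * y, P'.mul_mem (P'.inv_mem (hle ha)) hy, by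
      rw [map_mul, map_inv, ← hab, inv_mul_cancel_left]⟩
    have hb1 : b = 1 := by
      obtain ⟨e, he⟩ := (hP'.map r) ⟨b, hb'⟩
      refine SubCent.eq_one_of_coprime_pow (congrArg Subtype.val he : b ^ p ^ e = 1)
        (k := orderOf βA) ?_ (((Nat.Prime.coprime_iff_not_dvd Fact.out).mpr hβord).pow_left e)
      obtain ⟨i, rfl⟩ := Subgroup.mem_zpowers_iff.mp hbz
      rw [← zpow_natCast, ← zpow_mul, mul_comm, zpow_mul, zpow_natCast, pow_orderOf_eq_one, one_zpow]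
    subst hb1
    have hk : a⁻¹ * y ∈ P' ⊓ r.ker := ⟨P'.mul_mem (P'.inv_mem (hle ha)) hy, by
      show r (a⁻¹ * y) = 1
      rw [map_mul, map_inv, ← hab]
      show (r a)⁻¹ * (r a * 1) = 1
      rw [mul_one]
      exact inv_mul_cancel _⟩
    have hsub : (PN : Subgroup GN) ⊓ r.ker ≤ PV := by
      rintro z ⟨hz, hz'⟩
      rw [hPN] at hz
      obtain ⟨s, hs, hsn, hse⟩ := mem_autInducedBy_iff.mp hz
      refine mem_autInducedBy_iff.mpr ⟨s, hCV ⟨hs.1, Subgroup.mem_centralizer_iff.mpr fun x hx => ?_⟩, hsn, hse⟩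
      have h1 := congrArg (fun α : MulAut U => ((α ⟨x, hx⟩ : U) : Ω)) hz'
      have h2 : s * x * s⁻¹ = x := (hse ⟨x, hUX hx⟩).symm.trans h1
      calc x * s = (s * x * s⁻¹) * s := by rw [h2]
        _ = s * x := by group
    have h3 : P' ⊓ r.ker ≤ (PN : Subgroup GN) :=
      le_of_normal_pSubgroup PN (hP'.to_le inf_le_left) inf_le_right
        (le_inf (hsub.trans hle) inf_le_right)
    have h4 := hsub ⟨h3 hk, hk.2⟩
    have := PV.mul_mem ha h4
    rwa [mul_inv_cancel_left] at this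
  -- the group of lifts
  let Hl := liftsGroup hE.1 hWT hW
  haveI : Hl.Normal := liftsGroup_normal hE hWT hW
  let H : Subgroup Gw := Hl.subgroupOf Gw
  haveI : H.Normal := inferInstanceAs (Hl.subgroupOf Gw).Normal
  let PV' : Subgroup Gw := PV.subgroupOf Gw
  have hPV'p : IsPGroup p PV' := hPVp.comap_of_injective _ Gw.subtype_injective
  let Y : Subgroup Gw := PV' ⊔ H
  obtain ⟨PY, hPY⟩ := (hPV'p.comap_of_injective Y.subtype Y.subtype_injective).exists_le_sylow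
  have hPYe : (PY : Subgroup Y) = PV'.subgroupOf Y := by
    refine le_antisymm (fun y hy => ?_) hPY
    exact hmax (((PY : Subgroup Y).map Y.subtype).map Gw.subtype) ((PY.2.map _).map _)
      (by rintro _ ⟨z, -, rfl⟩; exact z.2)
      (fun a ha => ⟨⟨a, hPVGw ha⟩, ⟨⟨_, (le_sup_left : PV' ≤ Y) (show (⟨a, hPVGw ha⟩ : Gw) ∈ PV' from ha)⟩,
        hPY (show (⟨a, hPVGw ha⟩ : Gw) ∈ PV' from ha), rfl⟩, rfl⟩)
      ⟨_, ⟨y, hy, rfl⟩, rfl⟩
  -- the lift of `f`
  obtain ⟨b, hbE, hbf⟩ := hb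
  obtain ⟨k0, hk0, hk0e⟩ := hlift b hbE
  obtain ⟨a0, ha0, ha0e⟩ := hk0.iso.toAut
  have hk0U : ∀ x ∈ U, k0 x = f x := fun x hx => by rw [hk0e x (hW.le hx), hbf x hx]
  have hk0img : ∀ y, y ∈ U ↔ ∃ x ∈ U, k0 x = y :=
    image_self hk0.iso hUX fun x hx => by rw [hk0U x hx]; exact hf.mem hx
  have ha0st : a0 ∈ GN := by
    refine ⟨ha0, fun x => ?_⟩
    rw [ha0e]
    constructor
    · intro hx
      obtain ⟨z, hz, he⟩ := (hk0img _).mp hx
      rw [← hk0.iso.inj (hUX hz) x.2 he]; exact hz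
    · exact fun hx => (hk0img _).mpr ⟨x, hx, rfl⟩
  let h0 : GN := ⟨a0, ha0st⟩
  have hh0r : r h0 = βA := MulEquiv.ext fun x => Subtype.ext (by
    rw [res_apply, hβe, ← hk0U x x.2]; exact ha0e _)
  have hh0G : h0 ∈ Gw := by
    rw [Subgroup.mem_comap, hh0r]; exact Subgroup.mem_sup_right (Subgroup.mem_zpowers _)
  have hh0H : (⟨h0, hh0G⟩ : Gw) ∈ H := ⟨b, hbE, fun x hx hxW => (ha0e _).trans (hk0e x hxW),
    fun c hc hcC => by
      show c⁻¹ * ((a0 ⟨c, hc⟩ : X) : Ω) ∈ W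
      rw [ha0e]; exact hk0.triv c hcC⟩
  let h0Y : Y := ⟨⟨h0, hh0G⟩, Subgroup.mem_sup_right hh0H⟩
  let rY : Y →* MulAut U := r.comp (Gw.subtype.comp Y.subtype)
  have hrY : (PY : Subgroup Y).map rY = A0 := by
    rw [hPYe]
    ext z
    constructor
    · rintro ⟨y, hy, rfl⟩; exact ⟨_, hy, rfl⟩
    · rintro ⟨a, ha, rfl⟩
      exact ⟨⟨⟨a, hPVGw ha⟩, (le_sup_left : PV' ≤ Y) (show (⟨a, hPVGw ha⟩ : Gw) ∈ PV' from ha)⟩, ha, rfl⟩
  obtain ⟨nY, hnY, hnYe⟩ := exists_lift_normalizer rY PY h0Y (by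
    rw [hrY, show rY h0Y = βA from hh0r]; exact hβn)
  obtain ⟨k, hk, hke⟩ := exists_pow_pprime (p := p) rY nY (by
    rw [hnYe, show rY h0Y = βA from hh0r]; exact hβord)
  let n : Y := nY ^ k
  have hnN : n ∈ Subgroup.normalizer ((PY : Subgroup Y) : Set Y) := pow_mem hnY k
  have hnr : rY n = βA := hke.trans (hnYe.trans hh0r)
  have hnH : (n : Gw) ∈ H := mem_of_coprime_sup hPV'p n.2 (by rwa [Subgroup.orderOf_coe])
  let nG : GN := ((n : Gw) : GN)
  obtain ⟨hn0, hn0E, hn0e, hn0t⟩ : LiftsE E S W (nG : MulAut X) := id hnH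
  -- conjugates of `PV`
  have hconjn : ∀ a ∈ PV, nG * a * nG⁻¹ ∈ PV := by
    intro a ha
    have h1 : (⟨⟨a, hPVGw ha⟩, (le_sup_left : PV' ≤ Y) (show (⟨a, hPVGw ha⟩ : Gw) ∈ PV' from ha)⟩ : Y) ∈
        (PY : Subgroup Y) := by rw [hPYe]; exact ha
    have h2 := (Subgroup.mem_normalizer_iff.mp hnN _).mp h1
    rw [hPYe] at h2
    exact h2
  have hXc : F.IsCentric X := PrimeResidual.ext_isCentric (hW.fullyCentralized hS hF)
  have hXr := hF.isReceptive_of_isFullyCentralized hS hXc.isFullyCentralized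
  have hVX : V ≤ normalizerIn S X := fun v hv => ⟨hVS hv, hX.normalizes (hV hv)⟩
  obtain ⟨ψ, hψ, hψe⟩ := exists_extension_of_normalizes hXr nG.2.1 hVX (by
    intro v hv hvn
    obtain ⟨a, ha, hae⟩ := hconjV v hv
    have e : X.normalizerMonoidHom ⟨v, hvn⟩ = (a : MulAut X) := MulEquiv.ext fun x => Subtype.ext (hae x).symm
    rw [e]
    exact autInducedBy_mono hVS (hconjn a ha))
  have hψX : ∀ x : X, funOf ψ x = (((nG : MulAut X) x : X) : Ω) := fun x =>
    (funOf_apply ψ (Subgroup.inclusion le_sup_left x)).symm.trans (hψe x)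
  have hXVeq : X ⊔ V = V := sup_eq_right.mpr hXV
  have hiso0 := isIso_funOf hψ
  have himgV : ∀ v ∈ V, funOf ψ v ∈ V := by
    intro v hv
    obtain ⟨a, ha, hae⟩ := hconjV v hv
    obtain ⟨v', hv', hv'e⟩ := hPVmem _ (hconjn a ha)
    have hvR : v ∈ X ⊔ V := Subgroup.mem_sup_right hv
    have hd : v'⁻¹ * funOf ψ v ∈ centralizerIn S X := by
      refine ⟨S.mul_mem (S.inv_mem (hVS hv')) (hiso0.le_right (hiso0.mem hvR)), Subgroup.mem_centralizer_iff.mpr ?_⟩
      intro y hy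
      let z : X := (nG : MulAut X)⁻¹ ⟨y, hy⟩
      have hzy : (((nG : MulAut X) z : X) : Ω) = y := by simp [z]
      have hfz : funOf ψ z = y := (hψX z).trans hzy
      have h1 := hiso0.apply_conj hvR (Subgroup.mem_sup_left z.2)
      rw [← hae z, hψX, hfz] at h1
      have h2 := hv'e ⟨y, hy⟩
      have h3 : v' * y * v'⁻¹ = funOf ψ v * y * (funOf ψ v)⁻¹ := h2.symm.trans h1
      calc y * (v'⁻¹ * funOf ψ v) = v'⁻¹ * (v' * y * v'⁻¹) * funOf ψ v := by group
        _ = v'⁻¹ * (funOf ψ v * y * (funOf ψ v)⁻¹) * funOf ψ v := by rw [h3]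
        _ = v'⁻¹ * funOf ψ v * y := by group
    have := V.mul_mem hv' (hXV (hXc.centralizerIn_le_self hd))
    rwa [mul_inv_cancel_left] at this
  have hiso : F.IsIso V V (funOf ψ) := SubCent.isIso_self hiso0 le_sup_right himgV
  -- a power of order prime to `p`
  have hperX : ∀ x ∈ X, (funOf ψ)^[orderOf (nG : MulAut X)] x = x := fun x hx => by
    rw [← coe_pow_apply (P := X) (fun y => (hψX y).symm) _ ⟨x, hx⟩, pow_orderOf_eq_one]; rfl
  have hnord : ¬ p ∣ orderOf (nG : MulAut X) := by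
    rw [Subgroup.orderOf_coe]
    show ¬ p ∣ orderOf ((n : Gw) : GN)
    rw [Subgroup.orderOf_coe, Subgroup.orderOf_coe]
    exact hk
  obtain ⟨j, hjX, n', hn', hn'per⟩ := CoreCent.exists_iterate_pprime (A := X) hiso hnord hperX
  set g := (funOf ψ)^[j] with hg
  have hgiso : F.IsIso V V g := SubCent.iterate_isIso hiso j
  have hgX : ∀ x : X, g x = (((nG : MulAut X) x : X) : Ω) := fun x => (hjX x x.2).trans (hψX x)
  have hgU : ∀ x ∈ U, g x = f x := fun x hx => by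
    rw [hgX ⟨x, hUX hx⟩, ← hβe ⟨x, hx⟩, ← show r nG = βA from hnr]
    rfl
  refine ⟨g, hgiso, hgU, ⟨n', hn', hn'per⟩, fun v hv => ?_⟩
  -- the anchor inside `E`
  have hWE : Anchor E U W := ⟨hW.norm.of_invariant hE hS hF hUT, hW.le,
    fun x hx => ⟨hWT hx, (hW.leN hx).2⟩, fun hg hWR hR' hU => hW.invariant (hg.mono hE.1) hWR
      (fun y hy => ⟨hT.1 (hR' hy).1, (hR' hy).2⟩) hU⟩
  obtain ⟨PE, hPE⟩ := hWE.sylow hTp hEs
  have hdV : v⁻¹ * g v ∈ V := V.mul_mem (V.inv_mem hv) (hgiso.mem hv)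
  have hkey : v⁻¹ * g v ∈ T ⊔ centralizerIn S W := by
    obtain ⟨a, ha, hae⟩ := hconjV v hv
    -- `conj d` lifts to `E`
    have hcH : a⁻¹ * (nG * a * nG⁻¹) ∈ Hl := by
      rw [show a⁻¹ * (nG * a * nG⁻¹) = (a⁻¹ * nG * a) * nG⁻¹ by group]
      exact Hl.mul_mem (by simpa using (inferInstance : Hl.Normal).conj_mem nG hnH a⁻¹) (Hl.inv_mem hnH)
    obtain ⟨h, hh, hhe, -⟩ := hcH
    set d := v⁻¹ * g v with hd
    have hdconj : ∀ x ∈ W, h x = d * x * d⁻¹ := by
      intro x hx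
      have hxX : x ∈ X := Subgroup.mem_sup_left hx
      rw [← hhe x hxX hx]
      let z : X := (nG : MulAut X)⁻¹ ⟨x, hxX⟩
      have hgz : g z = x := by rw [hgX]; simp [z]
      let w : X := (nG : MulAut X) ((a : MulAut X) z)
      have hw : (w : Ω) = g v * x * (g v)⁻¹ := by
        rw [← hgX, hae, hgiso.apply_conj hv (hXV z.2), hgz]
      show ((((a : MulAut X))⁻¹ w : X) : Ω) = d * x * d⁻¹
      have e2 : ((a : MulAut X))⁻¹ w = ⟨d * x * d⁻¹, (Subgroup.mem_normalizer_iff.mp (hX.normalizes (hV hdV)) x).mp hxX⟩ := by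
        apply (a : MulAut X).injective
        rw [MulAut.apply_inv_self]
        apply Subtype.ext
        rw [hw, hae]
        show g v * x * (g v)⁻¹ = v * (d * x * d⁻¹) * v⁻¹
        rw [hd]
        group
      rw [e2]
    obtain ⟨δ, hδ, hδe⟩ := hh.toAut
    have hδst : δ ∈ stabAut E W U := ⟨hδ, fun x => by
      rw [hδe, hdconj x x.2]
      exact (Subgroup.mem_normalizer_iff.mp (hV hdV).2 x).symm⟩
    let δ' : stabAut E W U := ⟨δ, hδst⟩
    have hdn : ∀ s ∈ normalizerIn T U, d * s * d⁻¹ ∈ normalizerIn T U := fun s hs =>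
      ⟨hT.conj_mem_of_mem (hVS hdV) hs.1,
        mul_mem (mul_mem (hV hdV).2 hs.2) ((Subgroup.normalizer _).inv_mem (hV hdV).2)⟩
    have hnormPE : δ' ∈ Subgroup.normalizer ((PE : Subgroup (stabAut E W U)) : Set (stabAut E W U)) := by
      have key : (PE : Subgroup (stabAut E W U)).map (MulAut.conj δ').toMonoidHom ≤ PE := by
        rintro _ ⟨y, hy, rfl⟩
        rw [hPE] at hy ⊢
        obtain ⟨s, hs, -, hse⟩ := mem_autInducedBy_iff.mp hy
        refine mem_autInducedBy_iff.mpr ⟨_, hdn s hs, hWE.normalizes (hdn s hs), fun x => ?_⟩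
        show ((δ ((y : MulAut W) (δ⁻¹ x)) : W) : Ω) = _
        rw [hδe, hdconj _ (SetLike.coe_mem _)]
        erw [hse]
        have e3 : ((δ⁻¹ x : W) : Ω) = d⁻¹ * x * d := by
          have h4 : d * ((δ⁻¹ x : W) : Ω) * d⁻¹ = x := by
            rw [← hdconj _ (SetLike.coe_mem _), ← hδe, MulAut.apply_inv_self]
          calc ((δ⁻¹ x : W) : Ω) = d⁻¹ * (d * ((δ⁻¹ x : W) : Ω) * d⁻¹) * d := by group
            _ = _ := by rw [h4]
        rw [e3]
        group
      have heq : (PE : Subgroup (stabAut E W U)).map (MulAut.conj δ').toMonoidHom = PE :=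
        haveI : Finite (stabAut E W U) := (haveI := finite_mulAut_of_le (hWT); inferInstance)
        Subgroup.eq_of_le_of_card_ge key (card_map_conj _ δ').ge
      rw [Subgroup.mem_normalizer_iff]
      intro x
      constructor
      · intro hx; exact heq.le ⟨x, hx, rfl⟩
      · intro hx
        obtain ⟨y, hy, hye⟩ := heq.ge hx
        exact ((MulAut.conj δ').injective hye) ▸ hy
    have hδp : IsPGroup p (Subgroup.zpowers δ') := by
      obtain ⟨e, he⟩ := hS ⟨d, hVS hdV⟩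
      have hde : d ^ p ^ e = 1 := congrArg Subtype.val he
      have hit : ∀ (i : ℕ) (x : W), ((((δ' ^ i : stabAut E W U) : MulAut W) x : W) : Ω) = d ^ i * x * (d ^ i)⁻¹ := by
        intro i
        induction i with
        | zero => intro x; simp
        | succ i ih =>
          intro x
          rw [pow_succ', Subgroup.coe_mul, MulAut.mul_apply, show ((δ' : stabAut E W U) : MulAut W) = δ from rfl,
            hδe, hdconj _ (SetLike.coe_mem _), ih, pow_succ']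
          group
      have h1 : δ' ^ p ^ e = 1 := Subtype.ext (MulEquiv.ext fun x => Subtype.ext (by rw [hit, hde]; simp))
      obtain ⟨i, -, hi⟩ := (Nat.dvd_prime_pow (Fact.out : p.Prime)).mp (orderOf_dvd_of_pow_eq_one h1)
      exact IsPGroup.of_card (n := i) (by rw [Nat.card_zpowers, hi])
    have hδPE : δ' ∈ (PE : Subgroup (stabAut E W U)) := by
      have hpp := PE.2.to_sup_of_normal_left' hδp (Subgroup.zpowers_le.mpr hnormPE)
      exact (PE.3 hpp le_sup_left).le (Subgroup.mem_sup_right (Subgroup.mem_zpowers δ'))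
    rw [hPE] at hδPE
    obtain ⟨t, ht, -, hte⟩ := mem_autInducedBy_iff.mp hδPE
    have hc : t⁻¹ * d ∈ centralizerIn S W := by
      refine ⟨S.mul_mem (S.inv_mem (hT.1 ht.1)) (hVS hdV), Subgroup.mem_centralizer_iff.mpr fun y hy => ?_⟩
      have h1 : d * y * d⁻¹ = t * y * t⁻¹ := ((hdconj y hy).symm.trans (hδe ⟨y, hy⟩).symm).trans (hte ⟨y, hy⟩)
      calc y * (t⁻¹ * d) = t⁻¹ * (t * y * t⁻¹) * d := by group
        _ = t⁻¹ * (d * y * d⁻¹) * d := by rw [h1]
        _ = t⁻¹ * d * y := by group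
    simpa using mul_mem (Subgroup.mem_sup_left ht.1 : t ∈ T ⊔ centralizerIn S W) (Subgroup.mem_sup_right hc)
  refine (CoreCent.mem_of_coprime_step (M := T ⊓ V) (N := (T ⊔ centralizerIn S W) ⊓ V) hS hgiso hn' hv
    (hn'per v hv) inf_le_right (inf_le_inf_right V le_sup_left)
    (fun x hx => ⟨hT.iso_mem hgiso hx.2 hx.1, hgiso.mem hx.2⟩) ?_ ⟨hkey, hdV⟩).1
  rintro x ⟨hx, hxV⟩
  refine ⟨?_, V.mul_mem (V.inv_mem hxV) (hgiso.mem hxV)⟩
  replace hx : x ∈ ((T ⊔ centralizerIn S W : Subgroup Ω) : Set Ω) := hx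
  rw [Subgroup.coe_mul_of_right_le_normalizer_left T (centralizerIn S W)
    (centralizerIn_le.trans hT.le_normalizer)] at hx
  obtain ⟨t, ht, c, hc, rfl⟩ := hx
  have hcX : c ∈ X := Subgroup.mem_sup_right hc
  have hcV : c ∈ V := hXV hcX
  have htV : t ∈ V := by simpa using V.mul_mem hxV (V.inv_mem hcV)
  show (t * c)⁻¹ * g (t * c) ∈ T
  rw [hgiso.apply_mul htV hcV]
  have h1 : c⁻¹ * g c ∈ T := by rw [hgX ⟨c, hcX⟩]; exact hWT (hn0t c hcX hc)
  have h2 : c⁻¹ * (t⁻¹ * g t) * c ∈ T :=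
    hT.conj_mem_of_mem' (centralizerIn_le hc) (T.mul_mem (T.inv_mem ht) (hT.iso_mem hgiso htV ht))
  simpa [mul_assoc] using T.mul_mem h2 h1

end Cfsg.FusionSystem.Wedge
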