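import Cfsg.Agent.Lib.Fusion.Wedge.Key

/-!
In a normal subsystem every automorphism of a fully centralised centric subgroup lifts over its centraliser.
-/

set_option autoImplicit false
set_option linter.unusedSectionVars false
set_option linter.style.haveILetI false

namespace Cfsg.FusionSystem.Wedge

open Cfsg.FusionSystem.SubCent (Lift map_centralizer image_self liftable liftable_conj autInducedBy_le_liftable
  autGroup_le_liftable eq_top_of_sylow_of_pprime isIso_self sup_image)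

universe u

variable {Ω : Type u} [Group Ω] {S T : Subgroup Ω} {F : FusionSystem S} {E : FusionSystem T}
  {P P0 : Subgroup Ω} {f : Ω → Ω} {p : ℕ}

/-- `N_T(P)` is an anchor over the fully normalised `P ≤ T`. -/
theorem anchor_normalizerIn (hT : F.StronglyClosed T) (hPT : P ≤ T) (hPn : F.IsFullyNormalized P) :
    Anchor F P (normalizerIn T P) :=
  ⟨hPn, le_normalizerIn hPT, fun _ hx => ⟨hT.1 hx.1, hx.2⟩, fun hg hWR hR' _ _ hx =>
    ⟨hT.iso_mem hg (hWR hx) hx.1, (hR' (hg.mem (hWR hx))).2⟩⟩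

/-- `N_S(P)` normalises `C_S(P)`. -/
theorem conj_centralizerIn {g : Ω} (hg : g ∈ normalizerIn S P) :
    g ∈ Subgroup.normalizer (centralizerIn S P : Set Ω) := by
  have key : ∀ a ∈ normalizerIn S P, ∀ c ∈ centralizerIn S P, a * c * a⁻¹ ∈ centralizerIn S P := by
    intro a ha c hc
    refine ⟨S.mul_mem (S.mul_mem ha.1 hc.1) (S.inv_mem ha.1), Subgroup.mem_centralizer_iff.mpr fun y hy => ?_⟩
    have h1 := Subgroup.mem_centralizer_iff.mp hc.2 _ ((Subgroup.mem_normalizer_iff''.mp ha.2 y).mp hy)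
    calc y * (a * c * a⁻¹) = a * ((a⁻¹ * y * a) * c) * a⁻¹ := by group
      _ = a * (c * (a⁻¹ * y * a)) * a⁻¹ := by rw [h1]
      _ = a * c * a⁻¹ * y := by group
  rw [Subgroup.mem_normalizer_iff]
  intro c
  refine ⟨key g hg c, fun hc => ?_⟩
  have := key g⁻¹ ((normalizerIn S P).inv_mem hg) _ hc
  simpa [mul_assoc] using this

variable [Finite S] [Fact p.Prime]

/-- The property proved by induction. -/
def HasLifts (E : FusionSystem T) (F : FusionSystem S) (P : Subgroup Ω) : Prop :=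
  ∀ f, E.IsIso P P f → ∃ k, Lift F P k ∧ ∀ x ∈ P, k x = f x

/-- The step at a fully normalised subgroup. -/
theorem hasLifts_step (hS : IsPGroup p S) (hE : E.IsNormalIn F p) (hP : E.IsCentric P)
    (hPn : F.IsFullyNormalized P) (hne : P ≠ T)
    (hbig : ∀ W : Subgroup Ω, Nat.card P < Nat.card W → E.IsCentric W → F.IsFullyCentralized W → HasLifts E F W) :
    HasLifts E F P := by
  classical
  obtain ⟨hEs, hF, hEi⟩ := id hE.1
  have hT := hEi.2.1
  haveI := finite_of_le hT.1
  have hPT := hP.1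
  have hTp : IsPGroup p T := hS.to_le hT.1
  have hPS : P ≤ S := hPn.1
  have hPfc := hF.isFullyCentralized_of_isFullyNormalized hS hPn
  have hEn : E.IsFullyNormalized P := hPn.of_invariant hEi hS hF hPT
  haveI := finite_autGroup (F := E) hPT
  set G := E.autGroup P with hG
  let L : Subgroup G := (liftable F P hPS).subgroupOf G
  suffices htop : L = ⊤ by
    intro f hf
    obtain ⟨α, hα, hαe⟩ := hf.toAut
    obtain ⟨k, hk, hke⟩ : α ∈ liftable F P hPS :=
      (htop.ge (Subgroup.mem_top (⟨α, hα⟩ : G)) : (⟨α, hα⟩ : G) ∈ L)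
    exact ⟨k, hk, fun x hx => (hke ⟨x, hx⟩).symm.trans (hαe ⟨x, hx⟩)⟩
  haveI : L.Normal := ⟨fun a ha b => by
    have := liftable_conj hS hF hPfc (α := (a : MulAut P)) (β := (b : MulAut P)) ha
      (hEi.1.isIso_autGroup hPT b.2)
    simpa [L, Subgroup.mem_subgroupOf] using this⟩
  obtain ⟨-, U, hU⟩ : E.IsFullyAutomized p P := hEs.isFullyAutomized_of_isFullyNormalized hTp hEn
  have hUL : (U : Subgroup G) ≤ L := fun a ha =>
    autInducedBy_le_liftable hT hPT hP.centralizerIn_le_self (hU.le ha)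
  let O : Subgroup G := Subgroup.normalClosure ((U : Subgroup G) : Set G)
  haveI : O.Normal := Subgroup.normalClosure_normal
  have hUO : (U : Subgroup G) ≤ O := Subgroup.subset_normalClosure
  have hOL : O ≤ L := Subgroup.normalClosure_le_normal hUL
  have htop := (U.subtype hUO).normalizer_sup_eq_top
  rw [Sylow.coe_subtype, Subgroup.map_subgroupOf_eq_of_le hUO] at htop
  rw [eq_top_iff, ← htop]
  refine sup_le ?_ hOL
  set N := Subgroup.normalizer ((U : Subgroup G) : Set G)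
  refine Subgroup.subgroupOf_eq_top.mp (eq_top_of_sylow_of_pprime (L.subgroupOf N) (U.subtype Subgroup.le_normalizer)
    (by rw [Sylow.coe_subtype]; exact fun a ha => hUL ha) fun n hord => ?_)
  rw [Subgroup.mem_subgroupOf]
  rw [← Subgroup.orderOf_coe, ← Subgroup.orderOf_coe] at hord
  obtain ⟨f, hf, hfe⟩ := isIso_of_aut hPT (n : G).2
  set W := normalizerIn T P with hWdef
  have hanch : Anchor F P W := anchor_normalizerIn hT hPT hPn
  have hWT : W ≤ T := normalizerIn_le
  have hPW : P < W := lt_normalizerIn hTp (lt_of_le_of_ne hPT hne)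
  haveI := finite_of_le hWT
  -- the extension in `E`
  obtain ⟨ψ, hψ, hψe⟩ := exists_extension_of_normalizes (γ := ((n : G) : MulAut P)) (M := W)
    (hEs.isReceptive_of_isFullyNormalized hTp hEn) (n : G).2 le_rfl (by
      intro t ht htn
      let c : G := ⟨P.normalizerMonoidHom ⟨t, htn⟩,
        autInducedBy_le_autGroup hPT (mem_autInducedBy_iff.mpr ⟨t, ht.1, htn, fun _ => rfl⟩)⟩
      have hc : c ∈ (U : Subgroup G) :=
        hU.ge (mem_autInducedBy_iff.mpr ⟨t, ht.1, htn, fun _ => rfl⟩ : (c : MulAut P) ∈ autInducedBy T P)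
      exact hU.le ((Subgroup.mem_normalizer_iff.mp n.2 c).mp hc))
  have hψP : ∀ x ∈ P, funOf ψ x = f x := fun x hx =>
    (funOf_apply ψ ⟨x, Subgroup.mem_sup_left hx⟩).symm.trans ((hψe ⟨x, hx⟩).trans (hfe _))
  obtain ⟨R, hψiso, -, -⟩ := (isIso_funOf hψ).restrict (le_sup_right : W ≤ P ⊔ W)
  have hψimg : ∀ y, y ∈ P ↔ ∃ x ∈ P, funOf ψ x = y := fun y => by
    constructor
    · intro hy
      obtain ⟨x, hx, rfl⟩ := hf.surj hy
      exact ⟨x, hx, hψP x hx⟩
    · rintro ⟨x, hx, rfl⟩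
      rw [hψP x hx]; exact hf.mem hx
  have hb : E.IsIso W W (funOf ψ) := isIso_self hψiso le_rfl fun x hx =>
    ⟨hψiso.le_right (hψiso.mem hx), hψiso.mem_normalizer hPW.le hψimg hx hx.2⟩
  have hWc : E.IsCentric W := isCentric_of_le hP hPW.le hWT
  have hWfc := hanch.fullyCentralized hS hF
  set V := W ⊔ centralizerIn S P
  have hVN : V ≤ normalizerIn S P := sup_le hanch.leN fun c hc =>
    ⟨hc.1, Subgroup.centralizer_le_normalizer _ hc.2⟩
  obtain ⟨g, hg, hgP, -, hgT⟩ := key_extension hS hF hEs hEi hPT hanch hWT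
    (hbig W (card_lt_of_lt hPW) hWc hWfc) ⟨funOf ψ, hb, hψP⟩ hf (m := orderOf ((n : G) : MulAut P)) hord
    (fun x hx => by rw [← coe_pow_apply hfe _ ⟨x, hx⟩, pow_orderOf_eq_one]; rfl) hVN le_sup_left le_sup_right
    (by
      intro v hv
      have hv' : v ∈ ((W ⊔ centralizerIn S P : Subgroup Ω) : Set Ω) := hv
      rw [Subgroup.coe_mul_of_left_le_normalizer_right W (centralizerIn S P) ?_] at hv'
      · obtain ⟨w, hw, c, hc, rfl⟩ := hv'
        refine ⟨funOf ψ w, Subgroup.mem_sup_left (hb.mem hw), fun x hx => ?_⟩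
        have hwx : w * x * w⁻¹ ∈ P := (Subgroup.mem_normalizer_iff.mp hw.2 x).mp hx
        have e : w * c * x * (w * c)⁻¹ = w * x * w⁻¹ := by
          rw [mul_inv_rev, show w * c * x = w * (c * x) by group, ← Subgroup.mem_centralizer_iff.mp hc.2 x hx]
          group
        rw [e, ← hψP _ hwx, ← hψP x hx, hb.apply_conj hw (hPW.le hx)]
      · exact fun w hw => conj_centralizerIn (hanch.leN hw))
  have hgPmem : ∀ x ∈ P, g x ∈ P := fun x hx => by rw [hgP x hx]; exact hf.mem hx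
  have hgimg := image_self hg (hPW.le.trans le_sup_left) hgPmem
  have hgC : ∀ c ∈ centralizerIn S P, g c ∈ centralizerIn S P := fun c hc =>
    map_centralizer hg (hPW.le.trans le_sup_left) hgimg hc (Subgroup.mem_sup_right hc)
  refine ⟨g, ⟨sup_image hg (hPW.le.trans le_sup_left) le_sup_right hgimg (image_self hg le_sup_right hgC),
    hgPmem, fun c hc => hP.centralizerIn_le_self ?_⟩, fun x => (hfe x).trans (hgP x x.2).symm⟩
  exact ⟨hgT c (Subgroup.mem_sup_right hc),
    ((centralizerIn S P).mul_mem ((centralizerIn S P).inv_mem hc) (hgC c hc)).2⟩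

/-- Transport to a fully centralised subgroup. -/
theorem hasLifts_of_fullyCentralized (hS : IsPGroup p S) (hE : E.IsNormalIn F p) (hPT : P ≤ T)
    (hfc : F.IsFullyCentralized P) (hconj : F.IsConj P P0) (hP0 : F.IsFullyNormalized P0)
    (h0 : HasLifts E F P0) : HasLifts E F P := by
  classical
  obtain ⟨hEs, hF, hEi⟩ := id hE.1
  have hPS := hfc.1
  obtain ⟨φ, hφ, hr, ψ, hψ, hψN, hψe⟩ := hF.exists_map_to_fullyNormalized hS hP0 hconj
  set H := funOf ψ
  have hHe : ∀ x : P, φ x = H x := fun x => by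
    rw [← hψe x (le_normalizerIn hPS x.2)]
    exact funOf_apply ψ _
  have hH : F.IsIso P P0 H := ⟨φ, hφ, hr, hHe⟩
  have hCN : centralizerIn S P ≤ normalizerIn S P := fun c hc =>
    ⟨hc.1, Subgroup.centralizer_le_normalizer _ hc.2⟩
  have hiso := isIso_funOf hψ
  have hPimg : ∀ y, y ∈ P0 ↔ ∃ x ∈ P, H x = y := fun y =>
    ⟨hH.surj, fun ⟨x, hx, he⟩ => he ▸ hH.mem hx⟩
  have hC : ∀ c ∈ centralizerIn S P, H c ∈ centralizerIn S P0 := fun c hc =>
    map_centralizer hiso (le_normalizerIn hPS) hPimg hc (hCN hc)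
  haveI := finite_centralizerIn (S := S) (P := P)
  haveI := finite_centralizerIn (S := S) (P := P0)
  have hCimg : ∀ y, y ∈ centralizerIn S P0 ↔ ∃ c ∈ centralizerIn S P, H c = y := by
    intro y
    refine ⟨fun hy => ?_, fun ⟨c, hc, he⟩ => he ▸ hC c hc⟩
    let ι : centralizerIn S P → centralizerIn S P0 := fun c => ⟨H c, hC c c.2⟩
    have hι : Function.Injective ι := fun a b hab =>
      Subtype.ext (hiso.inj (hCN a.2) (hCN b.2) (congrArg Subtype.val hab))
    obtain ⟨c, hc⟩ := (hι.bijective_of_nat_card_le (hfc.2 P0 hconj)).2 ⟨y, hy⟩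
    exact ⟨c, c.2, congrArg Subtype.val hc⟩
  have hX : F.IsIso (P ⊔ centralizerIn S P) (P0 ⊔ centralizerIn S P0) H :=
    sup_image hiso (le_normalizerIn hPS) hCN hPimg hCimg
  obtain ⟨H', hH', hl, hrr⟩ := hX.symm
  intro f hf
  obtain ⟨f0, hf0, hf0e⟩ := hEi.iso_transport hH hPT hf le_rfl le_rfl hPimg hPimg
  obtain ⟨k0, hk0, hk0e⟩ := h0 f0 hf0
  have hkP : ∀ x ∈ P, H' (k0 (H x)) = f x := fun x hx => by
    rw [hk0e _ (hH.mem hx), hf0e x hx, hl _ (Subgroup.mem_sup_left (hf.mem hx))]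
  refine ⟨_, ⟨(hX.comp hk0.iso).comp hH', fun x hx => ?_, fun c hc => ?_⟩, hkP⟩
  · show H' (k0 (H x)) ∈ P
    rw [hkP x hx]; exact hf.mem hx
  · show c⁻¹ * H' (k0 (H c)) ∈ P
    have hd : (H c)⁻¹ * k0 (H c) ∈ P0 := hk0.triv _ (hC c hc)
    obtain ⟨x, hx, hxe⟩ := hH.surj hd
    have e : H' (k0 (H c)) = c * x := by
      rw [← mul_inv_cancel_left (H c) (k0 (H c)), ← hxe,
        ← hX.apply_mul (Subgroup.mem_sup_right hc) (Subgroup.mem_sup_left hx),
        hl _ (mul_mem (Subgroup.mem_sup_right hc) (Subgroup.mem_sup_left hx))]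
    rw [e, inv_mul_cancel_left]
    exact hx

/-- Every automorphism of a fully centralised centric subgroup lifts. -/
theorem hasLifts (hS : IsPGroup p S) (hE : E.IsNormalIn F p) (hP : E.IsCentric P)
    (hfc : F.IsFullyCentralized P) : HasLifts E F P := by
  obtain ⟨hEs, hF, hEi⟩ := id hE.1
  have hT := hEi.2.1
  haveI := finite_of_le hT.1
  induction hd : Nat.card T - Nat.card P using Nat.strong_induction_on generalizing P with
  | _ d ih =>
  obtain ⟨P0, hPP0, hP0⟩ := F.exists_isFullyNormalized hfc.1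
  refine hasLifts_of_fullyCentralized hS hE hP.1 hfc hPP0 hP0 ?_
  obtain ⟨φ, hφ, hr⟩ := id hPP0
  have hiso : F.IsIso P P0 (funOf φ) := hr ▸ isIso_funOf hφ
  have hP0c : E.IsCentric P0 := hEi.isCentric_of_isIso hP hiso
  by_cases hne : P0 = T
  · subst hne
    intro f hf
    obtain ⟨α, hα, hαe⟩ := hf.toAut
    obtain ⟨k, hk, hke⟩ := autGroup_le_liftable hE hα
    exact ⟨k, hk, fun x hx => (hke ⟨x, hx⟩).symm.trans (hαe ⟨x, hx⟩)⟩
  refine hasLifts_step hS hE hP0c hP0 hne fun W hW hWc hWfc => ih _ ?_ hWc hWfc rfl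
  have h1 : Nat.card P = Nat.card P0 := hPP0.card_eq
  have h2 : Nat.card W ≤ Nat.card T := Subgroup.card_le_of_le hWc.1
  omega

end Cfsg.FusionSystem.Wedge
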