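import Cfsg.Agent.Lib.Fusion.Wedge.Enlarge

/-!
The automisers of the generated system at fully normalised self-centralising subgroups, and its extension
property.
-/

set_option autoImplicit false
set_option linter.unusedSectionVars false
set_option linter.style.haveILetI false

namespace Cfsg.FusionSystem.Wedge

open Cfsg.FusionSystem.SubCent (image_self isIso_self map_centralizer)

universe u

variable {Ω : Type u} [Group Ω] {S T₁ T₂ : Subgroup Ω} {F : FusionSystem S}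
  {E₁ : FusionSystem T₁} {E₂ : FusionSystem T₂} {U₀ U V P Q X X' : Subgroup Ω} {f g h : Ω → Ω} {p : ℕ}

/-- A map of the generated system on `N_R(U)` carrying `U` to `U₀`. -/
def Wit (F : FusionSystem S) (p : ℕ) (E₁ : FusionSystem T₁) (E₂ : FusionSystem T₂) (U₀ U : Subgroup Ω)
    (w : Ω → Ω) : Prop :=
  U ≤ T₁ ⊓ T₂ ∧ ∃ Q, (wSys F p E₁ E₂).IsIso (normalizerIn (T₁ ⊓ T₂) U) Q w ∧ ∀ y, y ∈ U₀ ↔ ∃ x ∈ U, w x = y

theorem Wit.maps {w : Ω → Ω} (h : Wit F p E₁ E₂ U₀ U w) :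
    ∀ x ∈ normalizerIn (T₁ ⊓ T₂) U, w x ∈ normalizerIn (T₁ ⊓ T₂) U₀ := by
  obtain ⟨hU, Q, hw, hm⟩ := h
  exact fun x hx => ⟨hw.le_right (hw.mem hx), hw.mem_normalizer (le_normalizerIn hU) hm hx hx.2⟩

theorem Wit.restrict {w : Ω → Ω} (h : Wit F p E₁ E₂ U₀ U w) : (wSys F p E₁ E₂).IsIso U U₀ w := by
  obtain ⟨hU, Q, hw, hm⟩ := h
  exact hw.restrict' (le_normalizerIn hU) hm

/-- What is proved at a fully normalised subgroup. -/
structure Good (F : FusionSystem S) (p : ℕ) (E₁ : FusionSystem T₁) (E₂ : FusionSystem T₂) (U₀ : Subgroup Ω) :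
    Prop where
  autW : (wSys F p E₁ E₂).autGroup U₀ ≤ wAut p E₁ E₂ U₀
  witness : ∀ U, (wSys F p E₁ E₂).IsConj U U₀ → ∃ w, Wit F p E₁ E₂ U₀ U w
  ext : ∀ (U M : Subgroup Ω) (φ : Ω → Ω), (wSys F p E₁ E₂).IsIso U U₀ φ → U ≤ M →
    M ≤ normalizerIn (T₁ ⊓ T₂) U → (∀ v ∈ M, ∃ k ∈ T₁ ⊓ T₂, ∀ x ∈ U, φ (v * x * v⁻¹) = k * φ x * k⁻¹) →
    ∃ g M', (wSys F p E₁ E₂).IsIso M M' g ∧ ∀ x ∈ U, g x = φ x

namespace IsPair

variable [Finite S] [Fact p.Prime] (hp : IsPair F p E₁ E₂)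
include hp

theorem dec_F (hPR : P ≤ T₁ ⊓ T₂) (hf : F.IsIso P Q f) : Dec F p E₁ E₂ F P f := by
  refine hp.dec (G := F) ⟨hp.sat, hp.sat, ?_⟩ hp.closed.1 (fun V hV => hp.com_le hV) P Q f hPR hf
  refine ⟨fun _ _ h => h, ⟨le_rfl, fun R hR φ hφ x => F.apply_mem hφ x⟩, ?_, fun R hR φ hφ => ?_⟩
  · intro R hR φ hφ α hα
    obtain ⟨a, ha, hae⟩ := isIso_of_aut le_rfl hα
    obtain ⟨R', hR', hR'le, hR'm⟩ := ha.restrict hR
    obtain ⟨b, hb, hl, hr⟩ := hR'.symm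
    have hm : (R.subgroupOf S).map (S.subtype.comp α.toMonoidHom) = R' := by
      ext y
      rw [hR'm]
      constructor
      · rintro ⟨x, hx, rfl⟩; exact ⟨x, hx, (hae x).symm⟩
      · rintro ⟨x, hx, rfl⟩; exact ⟨⟨x, hR hx⟩, hx, hae _⟩
    obtain ⟨Q', hQ', -, -⟩ := ha.restrict (F.range_le hφ)
    obtain ⟨χ, hχ, -, hχe⟩ := (hb.comp (isIso_funOf hφ)).comp hQ'
    subst hm
    refine ⟨χ, hχ, fun x hφx hαx => ?_⟩
    rw [hχe, hae]
    show a (funOf φ (b (a x))) = _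
    rw [hl x x.2, hae]
    exact congrArg a (funOf_apply φ x).symm
  · exact ⟨1, (F.autGroup S).one_mem, φ, hφ, fun x hx => rfl⟩

/-- Extension of maps from the fully normalised case. -/
theorem genExt_of_good (hX' : Self F (T₁ ⊓ T₂) X')
    (hgood : ∀ U₀, Self F (T₁ ⊓ T₂) U₀ → F.IsFullyNormalized U₀ → Nat.card U₀ = Nat.card X' →
      Good F p E₁ E₂ U₀) : GenExt F p E₁ E₂ X' := by
  classical
  set R := T₁ ⊓ T₂
  set W := wSys F p E₁ E₂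
  intro X M e he hXM hMN hcond
  obtain ⟨X₀, hconj, hX₀⟩ := F.exists_isFullyNormalized (hp.le_S hX'.1)
  obtain ⟨φ, hφ, hr⟩ := id hconj
  have hf : F.IsIso X' X₀ (funOf φ) := hr ▸ isIso_funOf hφ
  obtain ⟨a, w, Q₀, ha, hw, hfe⟩ := hp.dec_F hX'.1 hf
  have hX₀s : Self F R X₀ := hX'.conj hp.closed hf
  have hgd := hgood X₀ hX₀s hX₀ hconj.card_eq.symm
  obtain ⟨U, hU, -, hUm⟩ := ha.restrict hX'.1
  have hXR : X ≤ R := he.le_left
  have hX₀m : ∀ y, y ∈ X₀ ↔ ∃ x ∈ Q₀, a x = y := fun y => by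
    constructor
    · intro hy
      obtain ⟨x, hx, rfl⟩ := hf.surj hy
      exact ⟨w x, hw.mem hx, (hfe x hx).symm⟩
    · rintro ⟨z, hz, rfl⟩
      obtain ⟨x, hx, rfl⟩ := hw.surj hz
      rw [← hfe x hx]
      exact hf.mem hx
  obtain ⟨w₁, hw₁, -⟩ := hp.transport ha hw hUm hX₀m
  obtain ⟨v, hv⟩ := hgd.witness U hw₁.isConj
  obtain ⟨aX, -, -, haX⟩ := ha.restrict hXR
  obtain ⟨e₁, he₁, he₁e⟩ := hp.transport ha he haX hUm
  have hφ₁ : W.IsIso aX X₀ (fun x => v (e₁ x)) := he₁.comp hv.restrict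
  have hMR : M ≤ R := hMN.trans normalizerIn_le
  obtain ⟨aM, haM', -, haMm⟩ := ha.restrict hMR
  have haXM : aX ≤ aM := fun y hy => by
    obtain ⟨x, hx, rfl⟩ := (haX y).mp hy
    exact (haMm _).mpr ⟨x, hXM hx, rfl⟩
  have haMN : aM ≤ normalizerIn R aX := fun y hy => by
    obtain ⟨x, hx, rfl⟩ := (haMm y).mp hy
    exact ⟨ha.mem (hMR hx), ha.mem_normalizer hXR haX (hMR hx) (hMN hx).2⟩
  -- the transported condition
  have hnorm : ∀ m ∈ M, ∀ k ∈ R, (∀ x ∈ X, e (m * x * m⁻¹) = k * e x * k⁻¹) →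
      a k ∈ normalizerIn R U := by
    intro m hm k hk hke
    refine ⟨ha.mem hk, ha.mem_normalizer hX'.1 hUm hk ?_⟩
    rw [Subgroup.mem_normalizer_iff]
    intro z
    constructor
    · intro hz
      obtain ⟨x, hx, rfl⟩ := he.surj hz
      rw [← hke x hx]
      exact he.mem ((Subgroup.mem_normalizer_iff.mp (hMN hm).2 x).mp hx)
    · intro hz
      obtain ⟨x, hx, hxe⟩ := he.surj hz
      have hx' : m⁻¹ * x * m ∈ X := (Subgroup.mem_normalizer_iff''.mp (hMN hm).2 x).mp hx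
      have h1 := hke _ hx'
      rw [show m * (m⁻¹ * x * m) * m⁻¹ = x by group, hxe] at h1
      rw [mul_left_cancel (mul_right_cancel h1)]
      exact he.mem hx'
  have hkey : ∀ m ∈ M, ∀ k ∈ R, (∀ x ∈ X, e (m * x * m⁻¹) = k * e x * k⁻¹) → ∀ x ∈ X,
      v (e₁ (a m * a x * (a m)⁻¹)) = v (a k) * v (e₁ (a x)) * (v (a k))⁻¹ := by
    intro m hm k hk hke x hx
    have hmx : m * x * m⁻¹ ∈ X := (Subgroup.mem_normalizer_iff.mp (hMN hm).2 x).mp hx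
    obtain ⟨-, Q, hQ, -⟩ := hv
    rw [← ha.apply_conj (hMR hm) (hXR hx), he₁e _ hmx, hke x hx, ha.apply_conj hk (hX'.1 (he.mem hx)),
      he₁e x hx, hQ.apply_conj (hnorm m hm k hk hke) (le_normalizerIn (hp.closed.iso_le hU hX'.1) (hU.mem (he.mem hx)))]
  obtain ⟨g, M', hg, hge⟩ := hgd.ext aX aM _ hφ₁ haXM haMN (by
    intro y hy
    obtain ⟨m, hm, rfl⟩ := (haMm y).mp hy
    obtain ⟨k, hk, hke⟩ := hcond m hm
    refine ⟨v (a k), (hv.maps _ (hnorm m hm k hk hke)).1, fun z hz => ?_⟩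
    obtain ⟨x, hx, rfl⟩ := (haX z).mp hz
    exact hkey m hm k hk hke x hx)
  obtain ⟨hUR, Qv, hQv, hQvm⟩ := id hv
  have hM'Q : M' ≤ Qv := by
    intro z hz
    obtain ⟨y, hy, rfl⟩ := hg.surj hz
    obtain ⟨m, hm, rfl⟩ := (haMm y).mp hy
    obtain ⟨k, hk, hke⟩ := hcond m hm
    have hkN := hnorm m hm k hk hke
    have hd : (v (a k))⁻¹ * g (a m) ∈ X₀ := by
      refine hX₀s.cent hp.closed.1 ⟨R.mul_mem (R.inv_mem (hv.maps _ hkN).1) (hg.le_right (hg.mem hy)),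
        Subgroup.mem_centralizer_iff.mpr fun u hu => ?_⟩
      obtain ⟨q, hq, rfl⟩ := hφ₁.surj hu
      obtain ⟨x, hx, rfl⟩ := (haX q).mp hq
      have hmem : a m * a x * (a m)⁻¹ ∈ aX := (Subgroup.mem_normalizer_iff.mp (haMN hy).2 _).mp hq
      have h1 := hkey m hm k hk hke x hx
      have h2 : g (a m * a x * (a m)⁻¹) = g (a m) * g (a x) * (g (a m))⁻¹ := hg.apply_conj hy (haXM hq)
      rw [hge _ hmem, hge _ hq] at h2
      calc v (e₁ (a x)) * ((v (a k))⁻¹ * g (a m))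
          = (v (a k))⁻¹ * (v (a k) * v (e₁ (a x)) * (v (a k))⁻¹) * g (a m) := by group
        _ = (v (a k))⁻¹ * (g (a m) * v (e₁ (a x)) * (g (a m))⁻¹) * g (a m) := by rw [← h1, h2]
        _ = _ := by group
    obtain ⟨z, hz, hze⟩ := (hQvm _).mp hd
    have := Qv.mul_mem (hQv.mem hkN) (hze ▸ hQv.mem (le_normalizerIn hUR hz))
    rwa [mul_inv_cancel_left] at this
  obtain ⟨v', hv', hv'l, -⟩ := hQv.symm
  obtain ⟨M'', hM'', -, -⟩ := hv'.restrict hM'Q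
  have hψ := hg.comp hM''
  obtain ⟨a', ha', hal, har⟩ := ha.symm
  have hMm : ∀ y, y ∈ M ↔ ∃ x ∈ aM, a' x = y := fun y =>
    ⟨fun hy => ⟨a y, (haMm _).mpr ⟨y, hy, rfl⟩, hal y (hMR hy)⟩, fun ⟨x, hx, hxe⟩ => by
      obtain ⟨m, hm, rfl⟩ := (haMm x).mp hx
      rw [hal m (hMR hm)] at hxe
      exact hxe ▸ hm⟩
  obtain ⟨M₂, -, -, hM₂m⟩ := ha'.restrict hψ.le_right
  obtain ⟨g₂, hg₂, hg₂e⟩ := hp.transport ha' hψ hMm hM₂m
  refine ⟨g₂, M₂, hg₂, fun x hx => ?_⟩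
  have hax : a x ∈ aX := (haX _).mpr ⟨x, hx, rfl⟩
  have h1 := hg₂e (a x) (haXM hax)
  rw [hal x (hXR hx), hge _ hax, he₁e x hx, hv'l _ (le_normalizerIn hUR ((hUm _).mpr ⟨e x, he.mem hx, rfl⟩)),
    hal _ (he.le_right (he.mem hx))] at h1
  exact h1

set_option maxHeartbeats 800000 in
/-- Restrictions of automorphisms of `N_R(U₀)`. -/
theorem restrict_aut (hself : Self F (T₁ ⊓ T₂) U₀) (hn : F.IsFullyNormalized U₀) (hne : U₀ ≠ T₁ ⊓ T₂)
    (hgood : ∀ V, Self F (T₁ ⊓ T₂) V → F.IsFullyNormalized V → Nat.card U₀ < Nat.card V → Good F p E₁ E₂ V)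
    {k : Ω → Ω} (hk : (wSys F p E₁ E₂).IsIso (normalizerIn (T₁ ⊓ T₂) U₀) (normalizerIn (T₁ ⊓ T₂) U₀) k)
    (hkU : ∀ x ∈ U₀, k x ∈ U₀) : ∃ b ∈ wAut p E₁ E₂ U₀, ∀ x : U₀, k x = (b x : U₀) := by
  classical
  set R := T₁ ⊓ T₂
  set W := wSys F p E₁ E₂
  set Y := normalizerIn R U₀
  set A := wAut p E₁ E₂ U₀
  have hU₀R : U₀ ≤ R := hself.1
  have hYR : Y ≤ R := normalizerIn_le
  haveI := finite_of_le hp.closed.1
  haveI := finite_of_le (hp.le_S hYR)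
  haveI := finite_of_le hn.1
  haveI := finite_mulAut_of_le (hp.le_S hYR)
  haveI := finite_mulAut_of_le hn.1
  have hlt : U₀ < Y := lt_normalizerIn hp.pgroupR (lt_of_le_of_ne hU₀R hne)
  have hUY : U₀ ≤ Y := hlt.le
  have hYself : Self F R Y := hself.mono hUY hYR
  let r := res W (X := Y) (U := U₀) hUY
  obtain ⟨κ, hκ, hκe⟩ := hk.toAut
  have himg : ∀ y, y ∈ U₀ ↔ ∃ x ∈ U₀, k x = y := image_self (hk.mono hp.sub) hUY hkU
  have hκst : κ ∈ stabAut W Y U₀ := ⟨hκ, fun x => by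
    constructor
    · intro hx
      rw [hκe] at hx
      obtain ⟨u, hu, hue⟩ := (himg _).mp hx
      exact hk.inj (hUY hu) x.2 hue ▸ hu
    · intro hx
      rw [hκe]; exact hkU _ hx⟩
  refine ⟨r ⟨κ, hκst⟩, ?_, fun x => (hκe ⟨x, hUY x.2⟩).symm.trans (res_apply (F := W) hUY ⟨κ, hκst⟩ x).symm⟩
  -- `p`-elements
  have hpel : ∀ c : stabAut W Y U₀, ∀ i : ℕ, c ^ p ^ i = 1 → r c ∈ A := by
    intro c i hc
    obtain ⟨Y₁, hconj, hY₁⟩ := F.exists_isFullyNormalized (hp.le_S hYR)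
    obtain ⟨φ, hφ, hr⟩ := id hconj
    have hf : F.IsIso Y Y₁ (funOf φ) := hr ▸ isIso_funOf hφ
    obtain ⟨a, w, Q₀, ha, hw, hfe⟩ := hp.dec_F hYR hf
    have hY₁s : Self F R Y₁ := hYself.conj hp.closed hf
    have hg1 := hgood Y₁ hY₁s hY₁ (by rw [← hconj.card_eq]; exact card_lt_of_lt hlt)
    obtain ⟨c₀, hc₀, hc₀e⟩ := isIso_of_aut hYR c.2.1
    obtain ⟨w', hw', hwl, -⟩ := hw.symm
    have hc₁ := (hw'.comp hc₀).comp hw
    have hY₁m : ∀ y, y ∈ Y₁ ↔ ∃ x ∈ Q₀, a x = y := fun y => by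
      constructor
      · intro hy
        obtain ⟨x, hx, rfl⟩ := hf.surj hy
        exact ⟨w x, hw.mem hx, (hfe x hx).symm⟩
      · rintro ⟨z, hz, rfl⟩
        obtain ⟨x, hx, rfl⟩ := hw.surj hz
        rw [← hfe x hx]
        exact hf.mem hx
    obtain ⟨c₂, hc₂, hc₂e⟩ := hp.transport ha hc₁ hY₁m hY₁m
    obtain ⟨γ, hγ, hγe⟩ := hc₂.toAut
    have hstep : ∀ x : Y, ∀ hx : funOf φ x ∈ Y₁,
        ((γ ⟨funOf φ x, hx⟩ : Y₁) : Ω) = funOf φ ((((c : MulAut Y)) x : Y) : Ω) := by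
      intro x hx
      rw [hγe]
      show c₂ (funOf φ x) = _
      rw [hfe x x.2, hc₂e _ (hw.mem x.2)]
      show a (w (c₀ (w' (w x)))) = _
      rw [hwl x x.2, hfe _ (SetLike.coe_mem _), hc₀e]
    have hγp : γ ^ p ^ i = 1 := by
      have key : ∀ (j : ℕ) (x : Y), (((γ ^ j) ⟨funOf φ x, hf.mem x.2⟩ : Y₁) : Ω) =
          funOf φ (((((c : MulAut Y)) ^ j) x : Y) : Ω) := by
        intro j
        induction j with
        | zero => intro x; rfl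
        | succ j ih =>
          intro x
          rw [pow_succ, pow_succ, MulAut.mul_apply, MulAut.mul_apply]
          rw [show γ ⟨funOf φ x, hf.mem x.2⟩ = ⟨funOf φ ((((c : MulAut Y)) x : Y) : Ω), hf.mem (SetLike.coe_mem _)⟩
            from Subtype.ext (hstep x _)]
          exact ih _
      refine MulEquiv.ext fun ⟨y, hy⟩ => Subtype.ext ?_
      obtain ⟨x, hx, rfl⟩ := hf.surj hy
      rw [key (p ^ i) ⟨x, hx⟩, ← Subgroup.coe_pow, hc]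
      rfl
    set A₁ := wAut p E₁ E₂ Y₁ with hA₁
    obtain ⟨P₁, hP₁⟩ := hp.wAut_sylow hY₁s.1 hY₁
    haveI := finite_mulAut_of_le hY₁.1
    let γ' : A₁ := ⟨γ, hg1.autW hγ⟩
    have hγP : IsPGroup p (Subgroup.zpowers γ') := by
      obtain ⟨j, -, hj⟩ := (Nat.dvd_prime_pow (Fact.out : p.Prime)).mp
        (orderOf_dvd_of_pow_eq_one (show γ' ^ p ^ i = 1 from Subtype.ext hγp))
      exact IsPGroup.of_card (n := j) (by rw [Nat.card_zpowers, hj])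
    obtain ⟨bA, hbA⟩ := exists_conj_mem_sylow P₁ hγP
    have hb' := hbA γ' (Subgroup.mem_zpowers γ')
    have hb'' : (bA * γ' * bA⁻¹ : A₁) ∈ (autInducedBy R Y₁).subgroupOf A₁ := hP₁.le hb'
    obtain ⟨t, ht, htn, hte⟩ := mem_autInducedBy_iff.mp
      (hb'' : ((bA : MulAut Y₁) * γ * (bA : MulAut Y₁)⁻¹) ∈ autInducedBy R Y₁)
    obtain ⟨β, hβ, hβe⟩ := isIso_of_aut hY₁.1 (hp.com_le hY₁s.1 (hp.wAut_le_com hY₁s.1 bA.2))
    have hθ : F.IsIso Y Y₁ (fun x => β (funOf φ x)) := hf.comp hβ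
    have hθc : ∀ x : Y, β (funOf φ ((((c : MulAut Y)) x : Y) : Ω)) = t * β (funOf φ x) * t⁻¹ := by
      intro x
      have h1 := hte ((bA : MulAut Y₁) ⟨funOf φ x, hf.mem x.2⟩)
      have h2 : ((bA : MulAut Y₁)⁻¹ ((bA : MulAut Y₁) ⟨funOf φ x, hf.mem x.2⟩)) = ⟨funOf φ x, hf.mem x.2⟩ :=
        MulAut.inv_apply_self _ _ _
      change (((bA : MulAut Y₁) (γ ((bA : MulAut Y₁)⁻¹ ((bA : MulAut Y₁) ⟨funOf φ x, hf.mem x.2⟩))) : Y₁) : Ω) =
        t * (((bA : MulAut Y₁) ⟨funOf φ x, hf.mem x.2⟩ : Y₁) : Ω) * t⁻¹ at h1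
      rw [h2, hβe, hβe, hstep] at h1
      exact h1
    obtain ⟨U₁, hU₁, -, hU₁m⟩ := hθ.restrict hUY
    have hU₁c : F.IsConj U₁ U₀ := hU₁.isConj.symm
    obtain ⟨s, D, hs, hD, hsm⟩ := exists_norm_map hp.pgroup hp.sat hn hU₁c
    have htU₁ : t ∈ Subgroup.normalizer (U₁ : Set Ω) := by
      rw [Subgroup.mem_normalizer_iff]
      intro z
      constructor
      · intro hz
        obtain ⟨u, hu, rfl⟩ := (hU₁m z).mp hz
        refine (hU₁m _).mpr ⟨_, (c.2.2 ⟨u, hUY hu⟩).mpr hu, ?_⟩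
        exact hθc ⟨u, hUY hu⟩
      · intro hz
        obtain ⟨u, hu, hue⟩ := (hU₁m _).mp hz
        let x : Y := (c : MulAut Y)⁻¹ ⟨u, hUY hu⟩
        have hxU : (x : Ω) ∈ U₀ := (c.2.2 x).mp (by rw [MulAut.apply_inv_self]; exact hu)
        have h2 := hθc x
        rw [MulAut.apply_inv_self, hue] at h2
        rw [mul_left_cancel (mul_right_cancel h2)]
        exact (hU₁m _).mpr ⟨x, hxU, rfl⟩
    have htS : t ∈ normalizerIn S U₁ := ⟨hp.closed.1 ht, htU₁⟩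
    have hU₁S : U₁ ≤ S := hU₁.le_right
    have hsU : F.IsIso U₁ U₀ s := hs.restrict' (le_normalizerIn hU₁S) hsm
    obtain ⟨δ, hδ, hδe⟩ := (hU₁.comp hsU).toAut
    have hconjδ : δ * r c * δ⁻¹ ∈ A := by
      refine Subgroup.mem_sup_right (mem_autInducedBy_iff.mpr ⟨s t, hp.closed.iso_mem hs htS ht,
        (hD (hs.mem htS)).2, fun u => ?_⟩)
      rw [MulAut.mul_apply, MulAut.mul_apply, hδe]
      set z := δ⁻¹ u
      show s (β (funOf φ ((r c z : U₀) : Ω))) = s t * u * (s t)⁻¹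
      rw [show ((r c z : U₀) : Ω) = ((((c : MulAut Y)) ⟨z, hUY z.2⟩ : Y) : Ω) from res_apply hUY c z, hθc,
        hs.apply_conj htS (le_normalizerIn hU₁S (hU₁.mem z.2))]
      have : s (β (funOf φ z)) = u := by rw [← hδe, MulAut.apply_inv_self]
      rw [this]
    have h3 := hp.wAut_conj hU₀R hn ((F.autGroup U₀).inv_mem hδ) hconjδ
    simpa [mul_assoc] using h3
  -- all elements
  let K : Subgroup (stabAut W Y U₀) := A.comap r
  have hfin : Finite (stabAut W Y U₀) := inferInstance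
  obtain ⟨PS⟩ := (inferInstance : Nonempty (Sylow p (stabAut W Y U₀)))
  have htop : K = ⊤ := SubCent.eq_top_of_sylow_of_pprime K PS
    (fun c hc => by
      obtain ⟨i, hi⟩ := PS.2 ⟨c, hc⟩
      exact hpel c i (congrArg Subtype.val hi))
    (fun c hc => by
      obtain ⟨c₀, hc₀, hc₀e⟩ := isIso_of_aut hYR c.2.1
      obtain ⟨U', hU', -, hU'm⟩ := hc₀.restrict hUY
      have : U' = U₀ := le_antisymm (fun y hy => by
        obtain ⟨x, hx, rfl⟩ := (hU'm y).mp hy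
        rw [← hc₀e ⟨x, hUY hx⟩]; exact (c.2.2 _).mpr hx) (fun y hy => by
        refine (hU'm y).mpr ⟨((c : MulAut Y)⁻¹ ⟨y, hUY hy⟩ : Y), (c.2.2 _).mp ?_, ?_⟩
        · rw [MulAut.apply_inv_self]; exact hy
        · rw [← hc₀e, MulAut.apply_inv_self])
      subst this
      obtain ⟨γ, hγ, hγe⟩ := (hU'.mono wSys_le₁).toAut
      obtain ⟨γ', hγ', hγ'e⟩ := (hU'.mono wSys_le₂).toAut
      have e1 : γ = r c := MulEquiv.ext fun x => Subtype.ext (by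
        rw [hγe, res_apply hUY c x, hc₀e])
      have e2 : γ' = r c := MulEquiv.ext fun x => Subtype.ext (by
        rw [hγ'e, res_apply hUY c x, hc₀e])
      exact Subgroup.mem_sup_left (mem_comRes_of_pprime ⟨e1 ▸ hγ, e2 ▸ hγ'⟩
        fun hd => hc (hd.trans (orderOf_map_dvd r c))))
  exact htop.ge (Subgroup.mem_top _)

set_option maxHeartbeats 800000 in
/-- The step from a witness. -/
theorem step_lemma (hself : Self F (T₁ ⊓ T₂) U₀) (hn : F.IsFullyNormalized U₀)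
    (hgen : ∀ X', Self F (T₁ ⊓ T₂) X' → Nat.card U₀ < Nat.card X' → GenExt F p E₁ E₂ X')
    (hUX : U₀ < X) (hX : X ≤ normalizerIn (T₁ ⊓ T₂) U₀) (hh : (wSys F p E₁ E₂).IsIso X X' h)
    (hP : ∀ y, y ∈ P ↔ ∃ x ∈ U₀, h x = y) :
    ∃ w', Wit F p E₁ E₂ U₀ P w' ∧ ∃ b ∈ wAut p E₁ E₂ U₀, ∀ x : U₀, w' (h x) = (b x : U₀) := by
  classical
  set R := T₁ ⊓ T₂
  set W := wSys F p E₁ E₂
  set Y := normalizerIn R U₀
  haveI := finite_of_le hp.closed.1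
  haveI := finite_of_le hn.1
  have hU₀R : U₀ ≤ R := hself.1
  have hhF := hh.mono hp.sub
  have hhP : F.IsIso U₀ P h := hhF.restrict' hUX.le hP
  have hPR : P ≤ R := hp.closed.iso_le hhP hU₀R
  obtain ⟨s, D, hs, hD, hsm⟩ := exists_norm_map hp.pgroup hp.sat hn hhP.isConj.symm
  have hle : normalizerIn R P ≤ normalizerIn S P := fun x hx => ⟨hp.closed.1 hx.1, hx.2⟩
  obtain ⟨M', hs', -, -⟩ := hs.restrict hle
  obtain ⟨a, w, Q₀, ha, hw, hse⟩ := hp.dec_F normalizerIn_le hs'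
  obtain ⟨a', ha', hal, har⟩ := ha.symm
  obtain ⟨P₂, hP₂, -, hP₂m⟩ := ha'.restrict hU₀R
  have hX'P : X' ≤ normalizerIn R P := fun v hv => by
    obtain ⟨x, hx, rfl⟩ := hh.surj hv
    exact ⟨hh.le_right (hh.mem hx), hh.mem_normalizer hUX.le hP hx (hX hx).2⟩
  have hwP : ∀ y, y ∈ P₂ ↔ ∃ x ∈ P, w x = y := fun y => by
    rw [hP₂m]
    have hx' : ∀ x ∈ P, a' (s x) = w x := fun x hx => by
      rw [hse x (le_normalizerIn hPR hx), hal _ (hw.le_right (hw.mem (le_normalizerIn hPR hx)))]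
    constructor
    · rintro ⟨u, hu, rfl⟩
      obtain ⟨x, hx, rfl⟩ := (hsm u).mp hu
      exact ⟨x, hx, (hx' x hx).symm⟩
    · rintro ⟨x, hx, rfl⟩
      exact ⟨s x, (hsm _).mpr ⟨x, hx, rfl⟩, hx' x hx⟩
  have hQ₀ : Q₀ ≤ normalizerIn R P₂ := fun v hv => by
    obtain ⟨x, hx, rfl⟩ := hw.surj hv
    exact ⟨hw.le_right (hw.mem hx), hw.mem_normalizer (le_normalizerIn hPR) hwP hx hx.2⟩
  -- the automorphism of `U₀`
  have hsP : F.IsIso P U₀ s := hs.restrict' (le_normalizerIn (hp.le_S hPR)) hsm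
  obtain ⟨α, hα, hαe⟩ := (hhP.comp hsP).toAut
  obtain ⟨n, b, hnF, hnn, hb, hnb⟩ := hp.decompose hU₀R hn hα
  obtain ⟨nh, hnh, hnhe⟩ := hp.extend_normalizer hU₀R hn hnF hnn
  obtain ⟨nh', hnh', hnl, hnr⟩ := hnh.symm
  have hUY : U₀ ≤ Y := le_normalizerIn hU₀R
  have hbA : b ∈ wAut p E₁ E₂ U₀ := Subgroup.mem_sup_left hb
  obtain ⟨gb, Xb, hgb, hgbe⟩ := hp.converse hself hn hbA hX hUX.le (by
    intro v hv hvn
    have hhv : h v ∈ normalizerIn R P := hX'P (hh.mem hv)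
    have hgv : s (h v) ∈ Y := ⟨hp.closed.iso_mem hs (hle hhv) hhv.1, (hD (hs.mem (hle hhv))).2⟩
    refine mem_autInducedBy_iff.mpr ⟨nh' (s (h v)), (hnh'.mem hgv).1, (hnh'.mem hgv).2, fun u => ?_⟩
    set z := b⁻¹ u
    have hbz : b z = u := MulAut.apply_inv_self _ _ _
    apply hnh.inj (hUY (SetLike.coe_mem _))
      (Y.mul_mem (Y.mul_mem (hnh'.mem hgv) (hUY u.2)) (Y.inv_mem (hnh'.mem hgv)))
    rw [hnh.apply_conj (hnh'.mem hgv) (hUY u.2), hnr _ hgv, hnhe]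
    show ((n (b (U₀.normalizerMonoidHom ⟨v, hvn⟩ z)) : U₀) : Ω) = _
    rw [← MulAut.mul_apply, ← hnb, hαe]
    show s (h (v * (z : Ω) * v⁻¹)) = _
    rw [hh.apply_conj hv (hUX.le z.2), hs.apply_conj (hle hhv) (hle (hX'P (hh.mem (hUX.le z.2)))), hnhe,
      ← hbz, ← MulAut.mul_apply, ← hnb, hαe])
  obtain ⟨gb', hgb', hgl, hgr⟩ := hgb.symm
  obtain ⟨Q', hQ', -, -⟩ := hw.restrict hX'P
  have he : W.IsIso Xb Q' (fun x => w (h (gb' x))) := (hgb'.comp hh).comp hQ'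
  obtain ⟨Y', hY', -, -⟩ := ha'.restrict (normalizerIn_le : Y ≤ R)
  have hγ : F.IsIso Y Y' (fun x => a' (nh x)) := hnh.comp hY'
  have hXb : Xb ≤ Y := fun v hv => by
    obtain ⟨x, hx, rfl⟩ := hgb.surj hv
    refine ⟨hgb.le_right (hgb.mem hx), hgb.mem_normalizer hUX.le (fun y => ?_) hx (hX hx).2⟩
    exact ⟨fun hy => ⟨_, (b⁻¹ ⟨y, hy⟩).2, by rw [hgbe, MulAut.apply_inv_self]⟩,
      fun ⟨z, hz, he⟩ => he ▸ hgbe ⟨z, hz⟩ ▸ SetLike.coe_mem _⟩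
  have hUXb : U₀ < Xb := by
    refine lt_of_le_of_ne (fun y hy => ?_) fun e => ?_
    · have := hgb.mem (hUX.le (b⁻¹ ⟨y, hy⟩).2)
      rwa [hgbe, MulAut.apply_inv_self] at this
    · have h1 := hgb.card_eq
      rw [← e] at h1
      haveI := finite_of_le (hX.trans normalizerIn_le)
      exact absurd h1 (card_lt_of_lt hUX).ne'
  have hagree : ∀ x : U₀, a' (nh ((b x : U₀) : Ω)) = w (h x) := fun x => by
    rw [hnhe, ← MulAut.mul_apply, ← hnb, hαe]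
    show a' (s (h x)) = _
    rw [hse _ (hX'P (hh.mem (hUX.le x.2))), hal _ (hw.le_right (hw.mem (hX'P (hh.mem (hUX.le x.2)))))]
  obtain ⟨e', Y'', he', he'e⟩ := hp.enlarge hself hn le_rfl hγ hgen Xb Q' _ hUXb hXb he fun y hy => by
    show w (h (gb' y)) = a' (nh y)
    obtain ⟨x, hx⟩ : ∃ x : U₀, b x = ⟨y, hy⟩ := ⟨b⁻¹ ⟨y, hy⟩, MulAut.apply_inv_self _ _ _⟩
    have hyx : gb x = y := (hgbe x).trans (congrArg Subtype.val hx)
    rw [← hyx, hgl _ (hUX.le x.2), ← hagree x, hgbe]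
  have hY'' : Y'' = normalizerIn R P₂ := by
    have hle' : Y'' ≤ normalizerIn R P₂ := fun v hv => by
      obtain ⟨x, hx, rfl⟩ := he'.surj hv
      refine ⟨he'.le_right (he'.mem hx), he'.mem_normalizer hUY (fun y => ?_) hx hx.2⟩
      rw [hP₂m]
      constructor
      · rintro ⟨u, hu, rfl⟩
        exact ⟨nh' u, (image_self hnh hUY (fun z hz => by rw [hnhe ⟨z, hz⟩]; exact SetLike.coe_mem _) u).mp hu |>
          fun ⟨z, hz, hze⟩ => by rw [← hze, hnl z (hUY hz)]; exact hz, by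
          obtain ⟨z, hz, rfl⟩ := (image_self hnh hUY (fun z hz => by rw [hnhe ⟨z, hz⟩]; exact SetLike.coe_mem _) u).mp hu
          rw [hnl z (hUY hz), he'e z hz]⟩
      · rintro ⟨z, hz, rfl⟩
        exact ⟨nh z, by rw [hnhe ⟨z, hz⟩]; exact SetLike.coe_mem _, (he'e z hz).symm⟩
    haveI := finite_of_le (normalizerIn_le : normalizerIn R P₂ ≤ R)
    haveI := finite_of_le (normalizerIn_le : Y ≤ R)
    refine Subgroup.eq_of_le_of_card_ge hle' (he'.card_eq ▸ ?_)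
    have hP₂R : P₂ ≤ R := hp.closed.iso_le hP₂ hU₀R
    have hm : ∀ y, y ∈ U₀ ↔ ∃ x ∈ P₂, a x = y := fun y => by
      constructor
      · intro hy
        exact ⟨a' y, (hP₂m _).mpr ⟨y, hy, rfl⟩, har y (hU₀R hy)⟩
      · rintro ⟨z, hz, rfl⟩
        obtain ⟨u, hu, rfl⟩ := (hP₂m z).mp hz
        rwa [har u (hU₀R hu)]
    exact Nat.card_le_card_of_injective (fun x : normalizerIn R P₂ =>
      (⟨a x, ha.mem x.2.1, ha.mem_normalizer hP₂R hm x.2.1 x.2.2⟩ : Y))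
      fun x y hxy => Subtype.ext (ha.inj x.2.1 y.2.1 (congrArg Subtype.val hxy))
  obtain ⟨e'', he'', hel, her⟩ := he'.symm
  obtain ⟨Q'', hQ'', -, -⟩ := he''.restrict (hQ₀.trans hY''.ge)
  have hw'e : ∀ x : U₀, e'' (w (h x)) = (b x : U₀) := fun x => by
    rw [← hagree x, ← he'e _ (b x).2, hel _ (hUY (b x).2)]
  refine ⟨fun x => e'' (w x), ⟨hPR, Q'', hw.comp hQ'', fun y => ?_⟩, b, hbA, hw'e⟩
  constructor
  · intro hy
    exact ⟨h (b⁻¹ ⟨y, hy⟩ : U₀), (hP _).mpr ⟨_, SetLike.coe_mem _, rfl⟩, by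
      show e'' (w (h _)) = y
      rw [hw'e, MulAut.apply_inv_self]⟩
  · rintro ⟨x, hx, rfl⟩
    obtain ⟨u, hu, rfl⟩ := (hP x).mp hx
    show e'' (w (h u)) ∈ U₀
    rw [hw'e ⟨u, hu⟩]
    exact SetLike.coe_mem _

end IsPair

end Cfsg.FusionSystem.Wedge
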