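import Cfsg.Agent.Lib.Fusion.Wedge.Saturated
import Cfsg.Agent.Lib.Fusion.PrimeResidual.Minimal
import Cfsg.Agent.Lib.Fusion.PrimeResidual.NormalResidual
import Cfsg.Agent.Lib.Fusion.PrimeIndexChi.Extended

/-!
The largest subsystem over the intersection of the carriers of two normal subsystems that is normal in the
ambient system and in both.
-/

set_option autoImplicit false
set_option linter.unusedSectionVars false
set_option linter.style.haveILetI false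

namespace Cfsg.FusionSystem.Wedge

open Cfsg.FusionSystem.PrimeResidual (core_le)
open Cfsg.FusionSystem.SubCent (Lift liftable image_self isIso_self map_centralizer extend_ext)

universe u

variable {Ω : Type u} [Group Ω] {S T T₁ T₂ R : Subgroup Ω} {F : FusionSystem S} {E : FusionSystem T}
  {E₁ : FusionSystem T₁} {E₂ : FusionSystem T₂} {a : Ω → Ω} {p : ℕ}

variable [Finite S] [Fact p.Prime]

/-- Lifts in an invariant subsystem are permuted by the automorphisms in the ambient system. -/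
theorem liftable_transport (hS : IsPGroup p S) (hF : F.IsSaturated p) (hE : E.IsInvariantIn F)
    (hR : F.StronglyClosed R) (hRT : R ≤ T) [Finite T] (ha : F.IsIso R R a) {α α' : MulAut R}
    (hα : α ∈ liftable E R hRT)
    (he : ∀ x : R, ∀ hx : a x ∈ R, ((α' ⟨a x, hx⟩ : R) : Ω) = a (α x : R)) : α' ∈ liftable E R hRT := by
  obtain ⟨f, hf, hfe⟩ := hα
  have hn : F.IsFullyNormalized R := SubCent.isFullyNormalized_of_stronglyClosed hR
  obtain ⟨â, hâ, hâe⟩ := extend_ext hS hF (hF.isFullyCentralized_of_isFullyNormalized hS hn) ha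
  have hle : R ⊔ centralizerIn T R ≤ R ⊔ centralizerIn S R :=
    sup_le_sup_left (fun c hc => ⟨hE.2.1.1 hc.1, hc.2⟩) R
  have hâR : ∀ x ∈ R, â x ∈ R := fun x hx => by rw [hâe x hx]; exact ha.mem hx
  have hâC : ∀ c ∈ centralizerIn T R, â c ∈ centralizerIn T R := fun c hc =>
    ⟨hE.2.1.iso_mem hâ (hle (Subgroup.mem_sup_right hc)) hc.1,
      (map_centralizer hâ le_sup_left (image_self hâ le_sup_left hâR) ⟨hE.2.1.1 hc.1, hc.2⟩
        (hle (Subgroup.mem_sup_right hc))).2⟩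
  have hCd : centralizerIn T R ≤ R ⊔ centralizerIn S R := le_sup_right.trans hle
  have hX : F.IsIso (R ⊔ centralizerIn T R) (R ⊔ centralizerIn T R) â :=
    SubCent.sup_image hâ le_sup_left hCd (image_self hâ le_sup_left hâR) (image_self hâ hCd hâC)
  have hXm : ∀ y, y ∈ R ⊔ centralizerIn T R ↔ ∃ x ∈ R ⊔ centralizerIn T R, â x = y := fun y =>
    ⟨hX.surj, fun ⟨x, hx, h⟩ => h ▸ hX.mem hx⟩
  obtain ⟨f', hf', hf'e⟩ := hE.iso_transport hX (sup_le hRT centralizerIn_le) hf.iso le_rfl le_rfl hXm hXm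
  refine ⟨f', ⟨hf', fun y hy => ?_, fun c hc => ?_⟩, fun y => ?_⟩
  · obtain ⟨x, hx, rfl⟩ := (image_self hâ le_sup_left hâR y).mp hy
    rw [hf'e x (Subgroup.mem_sup_left hx)]
    exact hâR _ (hf.pres x hx)
  · obtain ⟨c₀, hc₀, rfl⟩ := (image_self hâ hCd hâC c).mp hc
    rw [hf'e c₀ (Subgroup.mem_sup_right hc₀), ← hX.apply_inv (Subgroup.mem_sup_right hc₀),
      ← hX.apply_mul (Subgroup.inv_mem _ (Subgroup.mem_sup_right hc₀))
        (hf.iso.mem (Subgroup.mem_sup_right hc₀))]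
    exact hâR _ (hf.triv c₀ hc₀)
  · obtain ⟨x, hx, hxy⟩ := ha.surj y.2
    have h1 := he ⟨x, hx⟩ (hxy ▸ y.2)
    rw [show (⟨a x, hxy ▸ y.2⟩ : R) = y from Subtype.ext hxy] at h1
    rw [h1, ← hxy, hfe, ← hâe x hx, hf'e x (Subgroup.mem_sup_left hx), hâe _ (hf.pres x hx)]

namespace IsPair

variable (hp : IsPair F p E₁ E₂)
include hp

theorem weaklyNormal₁ : (wSys F p E₁ E₂).IsWeaklyNormalIn E₁ p :=
  hp.weaklyNormal hp.normal₁.1 inf_le_left (fun _ _ _ h => h.1) wSys_le₁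

theorem weaklyNormal₂ : (wSys F p E₁ E₂).IsWeaklyNormalIn E₂ p :=
  hp.weaklyNormal hp.normal₂.1 inf_le_right (fun _ _ _ h => h.2) wSys_le₂

/-- The automorphisms of the intersection lifting in all three systems. -/
def topAut : Subgroup (MulAut ↥(T₁ ⊓ T₂)) :=
  haveI := finite_of_le hp.closed₁.1
  haveI := finite_of_le hp.closed₂.1
  liftable F (T₁ ⊓ T₂) hp.closed.1 ⊓ liftable E₁ (T₁ ⊓ T₂) inf_le_left ⊓
    liftable E₂ (T₁ ⊓ T₂) inf_le_right ⊓ (wSys F p E₁ E₂).autGroup (T₁ ⊓ T₂)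

/-- The largest common normal subsystem over the intersection. -/
def meet : FusionSystem (T₁ ⊓ T₂) :=
  haveI := finite_of_le hp.closed.1
  PrimeIndexSub.residual hp.topAut hp.pgroupR hp.saturated

theorem meet_sat : hp.meet.IsSaturated p := by
  haveI := finite_of_le hp.closed.1
  exact PrimeIndexSub.residual_isSaturated

theorem meet_le : hp.meet.IsSubsystemOf (wSys F p E₁ E₂) := by
  haveI := finite_of_le hp.closed.1
  exact PrimeIndexSub.residual_le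

theorem gen_mem_topAut {b : Ω → Ω}
    (hb : haveI := finite_of_le hp.closed.1; PrimeIndexSub.Gen (wSys F p E₁ E₂) p hp.topAut b) :
    ∃ β ∈ hp.topAut, ∀ x : ↥(T₁ ⊓ T₂), ((β x : ↥(T₁ ⊓ T₂)) : Ω) = b x := by
  haveI := finite_of_le hp.closed.1
  haveI := finite_of_le hp.closed₁.1
  haveI := finite_of_le hp.closed₂.1
  induction hb with
  | base b P Q hb hP hPQ =>
    obtain ⟨β, hβ, hβe⟩ := hb.toAut
    have main : ∀ {T : Subgroup Ω} (G : FusionSystem T) [Finite T] (hRT : T₁ ⊓ T₂ ≤ T), IsPGroup p T →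
        (wSys F p E₁ E₂).IsWeaklyNormalIn G p → β ∈ liftable G (T₁ ⊓ T₂) hRT := by
      intro T G _ hRT hTp hw
      obtain ⟨β', hβ', hβ'e, hβ'c⟩ := PrimeResidual.base_lift hTp hw hb hP hPQ
      exact ⟨β', ⟨hβ', fun x hx => by rw [hβ'e x hx]; exact hb.mem hx, hβ'c⟩,
        fun x => (hβe x).trans (hβ'e x x.2).symm⟩
    exact ⟨β, ⟨⟨⟨main F hp.closed.1 hp.pgroup hp.weaklyNormal_F,
      main E₁ inf_le_left (hp.pgroup.to_le hp.closed₁.1) hp.weaklyNormal₁⟩,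
      main E₂ inf_le_right (hp.pgroup.to_le hp.closed₂.1) hp.weaklyNormal₂⟩, hβ⟩, hβe⟩
  | extra b β hβ _ he => exact ⟨β, hβ, he⟩
  | comp b c _ _ ihb ihc =>
    obtain ⟨β, hβ, hβe⟩ := ihb
    obtain ⟨γ, hγ, hγe⟩ := ihc
    exact ⟨γ * β, hp.topAut.mul_mem hγ hβ, fun x => by rw [MulAut.mul_apply, hγe, hβe]⟩
  | congr b c _ he ihb =>
    obtain ⟨β, hβ, hβe⟩ := ihb
    exact ⟨β, hβ, fun x => (hβe x).trans (he x x.2).symm⟩

theorem topAut_transport (ha : F.IsIso (T₁ ⊓ T₂) (T₁ ⊓ T₂) a) {β : MulAut ↥(T₁ ⊓ T₂)} (hβ : β ∈ hp.topAut) :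
    ∃ β' ∈ hp.topAut, ∀ (x : ↥(T₁ ⊓ T₂)) (hx : a x ∈ T₁ ⊓ T₂),
      ((β' ⟨a x, hx⟩ : ↥(T₁ ⊓ T₂)) : Ω) = a (β x : ↥(T₁ ⊓ T₂)) := by
  haveI := finite_of_le hp.closed₁.1
  haveI := finite_of_le hp.closed₂.1
  obtain ⟨⟨⟨hF, h₁⟩, h₂⟩, hW⟩ := hβ
  obtain ⟨f, hf, hfe⟩ := isIso_of_aut le_rfl hW
  have hm : ∀ y, y ∈ T₁ ⊓ T₂ ↔ ∃ x ∈ T₁ ⊓ T₂, a x = y := fun y =>
    ⟨ha.surj, fun ⟨x, hx, h⟩ => h ▸ ha.mem hx⟩
  obtain ⟨g, hg, hge⟩ := hp.transport ha hf hm hm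
  obtain ⟨β', hβ', hβ'e⟩ := hg.toAut
  have he : ∀ (x : ↥(T₁ ⊓ T₂)) (hx : a x ∈ T₁ ⊓ T₂),
      ((β' ⟨a x, hx⟩ : ↥(T₁ ⊓ T₂)) : Ω) = a (β x : ↥(T₁ ⊓ T₂)) := fun x hx => by
    rw [hβ'e, hge x x.2, hfe]
  refine ⟨β', ⟨⟨⟨?_, liftable_transport hp.pgroup hp.sat hp.inv₁ hp.closed inf_le_left ha h₁ he⟩,
    liftable_transport hp.pgroup hp.sat hp.inv₂ hp.closed inf_le_right ha h₂ he⟩, hβ'⟩, he⟩
  obtain ⟨α, hα, hαe⟩ := ha.toAut
  have : β' = α * β * α⁻¹ := MulEquiv.ext fun y => Subtype.ext (by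
    rw [MulAut.mul_apply, MulAut.mul_apply, hαe]
    have h1 := he (α⁻¹ y) (ha.mem (SetLike.coe_mem _))
    rw [show (⟨a ((α⁻¹ y : ↥(T₁ ⊓ T₂)) : Ω), ha.mem (SetLike.coe_mem _)⟩ : ↥(T₁ ⊓ T₂)) = y from Subtype.ext
      ((hαe _).symm.trans (congrArg Subtype.val (MulAut.apply_inv_self _ α y)))] at h1
    exact h1)
  rw [this]
  exact SubCent.liftable_conj hp.pgroup hp.sat (hp.sat.isFullyCentralized_of_isFullyNormalized hp.pgroup
    (SubCent.isFullyNormalized_of_stronglyClosed hp.closed)) hF hα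

theorem gen_transport (ha : F.IsIso (T₁ ⊓ T₂) (T₁ ⊓ T₂) a) {b : Ω → Ω}
    (hb : haveI := finite_of_le hp.closed.1; PrimeIndexSub.Gen (wSys F p E₁ E₂) p hp.topAut b) :
    haveI := finite_of_le hp.closed.1
    ∃ c, PrimeIndexSub.Gen (wSys F p E₁ E₂) p hp.topAut c ∧ ∀ x ∈ T₁ ⊓ T₂, c (a x) = a (b x) := by
  haveI := finite_of_le hp.closed.1
  obtain ⟨β, hβ, hβe⟩ := hp.gen_mem_topAut hb
  obtain ⟨β', hβ', hβ'e⟩ := hp.topAut_transport ha hβ
  obtain ⟨c, hc, hce⟩ := isIso_of_aut le_rfl hβ'.2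
  exact ⟨c, .extra c β' hβ' hβ'.2 hce, fun x hx => by
    rw [← hce ⟨a x, ha.mem hx⟩, hβ'e ⟨x, hx⟩, hβe]⟩

/-- The common system is normal in every system containing the intersection in which the generated system is
weakly normal and its top automorphisms lift. -/
theorem meet_normalIn {T : Subgroup Ω} {G : FusionSystem T} [Finite T] (hTp : IsPGroup p T)
    (hRT : T₁ ⊓ T₂ ≤ T) (hw : (wSys F p E₁ E₂).IsWeaklyNormalIn G p) (hGF : G.IsSubsystemOf F)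
    (hlift : hp.topAut ≤ liftable G (T₁ ⊓ T₂) hRT) : hp.meet.IsNormalIn G p := by
  haveI := finite_of_le hp.closed.1
  obtain ⟨hWs, hGs, hWi⟩ := id hw
  refine ⟨⟨hp.meet_sat, hGs, fun P φ hφ => hWi.1 P (hp.meet_le P hφ), hWi.2.1, ?_, ?_⟩, fun α hα => ?_⟩
  · intro P hPT φ hφ α hα
    obtain ⟨a, ha, hae⟩ := isIso_of_aut hRT hα
    obtain ⟨-, b, Q, f, hb, hf, hφe⟩ := hφ
    have hP' : ∀ y, y ∈ (P.subgroupOf (T₁ ⊓ T₂)).map ((T₁ ⊓ T₂).subtype.comp α.toMonoidHom) ↔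
        ∃ x ∈ P, a x = y := fun y => by
      constructor
      · rintro ⟨x, hx, rfl⟩
        exact ⟨x, hx, (hae x).symm⟩
      · rintro ⟨x, hx, rfl⟩
        exact ⟨⟨x, hPT hx⟩, hx, hae _⟩
    obtain ⟨f', Q', hf', hf'e⟩ := hw.ampleCore_transport hTp ha hf hP'
    obtain ⟨c, hc, hce⟩ := hp.gen_transport (ha.mono hGF) hb
    have hres := hf'.mono (E' := hp.meet) PrimeIndexSub.core_le_residual
    obtain ⟨Q'', hQ'', -, -⟩ := (hc.mem_residual (hS := hp.pgroupR) (hF := hp.saturated)).restrict hf'.le_right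
    obtain ⟨χ, hχ, -, hχe⟩ := hres.comp hQ''
    refine ⟨χ, hχ, fun x hφx hαx => ?_⟩
    rw [hχe, hae, hae]
    show c (f' (a x)) = a (φ x)
    rw [hf'e x x.2, hce _ (hf.le_right (hf.mem x.2)), hφe]
  · intro P hPT φ hφ
    obtain ⟨α, hα, φ₀, hφ₀, hφe⟩ := hWi.2.2.2 P hPT φ hφ
    obtain ⟨c, Q₀, f, hc, hf, hfe, -⟩ := PrimeResidual.frattini hp.pgroupR hWs (isIso_funOf hφ₀)
    obtain ⟨γ, hγ, hγe⟩ := hc.toAut
    obtain ⟨χ, hχ, -, hχe⟩ := hf.mono (E' := hp.meet) PrimeIndexSub.core_le_residual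
    refine ⟨α * γ, mul_mem hα (IsSubsystemOf.isIso_autGroup hWi.1 le_rfl hγ), χ, hχ, fun x hx => ?_⟩
    rw [hφe x ((wSys F p E₁ E₂).apply_mem hφ₀ x), MulAut.mul_apply]
    have h1 : γ ⟨χ x, hx⟩ = ⟨φ₀ x, (wSys F p E₁ E₂).apply_mem hφ₀ x⟩ := Subtype.ext (by
      rw [hγe]
      show c (χ x) = φ₀ x
      rw [hχe, funOf_apply φ₀ x, hfe _ x.2])
    rw [h1]
  · obtain ⟨a, ha, hae⟩ := isIso_of_aut le_rfl hα
    obtain ⟨β₀, hβ₀, hβ₀e⟩ := hp.gen_mem_topAut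
      (PrimeIndexSub.gen_of_centric isCentric_self (ha.mono hp.meet_le) ha)
    obtain ⟨f, hf, hfe⟩ := hlift hβ₀
    obtain ⟨γ, hγ, hγe⟩ := hf.iso.toAut
    refine ⟨γ, hγ, fun x => ?_, fun c hc => ?_⟩
    · rw [hγe, hae, ← hβ₀e, hfe]
      rfl
    · rw [hγe]
      exact ⟨hf.triv c hc, (hf.triv' hc).2.2⟩

theorem meet_normal : hp.meet.IsNormalIn F p :=
  hp.meet_normalIn hp.pgroup hp.closed.1 hp.weaklyNormal_F (fun _ _ h => h) fun _ h => h.1.1.1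

theorem meet_normal₁ : hp.meet.IsNormalIn E₁ p :=
  haveI := finite_of_le hp.closed₁.1
  hp.meet_normalIn (hp.pgroup.to_le hp.closed₁.1) inf_le_left hp.weaklyNormal₁ hp.inv₁.1 fun _ h => h.1.1.2

theorem meet_normal₂ : hp.meet.IsNormalIn E₂ p :=
  haveI := finite_of_le hp.closed₂.1
  hp.meet_normalIn (hp.pgroup.to_le hp.closed₂.1) inf_le_right hp.weaklyNormal₂ hp.inv₂.1 fun _ h => h.1.2

/-- The common system is the largest. -/
theorem le_meet {D : FusionSystem (T₁ ⊓ T₂)} (hD : D.IsNormalIn F p) (h₁ : D.IsNormalIn E₁ p)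
    (h₂ : D.IsNormalIn E₂ p) : D.IsSubsystemOf hp.meet := by
  classical
  haveI := finite_of_le hp.closed.1
  haveI := finite_of_le hp.closed₁.1
  haveI := finite_of_le hp.closed₂.1
  obtain ⟨hDs, -, hDi⟩ := id hD.1
  have hRp := hp.pgroupR
  -- inside the generated system
  have hDW : D ≤ wSys F p E₁ E₂ := by
    refine hDs.le_of_autGroup_le' hRp _ fun V hV _ => ?_
    have hVc : D.IsCentric V := by
      rcases hV with rfl | hV
      exacts [isCentric_self, hV.1]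
    have hVn : D.IsFullyNormalized V := by
      rcases hV with rfl | hV
      exacts [isFullyNormalized_self, hV.2.1]
    have hVs : Self F (T₁ ⊓ T₂) V := ⟨hVc.1, fun Q hQ => by
      obtain ⟨φ, hφ, hr⟩ := hQ
      exact (hDi.isCentric_of_isIso hVc (hr ▸ isIso_funOf hφ : F.IsIso V Q (funOf φ))).centralizerIn_le_self⟩
    obtain ⟨-, P, hP⟩ := hDs.isFullyAutomized_of_isFullyNormalized hRp hVn
    haveI := finite_autGroup (F := D) hVc.1
    refine Subgroup.subgroupOf_eq_top.mp (SubCent.eq_top_of_sylow_of_pprime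
      (((wSys F p E₁ E₂).autGroup V).subgroupOf (D.autGroup V)) P (fun a ha => ?_) fun a ha => ?_)
    · exact autInducedBy_le_autGroup hVc.1 (hP.le ha)
    · exact gens_wSys V hVs _ ⟨h₁.1.2.2.1.isIso_autGroup hVc.1 a.2, h₂.1.2.2.1.isIso_autGroup hVc.1 a.2⟩
        (show ¬ p ∣ orderOf (a : MulAut V) by rw [Subgroup.orderOf_coe]; exact ha)
  have hK : D.autGroup (T₁ ⊓ T₂) ≤ hp.topAut := by
    intro α hα
    have main : ∀ {T : Subgroup Ω} (G : FusionSystem T) [Finite T] (hRT : T₁ ⊓ T₂ ≤ T), D.IsNormalIn G p →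
        α ∈ liftable G (T₁ ⊓ T₂) hRT := by
      intro T G _ hRT hn
      exact SubCent.autGroup_le_liftable hn hα
    exact ⟨⟨⟨main F hp.closed.1 hD, main E₁ inf_le_left h₁⟩, main E₂ inf_le_right h₂⟩,
      IsSubsystemOf.isIso_autGroup (fun P => hDW P) le_rfl hα⟩
  have hmeetF := hp.meet_normal
  refine hDs.le_of_autGroup_le' hRp _ fun V hV _ => ?_
  have hVc : D.IsCentric V := by
    rcases hV with rfl | hV
    exacts [isCentric_self, hV.1]
  intro α hα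
  obtain ⟨φ, hφ, hφr, hφe⟩ := D.exists_map_of_mem_autGroup hVc.1 hα
  obtain ⟨c, Q₀, f, hc, hf, hfe, hQ₀⟩ := PrimeResidual.frattini hRp hp.saturated
    ((isIso_funOf (hDW V hφ)))
  have hfD : D.IsIso V Q₀ f := hf.mono (hp.weaklyNormal_F.ampleCore_le hp.pgroup hD.1)
  obtain ⟨f', hf', hfl, -⟩ := hfD.symm
  have hcQ : D.IsIso Q₀ φ.range c := (hf'.comp (isIso_funOf hφ)).congr fun y hy => by
    obtain ⟨x, hx, rfl⟩ := hfD.surj hy
    show c (f x) = funOf φ (f' (f x))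
    rw [hfl x hx, hfe x hx]
  have hQ₀c : (wSys F p E₁ E₂).IsCentric Q₀ :=
    (hDi.isCentric_iff hp.weaklyNormal_F.2.2 hVc).of_isConj (hf.mono core_le).isConj
  have hcD := hp.weaklyNormal_F.mem_of_restrict hp.pgroup hD.1 hc Q₀ φ.range hQ₀c hcQ
  obtain ⟨γ, hγ, hγe⟩ := hcD.toAut
  have hgen : PrimeIndexSub.Gen (wSys F p E₁ E₂) p hp.topAut c :=
    .extra c γ (hK hγ) (hK hγ).2 hγe
  exact hp.meet.mem_autGroup_of_map (φ := φ)
    ⟨hDW V hφ, c, Q₀, f, hgen, hf, fun x => (funOf_apply φ x).trans (hfe x x.2)⟩ fun x => (hφe x).symm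

end IsPair

end Cfsg.FusionSystem.Wedge
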