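import Cfsg.Agent.Lib.Fusion.Wedge.Common

/-!
The normal subgroup `O^p(com U) Aut_R(U)` of the automiser of a fully normalised subgroup of the intersection.
-/

set_option autoImplicit false
set_option linter.unusedSectionVars false
set_option linter.style.haveILetI false

namespace Cfsg.FusionSystem.Wedge

open Cfsg.FusionSystem.SubCent (image_self isIso_self map_centralizer)

universe u

variable {Ω : Type u} [Group Ω] {S T₁ T₂ : Subgroup Ω} {F : FusionSystem S}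
  {E₁ : FusionSystem T₁} {E₂ : FusionSystem T₂} {U : Subgroup Ω} {p : ℕ}

/-- The `p`-residual of the common automiser. -/
def comRes (p : ℕ) (E₁ : FusionSystem T₁) (E₂ : FusionSystem T₂) (U : Subgroup Ω) : Subgroup (MulAut U) :=
  (pResidual p (com E₁ E₂ U)).map (com E₁ E₂ U).subtype

/-- The group `O^p(com U) Aut_R(U)`. -/
def wAut (p : ℕ) (E₁ : FusionSystem T₁) (E₂ : FusionSystem T₂) (U : Subgroup Ω) : Subgroup (MulAut U) :=
  comRes p E₁ E₂ U ⊔ autInducedBy (T₁ ⊓ T₂) U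

theorem comRes_le : comRes p E₁ E₂ U ≤ com E₁ E₂ U := Subgroup.map_subtype_le _

theorem mem_comRes_of_pprime [Fact p.Prime] {α : MulAut U} (hα : α ∈ com E₁ E₂ U) (hord : ¬ p ∣ orderOf α) :
    α ∈ comRes p E₁ E₂ U :=
  ⟨⟨α, hα⟩, Subgroup.subset_closure (show (orderOf (⟨α, hα⟩ : com E₁ E₂ U)).Coprime p from by
    rw [← Subgroup.orderOf_coe]; exact ((Nat.Prime.coprime_iff_not_dvd Fact.out).mpr hord).symm), rfl⟩

namespace IsPair

variable [Finite S] [Fact p.Prime] (hp : IsPair F p E₁ E₂)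
include hp

theorem comRes_conj (hU : U ≤ T₁ ⊓ T₂) {β : MulAut U} (hβ : β ∈ F.autGroup U) {α : MulAut U}
    (hα : α ∈ comRes p E₁ E₂ U) : β * α * β⁻¹ ∈ comRes p E₁ E₂ U := by
  obtain ⟨a, ha, rfl⟩ := hα
  suffices pResidual p (com E₁ E₂ U) ≤
      ((comRes p E₁ E₂ U).comap (MulAut.conj β).toMonoidHom).subgroupOf (com E₁ E₂ U) from this ha
  refine (Subgroup.closure_le _).mpr fun x hx => ?_
  refine mem_comRes_of_pprime (hp.com_conj hU hβ x.2) ?_
  show ¬ p ∣ orderOf ((MulAut.conj β) (x : MulAut U))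
  rw [MulEquiv.orderOf_eq, Subgroup.orderOf_coe]
  exact (Nat.Prime.coprime_iff_not_dvd Fact.out).mp (Nat.Coprime.symm hx)

theorem wAut_le_com (hU : U ≤ T₁ ⊓ T₂) : wAut p E₁ E₂ U ≤ com E₁ E₂ U :=
  sup_le comRes_le (hp.induced_le_com hU)

theorem wAut_le (hU : U ≤ T₁ ⊓ T₂) : wAut p E₁ E₂ U ≤ F.autGroup U :=
  (hp.wAut_le_com hU).trans (hp.com_le hU)

theorem exists_com_sylow (hU : U ≤ T₁ ⊓ T₂) (hn : F.IsFullyNormalized U) :
    ∃ P : Sylow p ((com E₁ E₂ U).subgroupOf (F.autGroup U)),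
      ∀ a, a ∈ (P : Subgroup ↥((com E₁ E₂ U).subgroupOf (F.autGroup U))) ↔ ((a : F.autGroup U) : MulAut U) ∈ autInducedBy S U := by
  obtain ⟨-, P, hP⟩ := hp.sat.isFullyAutomized_of_isFullyNormalized hp.pgroup hn
  haveI := hp.com_normal hU
  haveI := finite_autGroup (F := F) hn.1
  exact ⟨CfsgLib.sylowInfNormal P _, fun a => ⟨fun ha => hP.le ha, fun ha => hP.ge ha⟩⟩

set_option maxHeartbeats 800000 in
/-- Every automorphism is the product of a normaliser of the Sylow subgroup of `com` and an element of its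
residual. -/
theorem decompose (hU : U ≤ T₁ ⊓ T₂) (hn : F.IsFullyNormalized U) {γ : MulAut U} (hγ : γ ∈ F.autGroup U) :
    ∃ n b : MulAut U, n ∈ F.autGroup U ∧
      (∀ α ∈ autInducedBy S U ⊓ com E₁ E₂ U, n * α * n⁻¹ ∈ autInducedBy S U ⊓ com E₁ E₂ U) ∧
      b ∈ comRes p E₁ E₂ U ∧ γ = n * b := by
  classical
  have hUS := hn.1
  haveI := finite_mulAut_of_le hUS
  haveI := finite_autGroup (F := F) hUS
  set G := F.autGroup U
  set C := com E₁ E₂ U
  set K := C.subgroupOf G with hKdef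
  haveI hKn : K.Normal := hp.com_normal hU
  obtain ⟨P, hP⟩ := hp.exists_com_sylow hU hn
  let O : Subgroup G := (comRes p E₁ E₂ U).subgroupOf G
  haveI : O.Normal := ⟨fun a ha b => hp.comRes_conj hU b.2 ha⟩
  have hmem : ∀ a : G, a ∈ (P : Subgroup K).map K.subtype ↔
      (a : MulAut U) ∈ autInducedBy S U ∧ (a : MulAut U) ∈ C := fun a =>
    ⟨fun ⟨k, hk, hke⟩ => hke ▸ ⟨(hP k).mp hk, k.2⟩, fun ⟨h1, h2⟩ => ⟨⟨a, h2⟩, (hP _).mpr h1, rfl⟩⟩
  have hK : K ≤ Subgroup.normalizer (((P : Subgroup K).map K.subtype : Subgroup G) : Set G) ⊔ O := by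
    have h1 : (P : Subgroup K) ⊔ pResidual p K = ⊤ := CfsgLib.PResidual.pResidual_sup_sylow P
    have h2 : (pResidual p K).map K.subtype ≤ O := by
      rw [Subgroup.map_le_iff_le_comap]
      refine (Subgroup.closure_le _).mpr fun x hx => ?_
      refine mem_comRes_of_pprime x.2 ?_
      show ¬ p ∣ orderOf (((x : G) : MulAut U))
      rw [Subgroup.orderOf_coe, Subgroup.orderOf_coe]
      exact (Nat.Prime.coprime_iff_not_dvd Fact.out).mp (Nat.Coprime.symm hx)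
    intro a ha
    have h3 : K = ((P : Subgroup K) ⊔ pResidual p K).map K.subtype := by
      rw [h1, ← MonoidHom.range_eq_map, Subgroup.range_subtype]
    rw [h3, Subgroup.map_sup] at ha
    exact sup_le_sup Subgroup.le_normalizer h2 ha
  have htop : Subgroup.normalizer (((P : Subgroup K).map K.subtype : Subgroup G) : Set G) ⊔ O = ⊤ := by
    rw [eq_top_iff, ← P.normalizer_sup_eq_top]
    exact sup_le le_sup_left hK
  obtain ⟨n, hnn, b, hb, hnb⟩ := Subgroup.mem_sup_of_normal_right.mp (htop.ge (Subgroup.mem_top (⟨γ, hγ⟩ : G)))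
  refine ⟨n, b, n.2, fun α hα => ?_, hb, (congrArg Subtype.val hnb).symm⟩
  have h4 := (hmem (n * ⟨α, hp.com_le hU hα.2⟩ * n⁻¹)).mp
    ((Subgroup.mem_normalizer_iff.mp hnn _).mp ((hmem ⟨α, hp.com_le hU hα.2⟩).mpr hα))
  exact h4

/-- A normaliser of the Sylow subgroup of `com` extends to `N_R(U)`. -/
theorem extend_normalizer (hU : U ≤ T₁ ⊓ T₂) (hn : F.IsFullyNormalized U) {n : MulAut U} (hnF : n ∈ F.autGroup U)
    (hnn : ∀ α ∈ autInducedBy S U ⊓ com E₁ E₂ U, n * α * n⁻¹ ∈ autInducedBy S U ⊓ com E₁ E₂ U) :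
    ∃ g, F.IsIso (normalizerIn (T₁ ⊓ T₂) U) (normalizerIn (T₁ ⊓ T₂) U) g ∧ ∀ x : U, g x = (n x : U) := by
  have hS := hp.pgroup
  have hrec := hp.sat.isReceptive_of_isFullyNormalized hS hn
  have hNS : normalizerIn (T₁ ⊓ T₂) U ≤ normalizerIn S U := fun x hx => ⟨hp.closed.1 hx.1, hx.2⟩
  obtain ⟨ψ, hψ, hψe⟩ := exists_extension_of_normalizes hrec hnF hNS fun v hv hvn => by
    exact (hnn _ ⟨mem_autInducedBy_iff.mpr ⟨v, hp.closed.1 hv.1, hvn, fun _ => rfl⟩,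
      hp.induced_le_com hU (mem_autInducedBy_iff.mpr ⟨v, hv.1, hvn, fun _ => rfl⟩)⟩).1
  have hiso := isIso_funOf hψ
  have hval : ∀ x : U, funOf ψ x = (n x : U) := fun x =>
    (funOf_apply ψ ⟨x, Subgroup.mem_sup_left x.2⟩).symm.trans (hψe x)
  have himg := image_self hiso le_sup_left fun x hx => by rw [hval ⟨x, hx⟩]; exact SetLike.coe_mem _
  exact ⟨_, isIso_self hiso le_sup_right fun x hx => ⟨hp.closed.iso_mem hiso (Subgroup.mem_sup_right hx) hx.1,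
    hiso.mem_normalizer le_sup_left himg (Subgroup.mem_sup_right hx) hx.2⟩, hval⟩

theorem normalizer_induced (hU : U ≤ T₁ ⊓ T₂) (hn : F.IsFullyNormalized U) {n : MulAut U} (hnF : n ∈ F.autGroup U)
    (hnn : ∀ α ∈ autInducedBy S U ⊓ com E₁ E₂ U, n * α * n⁻¹ ∈ autInducedBy S U ⊓ com E₁ E₂ U)
    {r : MulAut U} (hr : r ∈ autInducedBy (T₁ ⊓ T₂) U) : n * r * n⁻¹ ∈ autInducedBy (T₁ ⊓ T₂) U := by
  obtain ⟨g, hg, hge⟩ := hp.extend_normalizer hU hn hnF hnn
  obtain ⟨v, hv, hvn, hve⟩ := mem_autInducedBy_iff.mp hr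
  have hvN : v ∈ normalizerIn (T₁ ⊓ T₂) U := ⟨hv, hvn⟩
  refine mem_autInducedBy_iff.mpr ⟨g v, (hg.mem hvN).1, (hg.mem hvN).2, fun x => ?_⟩
  rw [MulAut.mul_apply, MulAut.mul_apply, ← hge, hve, hg.apply_conj hvN (le_normalizerIn hU (SetLike.coe_mem _)),
    hge, MulAut.apply_inv_self]

/-- `wAut` is normal. -/
theorem wAut_conj (hU : U ≤ T₁ ⊓ T₂) (hn : F.IsFullyNormalized U) {γ a : MulAut U} (hγ : γ ∈ F.autGroup U)
    (ha : a ∈ wAut p E₁ E₂ U) : γ * a * γ⁻¹ ∈ wAut p E₁ E₂ U := by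
  obtain ⟨n, b, hnF, hnn, hb, rfl⟩ := hp.decompose hU hn hγ
  have hbw : b ∈ wAut p E₁ E₂ U := Subgroup.mem_sup_left hb
  have key : wAut p E₁ E₂ U ≤ (wAut p E₁ E₂ U).comap (MulAut.conj n).toMonoidHom := sup_le
    (fun x hx => (Subgroup.mem_sup_left (hp.comRes_conj hU hnF hx) : n * x * n⁻¹ ∈ _))
    (fun x hx => (Subgroup.mem_sup_right (hp.normalizer_induced hU hn hnF hnn hx) : n * x * n⁻¹ ∈ _))
  have h1 := key ((wAut p E₁ E₂ U).mul_mem ((wAut p E₁ E₂ U).mul_mem hbw ha) ((wAut p E₁ E₂ U).inv_mem hbw))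
  have h2 : n * (b * a * b⁻¹) * n⁻¹ ∈ wAut p E₁ E₂ U := h1
  convert h2 using 1
  group

theorem wAut_inf (hU : U ≤ T₁ ⊓ T₂) (hn : F.IsFullyNormalized U) :
    wAut p E₁ E₂ U ⊓ autInducedBy S U = autInducedBy (T₁ ⊓ T₂) U := by
  refine le_antisymm ?_ (le_inf le_sup_right (autInducedBy_mono hp.closed.1))
  rintro x ⟨hx, hxS⟩
  have hnorm : autInducedBy (T₁ ⊓ T₂) U ≤ Subgroup.normalizer (comRes p E₁ E₂ U : Set (MulAut U)) := by
    intro r hr
    have hrF : r ∈ F.autGroup U := hp.com_le hU (hp.induced_le_com hU hr)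
    rw [Subgroup.mem_normalizer_iff]
    intro y
    refine ⟨hp.comRes_conj hU hrF, fun hy => ?_⟩
    have := hp.comRes_conj hU ((F.autGroup U).inv_mem hrF) hy
    simpa [mul_assoc] using this
  have hx' : x ∈ ((comRes p E₁ E₂ U ⊔ autInducedBy (T₁ ⊓ T₂) U : Subgroup (MulAut U)) : Set (MulAut U)) := hx
  rw [Subgroup.coe_mul_of_right_le_normalizer_left _ _ hnorm] at hx'
  obtain ⟨o, ho, r, hr, rfl⟩ := hx'
  refine Subgroup.mul_mem _ ?_ hr
  refine hp.residual_inf_le hU hn ⟨ho, ?_⟩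
  have := (autInducedBy S U).mul_mem hxS ((autInducedBy S U).inv_mem (autInducedBy_mono hp.closed.1 hr))
  simpa using this

theorem wAut_sylow (hU : U ≤ T₁ ⊓ T₂) (hn : F.IsFullyNormalized U) :
    ∃ P : Sylow p (wAut p E₁ E₂ U),
      (P : Subgroup (wAut p E₁ E₂ U)) = (autInducedBy (T₁ ⊓ T₂) U).subgroupOf (wAut p E₁ E₂ U) := by
  obtain ⟨-, P, hP⟩ := hp.sat.isFullyAutomized_of_isFullyNormalized hp.pgroup hn
  haveI := finite_autGroup (F := F) hn.1
  haveI := finite_mulAut_of_le hn.1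
  set A := wAut p E₁ E₂ U
  let K := A.subgroupOf (F.autGroup U)
  haveI : K.Normal := ⟨fun a ha b => hp.wAut_conj hU hn b.2 ha⟩
  let e : K ≃* A := Subgroup.subgroupOfEquivOfLe (hp.wAut_le hU)
  refine ⟨(CfsgLib.sylowInfNormal P K).mapSurjective (f := e.toMonoidHom) e.surjective, ?_⟩
  show (CfsgLib.sylowInfNormal P K : Subgroup K).map e.toMonoidHom = _
  ext c
  constructor
  · rintro ⟨k, hk, rfl⟩
    exact ((hp.wAut_inf hU hn).le ⟨k.2, hP.le hk⟩ :)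
  · intro hc
    exact ⟨⟨⟨c, hp.wAut_le hU c.2⟩, c.2⟩, hP.ge (autInducedBy_mono hp.closed.1 hc), rfl⟩

end IsPair

end Cfsg.FusionSystem.Wedge
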