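import Cfsg.Agent.Lib.Fusion.Wedge.Loops
import Cfsg.Agent.Lib.Fusion.FamilySaturation.Main

/-!
The generated system is saturated and weakly normal in the ambient system and in both subsystems.
-/

set_option autoImplicit false
set_option linter.unusedSectionVars false
set_option linter.style.haveILetI false

namespace Cfsg.FusionSystem.Wedge

open Cfsg.FusionSystem.SubCent (image_self isIso_self map_centralizer)

universe u

variable {Ω : Type u} [Group Ω] {S T₁ T₂ : Subgroup Ω} {F : FusionSystem S}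
  {E₁ : FusionSystem T₁} {E₂ : FusionSystem T₂} {U₀ U V P Q R' X X' : Subgroup Ω} {f g h : Ω → Ω} {p : ℕ}

/-- Witnesses move forward along `f`. -/
def StepF (F : FusionSystem S) (p : ℕ) (E₁ : FusionSystem T₁) (E₂ : FusionSystem T₂) (U₀ P Q : Subgroup Ω)
    (f : Ω → Ω) : Prop :=
  ∀ w, Wit F p E₁ E₂ U₀ P w → ∃ w', Wit F p E₁ E₂ U₀ Q w' ∧
    ∃ b ∈ wAut p E₁ E₂ U₀, ∀ x ∈ P, ∀ y : U₀, (y : Ω) = w x → w' (f x) = (b y : U₀)

/-- Witnesses move backward along `f`. -/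
def StepB (F : FusionSystem S) (p : ℕ) (E₁ : FusionSystem T₁) (E₂ : FusionSystem T₂) (U₀ P Q : Subgroup Ω)
    (f : Ω → Ω) : Prop :=
  ∀ w', Wit F p E₁ E₂ U₀ Q w' → ∃ w, Wit F p E₁ E₂ U₀ P w ∧
    ∃ b ∈ wAut p E₁ E₂ U₀, ∀ x ∈ P, ∀ y : U₀, (y : Ω) = w' (f x) → w x = (b y : U₀)

theorem Wit.mem {w : Ω → Ω} (h : Wit F p E₁ E₂ U₀ U w) {x : Ω} (hx : x ∈ U) : w x ∈ U₀ :=
  h.restrict.mem hx

theorem StepF.congr (h : StepF F p E₁ E₂ U₀ P Q f) (he : ∀ x ∈ P, g x = f x) : StepF F p E₁ E₂ U₀ P Q g :=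
  fun w hw => by
    obtain ⟨w', hw', b, hb, hbe⟩ := h w hw
    exact ⟨w', hw', b, hb, fun x hx y hy => by rw [he x hx]; exact hbe x hx y hy⟩

theorem StepB.congr (h : StepB F p E₁ E₂ U₀ P Q f) (he : ∀ x ∈ P, g x = f x) : StepB F p E₁ E₂ U₀ P Q g :=
  fun w hw => by
    obtain ⟨w', hw', b, hb, hbe⟩ := h w hw
    exact ⟨w', hw', b, hb, fun x hx y hy => hbe x hx y (by rw [hy, he x hx])⟩

theorem StepF.comp (h₁ : StepF F p E₁ E₂ U₀ P Q f) (h₂ : StepF F p E₁ E₂ U₀ Q R' g)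
    (hf : ∀ x ∈ P, f x ∈ Q) : StepF F p E₁ E₂ U₀ P R' (fun x => g (f x)) := fun w hw => by
  obtain ⟨w₁, hw₁, b₁, hb₁, he₁⟩ := h₁ w hw
  obtain ⟨w₂, hw₂, b₂, hb₂, he₂⟩ := h₂ w₁ hw₁
  refine ⟨w₂, hw₂, b₂ * b₁, (wAut p E₁ E₂ U₀).mul_mem hb₂ hb₁, fun x hx y hy => ?_⟩
  exact he₂ (f x) (hf x hx) (b₁ y) (he₁ x hx y hy).symm

theorem StepB.comp (h₁ : StepB F p E₁ E₂ U₀ P Q f) (h₂ : StepB F p E₁ E₂ U₀ Q R' g)
    (hf : ∀ x ∈ P, f x ∈ Q) : StepB F p E₁ E₂ U₀ P R' (fun x => g (f x)) := fun w hw => by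
  obtain ⟨w₂, hw₂, b₂, hb₂, he₂⟩ := h₂ w hw
  obtain ⟨w₁, hw₁, b₁, hb₁, he₁⟩ := h₁ w₂ hw₂
  refine ⟨w₁, hw₁, b₁ * b₂, (wAut p E₁ E₂ U₀).mul_mem hb₁ hb₂, fun x hx y hy => ?_⟩
  exact he₁ x hx (b₂ y) (he₂ (f x) (hf x hx) y hy).symm

theorem StepF.inv (h : StepB F p E₁ E₂ U₀ P Q f) (hQ : ∀ y, y ∈ Q ↔ ∃ x ∈ P, f x = y)
    (hg : ∀ x ∈ P, g (f x) = x) : StepF F p E₁ E₂ U₀ Q P g := fun w hw => by
  obtain ⟨w', hw', b, hb, he⟩ := h w hw
  refine ⟨w', hw', b, hb, fun z hz y hy => ?_⟩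
  obtain ⟨x, hx, rfl⟩ := (hQ z).mp hz
  rw [hg x hx]
  exact he x hx y hy

theorem StepB.inv (h : StepF F p E₁ E₂ U₀ P Q f) (hQ : ∀ y, y ∈ Q ↔ ∃ x ∈ P, f x = y)
    (hg : ∀ x ∈ P, g (f x) = x) : StepB F p E₁ E₂ U₀ Q P g := fun w hw => by
  obtain ⟨w', hw', b, hb, he⟩ := h w hw
  refine ⟨w', hw', b, hb, fun z hz y hy => ?_⟩
  obtain ⟨x, hx, rfl⟩ := (hQ z).mp hz
  exact he x hx y (by rw [hy, hg x hx])

namespace IsPair

variable [Finite S] [Fact p.Prime] (hp : IsPair F p E₁ E₂)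
include hp

theorem step_forward (hself : Self F (T₁ ⊓ T₂) U₀) (hn : F.IsFullyNormalized U₀)
    (hgen : ∀ X', Self F (T₁ ⊓ T₂) X' → Nat.card U₀ < Nat.card X' → GenExt F p E₁ E₂ X')
    (hV : (wSys F p E₁ E₂).IsIso V R' f) (hPV : P < V) (hQ : ∀ y, y ∈ Q ↔ ∃ x ∈ P, f x = y) :
    StepF F p E₁ E₂ U₀ P Q f := by
  intro w hw
  obtain ⟨hPR, Qw, hQw, hQwm⟩ := id hw
  have hVR : V ≤ T₁ ⊓ T₂ := hV.le_left
  haveI := finite_of_le (hp.le_S hVR)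
  have hlt : P < normalizerIn V P := lt_normalizerIn (hp.pgroup.to_le (hp.le_S hVR)) hPV
  have hle : normalizerIn V P ≤ normalizerIn (T₁ ⊓ T₂) P := fun x hx => ⟨hVR hx.1, hx.2⟩
  obtain ⟨X, hX, hXle, hXm⟩ := hQw.restrict hle
  have hXY : X ≤ normalizerIn (T₁ ⊓ T₂) U₀ := fun y hy => by
    obtain ⟨x, hx, rfl⟩ := (hXm y).mp hy
    exact hw.maps x (hle hx)
  obtain ⟨wi, hwi, hl, hr⟩ := hX.symm
  obtain ⟨X', hX', -, -⟩ := hV.restrict (normalizerIn_le : normalizerIn V P ≤ V)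
  have hU₀X : U₀ < X := by
    refine lt_of_le_of_ne (fun y hy => ?_) fun e => ?_
    · obtain ⟨x, hx, rfl⟩ := (hQwm y).mp hy
      exact (hXm _).mpr ⟨x, hlt.le hx, rfl⟩
    · haveI := finite_of_le (hle.trans normalizerIn_le |>.trans hp.closed.1)
      have h1 := hX.card_eq
      have h2 := hw.restrict.card_eq
      rw [← e] at h1
      have := card_lt_of_lt hlt
      omega
  obtain ⟨w', hw', b, hb, he⟩ := hp.step_lemma (h := fun x => f (wi x)) (P := Q) hself hn hgen hU₀X hXY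
    (hwi.comp hX') (fun y => by
      rw [hQ y]
      constructor
      · rintro ⟨x, hx, rfl⟩
        exact ⟨w x, hw.mem hx, congrArg f (hl x (hlt.le hx))⟩
      · rintro ⟨u, hu, rfl⟩
        obtain ⟨x, hx, rfl⟩ := (hQwm u).mp hu
        exact ⟨x, hx, congrArg f (hl x (hlt.le hx)).symm⟩)
  refine ⟨w', hw', b, hb, fun x hx y hy => ?_⟩
  have h1 := he y
  rwa [hy, hl x (hlt.le hx)] at h1

/-- Transported automorphisms with the same order. -/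
theorem com_transport_pprime {V' : Subgroup Ω} (hV : V ≤ T₁ ⊓ T₂) (hh : F.IsIso V V' h) {α : MulAut V}
    (hα : α ∈ com E₁ E₂ V) (hord : ¬ p ∣ orderOf α) :
    ∃ α' ∈ comRes p E₁ E₂ V', ∀ (x : V) (hx : h x ∈ V'), ((α' ⟨h x, hx⟩ : V') : Ω) = h (α x : V) := by
  obtain ⟨α', hα', hα'e⟩ := hp.com_transport hV hh hα
  refine ⟨α', mem_comRes_of_pprime hα' fun hd => hord (hd.trans (orderOf_dvd_of_pow_eq_one ?_)), hα'e⟩
  have key : ∀ (k : ℕ) (x : V), (((α' ^ k) ⟨h x, hh.mem x.2⟩ : V') : Ω) = h ((α ^ k) x : V) := by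
    intro k
    induction k with
    | zero => intro x; rfl
    | succ k ih =>
      intro x
      rw [pow_succ, pow_succ, MulAut.mul_apply, MulAut.mul_apply,
        show α' ⟨h x, hh.mem x.2⟩ = ⟨h (α x : V), hh.mem (α x).2⟩ from Subtype.ext (hα'e x _), ih]
  refine MulEquiv.ext fun ⟨y, hy⟩ => Subtype.ext ?_
  obtain ⟨x, hx, rfl⟩ := hh.surj hy
  rw [key (orderOf α) ⟨x, hx⟩, pow_orderOf_eq_one]
  rfl

/-- A generator at the same order. -/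
theorem gen_step (hPR : P ≤ T₁ ⊓ T₂) {α : MulAut P} (hα : α ∈ com E₁ E₂ P) (hord : ¬ p ∣ orderOf α)
    (hf : ∀ x : P, f x = (α x : P)) : StepF F p E₁ E₂ U₀ P P f ∧ StepB F p E₁ E₂ U₀ P P f := by
  constructor <;> intro w hw <;>
    obtain ⟨β, hβ, hβe⟩ := hp.com_transport_pprime hPR (hw.restrict.mono hp.sub) hα hord
  · refine ⟨w, hw, β, Subgroup.mem_sup_left hβ, fun x hx y hy => ?_⟩
    rw [hf ⟨x, hx⟩, show y = ⟨w x, hw.mem hx⟩ from Subtype.ext hy]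
    exact (hβe ⟨x, hx⟩ _).symm
  · refine ⟨w, hw, β⁻¹, Subgroup.mem_sup_left ((comRes p E₁ E₂ U₀).inv_mem hβ), fun x hx y hy => ?_⟩
    have h1 : y = β ⟨w x, hw.mem hx⟩ := Subtype.ext (by rw [hy, hβe ⟨x, hx⟩ _, hf ⟨x, hx⟩])
    rw [h1, MulAut.inv_apply_self]

/-- The maps along which witnesses move. -/
def traceSystem (hself : Self F (T₁ ⊓ T₂) U₀) (hn : F.IsFullyNormalized U₀) (hne : U₀ ≠ T₁ ⊓ T₂)
    (hgen : ∀ X', Self F (T₁ ⊓ T₂) X' → Nat.card U₀ < Nat.card X' → GenExt F p E₁ E₂ X') :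
    FusionSystem (T₁ ⊓ T₂) where
  Hom V := {φ | φ ∈ (wSys F p E₁ E₂).Hom V ∧ ∀ P Q, P ≤ V → Nat.card P = Nat.card U₀ →
    (∀ y, y ∈ Q ↔ ∃ x ∈ P, funOf φ x = y) →
    StepF F p E₁ E₂ U₀ P Q (funOf φ) ∧ StepB F p E₁ E₂ U₀ P Q (funOf φ)}
  le_of_mem h := (wSys F p E₁ E₂).le_of_mem h.1
  injective_of_mem h := (wSys F p E₁ E₂).injective_of_mem h.1
  conj_mem := by
    intro V t hV ht
    refine ⟨(wSys F p E₁ E₂).conj_mem hV ht, fun P Q hPV hcard hQ => ?_⟩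
    have hf : (wSys F p E₁ E₂).IsIso (T₁ ⊓ T₂) (T₁ ⊓ T₂) (fun x => t * x * t⁻¹) :=
      isIso_conj_normalizer le_rfl ht (Subgroup.le_normalizer ht)
    have he : ∀ x ∈ P, funOf (conjHom V t) x = t * x * t⁻¹ := fun x hx =>
      (funOf_apply _ ⟨x, hPV hx⟩).symm
    have hQ' : ∀ y, y ∈ Q ↔ ∃ x ∈ P, t * x * t⁻¹ = y := fun y => (hQ y).trans
      ⟨fun ⟨x, hx, h⟩ => ⟨x, hx, (he x hx).symm.trans h⟩, fun ⟨x, hx, h⟩ => ⟨x, hx, (he x hx).trans h⟩⟩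
    haveI := finite_of_le hp.closed.1
    have hlt : Nat.card U₀ < Nat.card ↥(T₁ ⊓ T₂) := card_lt_of_lt (lt_of_le_of_ne hself.1 hne)
    have hPlt : P < T₁ ⊓ T₂ := lt_of_le_of_ne (hPV.trans hV) fun e => by rw [e] at hcard; omega
    obtain ⟨f', hf', hl, hr⟩ := hf.symm
    have hQP : ∀ y, y ∈ P ↔ ∃ x ∈ Q, f' x = y := fun y => by
      constructor
      · intro hy
        exact ⟨_, (hQ' _).mpr ⟨y, hy, rfl⟩, hl y (hPlt.le hy)⟩
      · rintro ⟨x, hx, rfl⟩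
        obtain ⟨z, hz, rfl⟩ := (hQ' x).mp hx
        rw [hl z (hPlt.le hz)]
        exact hz
    have hQle : Q ≤ T₁ ⊓ T₂ := fun y hy => by
      obtain ⟨x, hx, rfl⟩ := (hQ' y).mp hy
      exact hf.mem (hPlt.le hx)
    have hQlt : Q < T₁ ⊓ T₂ := lt_of_le_of_ne hQle fun e => by
      have h1 := (hf.restrict' hPlt.le hQ').card_eq
      rw [e] at h1; omega
    exact ⟨(hp.step_forward hself hn hgen hf hPlt hQ').congr he,
      (StepB.inv (hp.step_forward hself hn hgen hf' hQlt hQP) hQP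
        (fun x hx => hr x (hQlt.le hx))).congr he⟩
  comp_mem := by
    rintro V W' φ ψ ⟨hφ, hφs⟩ ⟨hψ, hψs⟩ h
    refine ⟨(wSys F p E₁ E₂).comp_mem hφ hψ h, fun P Q hPV hcard hQ => ?_⟩
    obtain ⟨P₁, hP₁, -, hP₁m⟩ := (isIso_funOf hφ).restrict hPV
    have hmem : ∀ x ∈ V, funOf φ x ∈ W' := fun x hx => by rw [← funOf_apply φ ⟨x, hx⟩]; exact h _
    have he : ∀ x ∈ P, funOf (ψ.comp (φ.codRestrict W' h)) x = funOf ψ (funOf φ x) := fun x hx => by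
      rw [← funOf_apply (ψ.comp (φ.codRestrict W' h)) ⟨x, hPV hx⟩]
      show ψ ⟨φ ⟨x, hPV hx⟩, h _⟩ = _
      rw [funOf_apply ψ]
      exact congrArg (funOf ψ) (funOf_apply φ ⟨x, hPV hx⟩)
    have hP₁W : P₁ ≤ W' := fun y hy => by
      obtain ⟨x, hx, rfl⟩ := (hP₁m y).mp hy
      exact hmem x (hPV hx)
    have hQ₁ : ∀ y, y ∈ Q ↔ ∃ x ∈ P₁, funOf ψ x = y := fun y => by
      rw [hQ y]
      constructor
      · rintro ⟨x, hx, rfl⟩
        exact ⟨_, (hP₁m _).mpr ⟨x, hx, rfl⟩, (he x hx).symm⟩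
      · rintro ⟨z, hz, rfl⟩
        obtain ⟨x, hx, rfl⟩ := (hP₁m z).mp hz
        exact ⟨x, hx, he x hx⟩
    obtain ⟨hF₁, hB₁⟩ := hφs P P₁ hPV hcard hP₁m
    obtain ⟨hF₂, hB₂⟩ := hψs P₁ Q hP₁W (hP₁.card_eq.symm.trans hcard) hQ₁
    have hm : ∀ x ∈ P, funOf φ x ∈ P₁ := fun x hx => (hP₁m _).mpr ⟨x, hx, rfl⟩
    exact ⟨(hF₁.comp hF₂ hm).congr he, (hB₁.comp hB₂ hm).congr he⟩
  inv_mem := by
    rintro V φ ⟨hφ, hφs⟩
    obtain ⟨ψ, hψ, he⟩ := (wSys F p E₁ E₂).inv_mem hφ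
    refine ⟨ψ, ⟨hψ, fun P Q hPV hcard hQ => ?_⟩, he⟩
    have hψe : ∀ x ∈ V, funOf ψ (funOf φ x) = x := fun x hx => by
      rw [← funOf_apply φ ⟨x, hx⟩, ← funOf_apply ψ ⟨_, ⟨x, hx⟩, rfl⟩]
      exact he ⟨x, hx⟩
    obtain ⟨Q', hQ', -, hQ'm⟩ := (isIso_funOf hψ).restrict hPV
    have hQQ : Q = Q' := by
      ext y
      rw [hQ y, hQ'm y]
    subst hQQ
    have hQV : Q ≤ V := fun y hy => by
      obtain ⟨z, hz, rfl⟩ := (hQ y).mp hy
      obtain ⟨x, hxz⟩ := hPV hz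
      rw [← hxz, ← funOf_apply ψ ⟨φ x, x, rfl⟩, he x]
      exact x.2
    have hP : ∀ y, y ∈ P ↔ ∃ x ∈ Q, funOf φ x = y := fun y => by
      constructor
      · intro hy
        obtain ⟨x, hxy⟩ := hPV hy
        refine ⟨x, (hQ _).mpr ⟨y, hy, ?_⟩, (funOf_apply φ x).symm.trans hxy⟩
        rw [← hxy, ← funOf_apply ψ ⟨φ x, x, rfl⟩, he x]
      · rintro ⟨x, hx, rfl⟩
        obtain ⟨z, hz, rfl⟩ := (hQ x).mp hx
        obtain ⟨v, hvz⟩ := hPV hz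
        rw [← hvz, ← funOf_apply ψ ⟨φ v, v, rfl⟩, he v, ← funOf_apply φ v, hvz]
        exact hz
    obtain ⟨hF, hB⟩ := hφs Q P hQV (hQ'.card_eq.symm.trans hcard) hP
    have hg : ∀ x ∈ Q, funOf ψ (funOf φ x) = x := fun x hx => hψe x (hQV hx)
    exact ⟨StepF.inv hB hP hg, StepB.inv hF hP hg⟩

theorem gens_trace (hself : Self F (T₁ ⊓ T₂) U₀) (hn : F.IsFullyNormalized U₀) (hne : U₀ ≠ T₁ ⊓ T₂)
    (hgen : ∀ X', Self F (T₁ ⊓ T₂) X' → Nat.card U₀ < Nat.card X' → GenExt F p E₁ E₂ X') :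
    Gens F p E₁ E₂ (hp.traceSystem hself hn hne hgen) := by
  intro V hV α hα hord
  have hW := gens_wSys V hV α hα hord
  obtain ⟨φ, hφ, hr, hφe⟩ := (wSys F p E₁ E₂).exists_map_of_mem_autGroup hV.1 hW
  refine (hp.traceSystem hself hn hne hgen).mem_autGroup_of_map (φ := φ) ⟨hφ, fun P Q hPV hcard hQ => ?_⟩
    fun x => (hφe x).symm
  have hf : (wSys F p E₁ E₂).IsIso V V (funOf φ) := by
    refine ⟨φ, hφ, hr, funOf_apply φ⟩
  have he : ∀ x : V, funOf φ x = (α x : V) := fun x => (funOf_apply φ x).symm.trans (hφe x)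
  rcases eq_or_lt_of_le hPV with hPe | hlt
  · subst hPe
    have hQP : Q = P := by
      ext y
      rw [hQ y]
      exact ⟨fun ⟨x, hx, h⟩ => h ▸ hf.mem hx, hf.surj⟩
    subst hQP
    exact hp.gen_step hV.1 hα hord he
  · obtain ⟨f', hf', hl, hrr⟩ := hf.symm
    have hQV : Q ≤ V := fun y hy => by
      obtain ⟨x, hx, rfl⟩ := (hQ y).mp hy
      exact hf.mem (hPV hx)
    have hQP : ∀ y, y ∈ P ↔ ∃ x ∈ Q, f' x = y := fun y => by
      constructor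
      · intro hy
        exact ⟨_, (hQ _).mpr ⟨y, hy, rfl⟩, hl y (hPV hy)⟩
      · rintro ⟨x, hx, rfl⟩
        obtain ⟨z, hz, rfl⟩ := (hQ x).mp hx
        rw [hl z (hPV hz)]
        exact hz
    have hQlt : Q < V := lt_of_le_of_ne hQV fun e => by
      haveI := finite_of_le (hp.le_S hV.1)
      have h1 := (hf.restrict' hPV hQ).card_eq
      rw [e] at h1
      exact absurd h1 (card_lt_of_lt hlt).ne
    exact ⟨hp.step_forward hself hn hgen hf hlt hQ,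
      StepB.inv (hp.step_forward hself hn hgen hf' hQlt hQP) hQP fun x hx => hrr x (hQV hx)⟩

/-- The maps which are in `wAut` when defined on the whole intersection. -/
def topSystem : FusionSystem (T₁ ⊓ T₂) where
  Hom V := {φ | φ ∈ (wSys F p E₁ E₂).Hom V ∧ (V = T₁ ⊓ T₂ →
    ∃ b ∈ wAut p E₁ E₂ (T₁ ⊓ T₂), ∀ (x : V) (hx : (x : Ω) ∈ T₁ ⊓ T₂), φ x = (b ⟨x, hx⟩ : ↥(T₁ ⊓ T₂)))}
  le_of_mem h := (wSys F p E₁ E₂).le_of_mem h.1
  injective_of_mem h := (wSys F p E₁ E₂).injective_of_mem h.1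
  conj_mem := by
    intro V t hV ht
    refine ⟨(wSys F p E₁ E₂).conj_mem hV ht, fun _ => ?_⟩
    exact ⟨(T₁ ⊓ T₂).normalizerMonoidHom ⟨t, Subgroup.le_normalizer ht⟩,
      Subgroup.mem_sup_right (mem_autInducedBy_iff.mpr ⟨t, ht, Subgroup.le_normalizer ht, fun _ => rfl⟩),
      fun x hx => rfl⟩
  comp_mem := by
    rintro V W' φ ψ ⟨hφ, hφs⟩ ⟨hψ, hψs⟩ h
    refine ⟨(wSys F p E₁ E₂).comp_mem hφ hψ h, fun e => ?_⟩
    obtain ⟨b, hb, hbe⟩ := hφs e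
    have hW : W' = T₁ ⊓ T₂ := le_antisymm ((wSys F p E₁ E₂).source_le hψ) fun y hy => by
      subst e
      obtain ⟨x, hx⟩ := b.surjective ⟨y, hy⟩
      have h1 := hbe x x.2
      rw [Subtype.coe_eta, hx] at h1
      have h2 := h x
      rwa [h1] at h2
    obtain ⟨c, hc, hce⟩ := hψs hW
    refine ⟨c * b, (wAut p E₁ E₂ _).mul_mem hc hb, fun x hx => ?_⟩
    show ψ ⟨φ x, h x⟩ = _
    rw [hce ⟨φ x, h x⟩ ((wSys F p E₁ E₂).apply_mem hφ x), MulAut.mul_apply]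
    congr 2
    exact Subtype.ext (hbe x hx)
  inv_mem := by
    rintro V φ ⟨hφ, hφs⟩
    obtain ⟨ψ, hψ, he⟩ := (wSys F p E₁ E₂).inv_mem hφ
    refine ⟨ψ, ⟨hψ, fun e => ?_⟩, he⟩
    haveI := finite_of_le hp.closed.1
    have hcard := (isIso_funOf hφ).card_eq
    have hV : V = T₁ ⊓ T₂ :=
      Subgroup.eq_of_le_of_card_ge ((wSys F p E₁ E₂).source_le hφ) (by rw [hcard, e])
    obtain ⟨b, hb, hbe⟩ := hφs hV
    refine ⟨b⁻¹, (wAut p E₁ E₂ _).inv_mem hb, ?_⟩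
    rintro ⟨_, x, rfl⟩ hx
    rw [he x]
    have hxR : (x : Ω) ∈ T₁ ⊓ T₂ := (wSys F p E₁ E₂).source_le hφ x.2
    have : (⟨φ x, hx⟩ : ↥(T₁ ⊓ T₂)) = b ⟨x, hxR⟩ := Subtype.ext (hbe x hxR)
    rw [this, MulAut.inv_apply_self]

theorem good_top (hR : Self F (T₁ ⊓ T₂) (T₁ ⊓ T₂)) : Good F p E₁ E₂ (T₁ ⊓ T₂) := by
  haveI := finite_of_le hp.closed.1
  have hgens : Gens F p E₁ E₂ hp.topSystem := by
    intro V hV α hα hord
    obtain ⟨φ, hφ, -, hφe⟩ := (wSys F p E₁ E₂).exists_map_of_mem_autGroup hV.1 (gens_wSys V hV α hα hord)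
    refine hp.topSystem.mem_autGroup_of_map (φ := φ) ⟨hφ, fun e => ?_⟩ fun x => (hφe x).symm
    subst e
    exact ⟨α, Subgroup.mem_sup_left (mem_comRes_of_pprime hα hord), fun x _ => hφe x⟩
  refine ⟨fun α hα => ?_, fun U hU => ?_, fun U M φ hφ hUM hM _ => ?_⟩
  · obtain ⟨φ, hφ, -, hφe⟩ := (wSys F p E₁ E₂).exists_map_of_mem_autGroup le_rfl hα
    obtain ⟨b, hb, hbe⟩ := (wSys_le hgens _ hφ).2 rfl
    have : α = b := MulEquiv.ext fun x => Subtype.ext ((hφe x).symm.trans (hbe x x.2))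
    rwa [this]
  · have hUe : U = T₁ ⊓ T₂ := Subgroup.eq_of_le_of_card_ge hU.le_left hU.card_eq.ge
    subst hUe
    exact ⟨fun x => x, le_rfl, normalizerIn (T₁ ⊓ T₂) (T₁ ⊓ T₂), IsIso.refl _ normalizerIn_le,
      fun y => ⟨fun hy => ⟨y, hy, rfl⟩, fun ⟨x, hx, h⟩ => h ▸ hx⟩⟩
  · have hUe : U = T₁ ⊓ T₂ := Subgroup.eq_of_le_of_card_ge hφ.le_left hφ.card_eq.ge
    have hMe : M = U := le_antisymm (hM.trans (normalizerIn_le.trans hUe.ge)) hUM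
    subst hMe
    exact ⟨φ, _, hφ, fun _ _ => rfl⟩

set_option maxHeartbeats 800000 in
/-- Everything at one fully normalised subgroup. -/
theorem good_step (hself : Self F (T₁ ⊓ T₂) U₀) (hn : F.IsFullyNormalized U₀) (hne : U₀ ≠ T₁ ⊓ T₂)
    (hgood : ∀ V, Self F (T₁ ⊓ T₂) V → F.IsFullyNormalized V → Nat.card U₀ < Nat.card V →
      Good F p E₁ E₂ V) : Good F p E₁ E₂ U₀ := by
  classical
  set R := T₁ ⊓ T₂
  set W := wSys F p E₁ E₂
  set Y := normalizerIn R U₀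
  haveI := finite_of_le hp.closed.1
  have hgen : ∀ X', Self F R X' → Nat.card U₀ < Nat.card X' → GenExt F p E₁ E₂ X' := fun X' hX' hlt =>
    hp.genExt_of_good hX' fun V hVs hVn he => hgood V hVs hVn (he ▸ hlt)
  have hid : Wit F p E₁ E₂ U₀ U₀ (fun x => x) := ⟨hself.1, Y, IsIso.refl _ normalizerIn_le,
    fun y => ⟨fun hy => ⟨y, hy, rfl⟩, fun ⟨x, hx, h⟩ => h ▸ hx⟩⟩
  have hle := wSys_le (hp.gens_trace hself hn hne hgen)
  have hstep : ∀ {U : Subgroup Ω} {φ : Ω → Ω}, W.IsIso U U₀ φ →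
      StepF F p E₁ E₂ U₀ U U₀ φ ∧ StepB F p E₁ E₂ U₀ U U₀ φ := by
    intro U φ hφ
    obtain ⟨χ, hχ, hχr, hχe⟩ := id hφ
    have he : ∀ x ∈ U, φ x = funOf χ x := fun x hx => (hχe ⟨x, hx⟩).symm.trans (funOf_apply χ ⟨x, hx⟩)
    obtain ⟨hF, hB⟩ := (hle U hχ).2 U U₀ le_rfl hφ.card_eq fun y =>
      ⟨fun hy => by obtain ⟨x, hx, rfl⟩ := hφ.surj hy; exact ⟨x, hx, (he x hx).symm⟩,
        fun ⟨x, hx, h⟩ => h ▸ he x hx ▸ hφ.mem hx⟩
    exact ⟨hF.congr he, hB.congr he⟩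
  refine ⟨fun α hα => ?_, fun U hU => ?_, fun U M φ hφ hUM hM hcond => ?_⟩
  · obtain ⟨φ, hφ, hφe⟩ := isIso_of_aut hself.1 hα
    obtain ⟨w', hw', b, hb, hbe⟩ := (hstep hφ).1 _ hid
    obtain ⟨-, Q, hQ, -⟩ := id hw'
    have hQY : Q ≤ Y := fun y hy => by
      obtain ⟨x, hx, rfl⟩ := hQ.surj hy
      exact hw'.maps x hx
    haveI := finite_of_le (normalizerIn_le : Y ≤ R)
    have hQe : Q = Y := Subgroup.eq_of_le_of_card_ge hQY hQ.card_eq.le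
    obtain ⟨b', hb', hb'e⟩ := hp.restrict_aut hself hn hne hgood (by rw [hQe] at hQ; exact hQ) fun x hx => hw'.mem hx
    have : α = b'⁻¹ * b := MulEquiv.ext fun x => by
      apply b'.injective
      rw [MulAut.mul_apply, MulAut.apply_inv_self]
      apply Subtype.ext
      rw [← hb'e, hφe, ← hbe x x.2 x rfl]
    rw [this]
    exact (wAut p E₁ E₂ U₀).mul_mem ((wAut p E₁ E₂ U₀).inv_mem hb') hb
  · obtain ⟨φ, hφ, hr⟩ := hU
    obtain ⟨w, hw, -⟩ := (hstep (hr ▸ isIso_funOf hφ : W.IsIso U U₀ (funOf φ))).2 _ hid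
    exact ⟨w, hw⟩
  · obtain ⟨w, hw, b, hb, hbe⟩ := (hstep hφ).2 _ hid
    obtain ⟨-, Q, hQ, -⟩ := id hw
    obtain ⟨M₁, hM₁, -, hM₁m⟩ := hQ.restrict hM
    have hUM₁ : U₀ ≤ M₁ := fun y hy => by
      obtain ⟨x, hx, rfl⟩ := hw.restrict.surj hy
      exact (hM₁m _).mpr ⟨x, hUM hx, rfl⟩
    have hM₁Y : M₁ ≤ Y := fun y hy => by
      obtain ⟨x, hx, rfl⟩ := (hM₁m y).mp hy
      exact hw.maps x (hM hx)
    have hkn : ∀ m ∈ M, ∀ k, (∀ x ∈ U, φ (m * x * m⁻¹) = k * φ x * k⁻¹) →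
        k ∈ Subgroup.normalizer (U₀ : Set Ω) := by
      intro m hm k hke
      rw [Subgroup.mem_normalizer_iff]
      intro z
      constructor
      · intro hz
        obtain ⟨x, hx, rfl⟩ := hφ.surj hz
        rw [← hke x hx]
        exact hφ.mem ((Subgroup.mem_normalizer_iff.mp (hM hm).2 x).mp hx)
      · intro hz
        obtain ⟨x, hx, hxe⟩ := hφ.surj hz
        have hx' : m⁻¹ * x * m ∈ U := (Subgroup.mem_normalizer_iff''.mp (hM hm).2 x).mp hx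
        have h1 := hke _ hx'
        rw [show m * (m⁻¹ * x * m) * m⁻¹ = x by group, hxe] at h1
        rw [mul_left_cancel (mul_right_cancel h1)]
        exact hφ.mem hx'
    obtain ⟨g, M', hg, hge⟩ := hp.converse hself hn ((wAut p E₁ E₂ U₀).inv_mem hb) hM₁Y hUM₁ (by
      intro v hv hvn
      obtain ⟨m, hm, rfl⟩ := (hM₁m v).mp hv
      obtain ⟨k, hk, hke⟩ := hcond m hm
      refine mem_autInducedBy_iff.mpr ⟨k, hk, hkn m hm k hke, fun u => ?_⟩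
      obtain ⟨x, hx, hxu⟩ := hφ.surj u.2
      have hmx : m * x * m⁻¹ ∈ U := (Subgroup.mem_normalizer_iff.mp (hM hm).2 x).mp hx
      have h1 : w x = (b u : U₀) := hbe x hx u hxu.symm
      have h2 := hbe (m * x * m⁻¹) hmx ⟨_, hφ.mem hmx⟩ rfl
      rw [MulAut.mul_apply, MulAut.mul_apply, inv_inv]
      show ((b⁻¹ ((U₀.normalizerMonoidHom ⟨w m, hvn⟩) (b u)) : U₀) : Ω) = _
      have h3 : U₀.normalizerMonoidHom ⟨w m, hvn⟩ (b u) = b ⟨_, hφ.mem hmx⟩ := Subtype.ext (by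
        show w m * (b u : U₀) * (w m)⁻¹ = _
        rw [← h2, hQ.apply_conj (hM hm) (le_normalizerIn hw.1 hx), h1])
      rw [h3, MulAut.inv_apply_self]
      show φ (m * x * m⁻¹) = _
      rw [hke x hx, hxu])
    refine ⟨fun x => g (w x), M', hM₁.comp hg, fun x hx => ?_⟩
    show g (w x) = φ x
    rw [hbe x hx ⟨φ x, hφ.mem hx⟩ rfl, hge, MulAut.inv_apply_self]

theorem good (hself : Self F (T₁ ⊓ T₂) U₀) (hn : F.IsFullyNormalized U₀) : Good F p E₁ E₂ U₀ := by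
  haveI := finite_of_le hp.closed.1
  induction hd : Nat.card ↥(T₁ ⊓ T₂) - Nat.card U₀ using Nat.strong_induction_on generalizing U₀ with
  | _ d ih =>
  by_cases hne : U₀ = T₁ ⊓ T₂
  · subst hne
    exact hp.good_top hself
  refine hp.good_step hself hn hne fun V hV hVn hlt => ih _ ?_ hV hVn rfl
  have : Nat.card V ≤ Nat.card ↥(T₁ ⊓ T₂) := Subgroup.card_le_of_le hV.1
  omega

theorem genExt (hX' : Self F (T₁ ⊓ T₂) X') : GenExt F p E₁ E₂ X' :=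
  hp.genExt_of_good hX' fun _ hV hVn _ => hp.good hV hVn

theorem card_autGroup_le {a : Ω → Ω} (ha : F.IsIso (T₁ ⊓ T₂) (T₁ ⊓ T₂) a) (hXR : X ≤ T₁ ⊓ T₂)
    (hX : ∀ y, y ∈ X' ↔ ∃ x ∈ X, a x = y) :
    Nat.card ((wSys F p E₁ E₂).autGroup X) ≤ Nat.card ((wSys F p E₁ E₂).autGroup X') ∧
      Nat.card (autInducedBy (T₁ ⊓ T₂) X) ≤ Nat.card (autInducedBy (T₁ ⊓ T₂) X') := by
  classical
  have hiso : F.IsIso X X' a := ha.restrict' hXR hX
  have hX'R : X' ≤ T₁ ⊓ T₂ := hp.closed.iso_le hiso hXR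
  haveI := finite_mulAut_of_le (hp.le_S hX'R)
  have hex : ∀ α : (wSys F p E₁ E₂).autGroup X, ∃ β : (wSys F p E₁ E₂).autGroup X', ∀ (x : X) (hx : a x ∈ X'),
      (((β : MulAut X') ⟨a x, hx⟩ : X') : Ω) = a (((α : MulAut X) x : X) : Ω) := by
    intro α
    obtain ⟨f, hf, hfe⟩ := isIso_of_aut hXR α.2
    obtain ⟨g, hg, hge⟩ := hp.transport ha hf hX hX
    obtain ⟨β, hβ, hβe⟩ := hg.toAut
    exact ⟨⟨β, hβ⟩, fun x hx => by rw [hβe, hge x x.2, hfe]⟩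
  have hex' : ∀ α : autInducedBy (T₁ ⊓ T₂) X, ∃ β : autInducedBy (T₁ ⊓ T₂) X', ∀ (x : X) (hx : a x ∈ X'),
      (((β : MulAut X') ⟨a x, hx⟩ : X') : Ω) = a (((α : MulAut X) x : X) : Ω) := by
    intro α
    obtain ⟨r, hr, hrn, hre⟩ := mem_autInducedBy_iff.mp α.2
    have han := ha.mem_normalizer hXR hX hr hrn
    exact ⟨⟨X'.normalizerMonoidHom ⟨a r, han⟩, mem_autInducedBy_iff.mpr ⟨a r, ha.mem hr, han, fun _ => rfl⟩⟩,
      fun x hx => by rw [hre]; exact (ha.apply_conj hr (hXR x.2)).symm⟩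
  choose β hβ using hex
  choose β' hβ' using hex'
  refine ⟨Nat.card_le_card_of_injective β fun α α' e => ?_, Nat.card_le_card_of_injective β' fun α α' e => ?_⟩
  · refine Subtype.ext (MulEquiv.ext fun x => Subtype.ext (hiso.inj (SetLike.coe_mem _) (SetLike.coe_mem _) ?_))
    rw [← hβ α x (hiso.mem x.2), ← hβ α' x (hiso.mem x.2), e]
  · refine Subtype.ext (MulEquiv.ext fun x => Subtype.ext (hiso.inj (SetLike.coe_mem _) (SetLike.coe_mem _) ?_))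
    rw [← hβ' α x (hiso.mem x.2), ← hβ' α' x (hiso.mem x.2), e]

theorem saturated : (wSys F p E₁ E₂).IsSaturated p := by
  classical
  set R := T₁ ⊓ T₂
  set W := wSys F p E₁ E₂
  haveI := finite_of_le hp.closed.1
  refine Family.isSaturated_of_family hp.pgroupR {U | Self F R U}
    (fun P hP Q hQ => ?_) (fun P hP => ?_) (fun D hD => ?_) (fun P hPc hPn => ?_)
  · obtain ⟨φ, hφ, hr⟩ := hQ
    exact hP.conj hp.closed (hr ▸ (isIso_funOf hφ).mono hp.sub : F.IsIso P Q (funOf φ))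
  · obtain ⟨X₀, hconj, hX₀⟩ := F.exists_isFullyNormalized (hp.le_S hP.1)
    obtain ⟨φ, hφ, hr⟩ := id hconj
    have hf : F.IsIso P X₀ (funOf φ) := hr ▸ isIso_funOf hφ
    obtain ⟨a, w, Q₀, ha, hw, hfe⟩ := hp.dec_F hP.1 hf
    have hX₀s : Self F R X₀ := hP.conj hp.closed hf
    have hQ₀s : Self F R Q₀ := hP.conj hp.closed (hw.mono hp.sub)
    obtain ⟨a', ha', hal, har⟩ := ha.symm
    have hQR : Q₀ ≤ R := hw.le_right
    have hm : ∀ y, y ∈ X₀ ↔ ∃ x ∈ Q₀, a x = y := fun y => by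
      constructor
      · intro hy
        obtain ⟨x, hx, rfl⟩ := hf.surj hy
        exact ⟨w x, hw.mem hx, (hfe x hx).symm⟩
      · rintro ⟨z, hz, rfl⟩
        obtain ⟨x, hx, rfl⟩ := hw.surj hz
        rw [← hfe x hx]
        exact hf.mem hx
    have hm' : ∀ y, y ∈ Q₀ ↔ ∃ x ∈ X₀, a' x = y := fun y => by
      constructor
      · intro hy
        exact ⟨a y, (hm _).mpr ⟨y, hy, rfl⟩, hal y (hQR hy)⟩
      · rintro ⟨z, hz, rfl⟩
        obtain ⟨x, hx, rfl⟩ := (hm z).mp hz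
        rwa [hal x (hQR hx)]
    refine ⟨Q₀, hw.isConj, ?_, hQR, fun U ψ hψ hψr => ?_⟩
    · have h1 := hp.card_autGroup_le ha hQR hm
      have h2 := hp.card_autGroup_le ha' hX₀s.1 hm'
      rw [isFullyAutomized_iff hQR, le_antisymm h1.1 h2.1, le_antisymm h1.2 h2.2]
      refine (isFullyAutomized_iff hX₀s.1).mp ⟨hX₀s.1, ?_⟩
      rw [show W.autGroup X₀ = wAut p E₁ E₂ X₀ from
        le_antisymm (hp.good hX₀s hX₀).autW (hp.wAut_le_wSys hX₀s)]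
      exact hp.wAut_sylow hX₀s.1 hX₀
    · have hψiso : W.IsIso U Q₀ (funOf ψ) := hψr ▸ isIso_funOf hψ
      have hψR := W.apply_mem hψ
      obtain ⟨g, M', hg, hge⟩ := hp.genExt hQ₀s U (extender R U ψ) _ hψiso
        (le_extender (W.source_le hψ) hψR) (extender_le_normalizerIn hψR) fun v hv => by
          obtain ⟨-, hvn, k, hk, hke⟩ := (mem_extender_iff hψR).mp hv
          refine ⟨k, hk, fun x hx => ?_⟩
          have hmx : v * x * v⁻¹ ∈ U := (Subgroup.mem_normalizer_iff.mp hvn x).mp hx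
          have h1 := hke ⟨x, hx⟩ hmx
          exact (funOf_apply ψ ⟨_, hmx⟩).symm.trans (h1.trans (by rw [funOf_apply ψ ⟨x, hx⟩]))
      obtain ⟨χ, hχ, -, hχe⟩ := hg
      exact ⟨χ, hχ, fun x hU hN => (hχe ⟨x, hN⟩).trans ((hge x hU).trans (funOf_apply ψ ⟨x, hU⟩).symm)⟩
  · refine wSys_le fun V hV α hα hord => ?_
    obtain ⟨φ, hφ, -, hφe⟩ := W.exists_map_of_mem_autGroup hV.1 (gens_wSys V hV α hα hord)
    exact D.mem_autGroup_of_map (hD V hV hφ) fun x => (hφe x).symm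
  · refine absurd ⟨hPc.1, fun Q hQ c hc => ?_⟩ hPn
    obtain ⟨φ, hφ, hr⟩ := hQ
    have hf : F.IsIso P Q (funOf φ) := hr ▸ isIso_funOf hφ
    obtain ⟨a, w, Q₀, ha, hw, hfe⟩ := hp.dec_F hPc.1 hf
    obtain ⟨d, hd, rfl⟩ := ha.surj hc.1
    have : d ∈ Q₀ := hPc.2 Q₀ hw.isConj ⟨hd, Subgroup.mem_centralizer_iff.mpr fun y hy => by
      obtain ⟨x, hx, rfl⟩ := hw.surj hy
      have hyR := hw.le_right (hw.mem hx)
      refine ha.inj ((T₁ ⊓ T₂).mul_mem hyR hd) ((T₁ ⊓ T₂).mul_mem hd hyR) ?_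
      rw [ha.apply_mul hyR hd, ha.apply_mul hd hyR, ← hfe x hx]
      exact Subgroup.mem_centralizer_iff.mp hc.2 _ (hf.mem hx)⟩
    obtain ⟨x, hx, rfl⟩ := hw.surj this
    rw [← hfe x hx]
    exact hf.mem hx

/-- Weak normality in any weakly normal subsystem above the intersection containing the generated system. -/
theorem weaklyNormal {T : Subgroup Ω} {G : FusionSystem T} (hG : G.IsWeaklyNormalIn F p) (hRT : T₁ ⊓ T₂ ≤ T)
    (hcom : ∀ V, V ≤ T₁ ⊓ T₂ → com E₁ E₂ V ≤ G.autGroup V) (hsub : (wSys F p E₁ E₂).IsSubsystemOf G) :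
    (wSys F p E₁ E₂).IsWeaklyNormalIn G p := by
  obtain ⟨hGs, hF, hGi⟩ := id hG
  refine ⟨hp.saturated, hGs, hsub, ⟨hRT, fun R hR φ hφ x => hp.closed.2 R hR φ (hGi.1 R hφ) x⟩,
    fun P hPT φ hφ α hα => hp.invariance hGi.1 P hPT φ hφ α hα hRT, fun P hP φ hφ => ?_⟩
  obtain ⟨a, w, Q₀, ha, hw, he⟩ := hp.dec hG hRT hcom P _ _ hP (isIso_funOf hφ)
  obtain ⟨α, hα, hαe⟩ := ha.toAut
  obtain ⟨φ₀, hφ₀, -, hφ₀e⟩ := hw
  exact ⟨α, hα, φ₀, hφ₀, fun x hx => by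
    rw [hαe]
    show φ x = a (φ₀ x)
    rw [hφ₀e, ← he x x.2]
    exact funOf_apply φ x⟩

theorem weaklyNormal_F : (wSys F p E₁ E₂).IsWeaklyNormalIn F p := by
  refine ⟨hp.saturated, hp.sat, hp.sub, hp.closed,
    fun P hPT φ hφ α hα => hp.invariance (G := F) (fun _ _ h => h) P hPT φ hφ α hα hp.closed.1,
    fun P hP φ hφ => ?_⟩
  obtain ⟨a, w, Q₀, ha, hw, he⟩ := hp.dec_F hP (isIso_funOf hφ)
  obtain ⟨α, hα, hαe⟩ := ha.toAut
  obtain ⟨φ₀, hφ₀, -, hφ₀e⟩ := hw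
  exact ⟨α, hα, φ₀, hφ₀, fun x hx => by
    rw [hαe]
    show φ x = a (φ₀ x)
    rw [hφ₀e, ← he x x.2]
    exact funOf_apply φ x⟩

end IsPair

end Cfsg.FusionSystem.Wedge
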