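import Cfsg.Agent.Lib.Fusion.Wedge.Residual

/-!
The system generated by the common automorphisms of order prime to `p`, its invariance and the Frattini
decompositions.
-/

set_option autoImplicit false
set_option linter.unusedSectionVars false
set_option linter.style.haveILetI false

namespace Cfsg.FusionSystem.Wedge

open Cfsg.FusionSystem.SubCent (image_self isIso_self map_centralizer)

universe u

variable {Ω : Type u} [Group Ω] {S T₁ T₂ : Subgroup Ω} {F : FusionSystem S}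
  {E₁ : FusionSystem T₁} {E₂ : FusionSystem T₂} {U V P Q : Subgroup Ω} {f g a : Ω → Ω} {p : ℕ}

/-- All conjugates in `F` are self-centralising in `R`. -/
def Self (F : FusionSystem S) (R U : Subgroup Ω) : Prop :=
  U ≤ R ∧ ∀ Q, F.IsConj U Q → centralizerIn R Q ≤ Q

theorem Self.cent {R : Subgroup Ω} (h : Self F R U) (hR : R ≤ S) : centralizerIn R U ≤ U :=
  h.2 U (F.isConj_refl (h.1.trans hR))

theorem Self.conj {R : Subgroup Ω} (h : Self F R U) (hR : F.StronglyClosed R) (hh : F.IsIso U V f) :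
    Self F R V :=
  ⟨hR.iso_le hh h.1, fun Q hQ => h.2 Q (hh.isConj.trans hQ)⟩

theorem Self.mono {R : Subgroup Ω} (h : Self F R U) (hUV : U ≤ V) (hVR : V ≤ R) : Self F R V := by
  refine ⟨hVR, fun Q hQ => ?_⟩
  obtain ⟨φ, hφ, hr⟩ := hQ
  obtain ⟨Q0, hQ0, hle, -⟩ := (hr ▸ isIso_funOf hφ : F.IsIso V Q (funOf φ)).restrict hUV
  intro c hc
  exact hle (h.2 Q0 hQ0.isConj ⟨hc.1, Subgroup.centralizer_le hle hc.2⟩)

/-- The maps in both subsystems. -/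
def inter (E₁ : FusionSystem T₁) (E₂ : FusionSystem T₂) : FusionSystem (T₁ ⊓ T₂) where
  Hom P := {φ | φ ∈ E₁.Hom P ∧ φ ∈ E₂.Hom P}
  le_of_mem h := ⟨le_inf (E₁.source_le h.1) (E₂.source_le h.2), fun x => ⟨E₁.apply_mem h.1 x, E₂.apply_mem h.2 x⟩⟩
  injective_of_mem h := E₁.injective_of_mem h.1
  conj_mem hP hg := ⟨E₁.conj_mem (hP.trans inf_le_left) hg.1, E₂.conj_mem (hP.trans inf_le_right) hg.2⟩
  comp_mem hφ hψ h := ⟨E₁.comp_mem hφ.1 hψ.1 h, E₂.comp_mem hφ.2 hψ.2 h⟩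
  inv_mem := by
    intro P φ hφ
    obtain ⟨ψ, hψ, he⟩ := E₁.inv_mem hφ.1
    obtain ⟨ψ', hψ', he'⟩ := E₂.inv_mem hφ.2
    refine ⟨ψ, ⟨hψ, ?_⟩, he⟩
    have : ψ = ψ' := MonoidHom.ext fun ⟨_, x, rfl⟩ => (he x).trans (he' x).symm
    rw [this]; exact hψ'

/-- The systems containing the generators. -/
def Gens (F : FusionSystem S) (p : ℕ) (E₁ : FusionSystem T₁) (E₂ : FusionSystem T₂)
    (D : FusionSystem (T₁ ⊓ T₂)) : Prop :=
  ∀ V, Self F (T₁ ⊓ T₂) V → ∀ α ∈ com E₁ E₂ V, ¬ p ∣ orderOf α → α ∈ D.autGroup V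

/-- The system generated. -/
def wSys (F : FusionSystem S) (p : ℕ) (E₁ : FusionSystem T₁) (E₂ : FusionSystem T₂) :
    FusionSystem (T₁ ⊓ T₂) where
  Hom P := {φ | φ ∈ (inter E₁ E₂).Hom P ∧ ∀ D, Gens F p E₁ E₂ D → φ ∈ D.Hom P}
  le_of_mem h := (inter E₁ E₂).le_of_mem h.1
  injective_of_mem h := (inter E₁ E₂).injective_of_mem h.1
  conj_mem hP hg := ⟨(inter E₁ E₂).conj_mem hP hg, fun D _ => D.conj_mem hP hg⟩
  comp_mem hφ hψ h := ⟨(inter E₁ E₂).comp_mem hφ.1 hψ.1 h, fun D hD => D.comp_mem (hφ.2 D hD) (hψ.2 D hD) h⟩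
  inv_mem := by
    intro P φ hφ
    obtain ⟨ψ, hψ, he⟩ := (inter E₁ E₂).inv_mem hφ.1
    refine ⟨ψ, ⟨hψ, fun D hD => ?_⟩, he⟩
    obtain ⟨ψ', hψ', he'⟩ := D.inv_mem (hφ.2 D hD)
    have : ψ = ψ' := MonoidHom.ext fun ⟨_, x, rfl⟩ => (he x).trans (he' x).symm
    rw [this]; exact hψ'

theorem wSys_le₁ : (wSys F p E₁ E₂).IsSubsystemOf E₁ := fun _ _ h => h.1.1

theorem wSys_le₂ : (wSys F p E₁ E₂).IsSubsystemOf E₂ := fun _ _ h => h.1.2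

theorem wSys_le {D : FusionSystem (T₁ ⊓ T₂)} (hD : Gens F p E₁ E₂ D) : (wSys F p E₁ E₂).IsSubsystemOf D :=
  fun _ _ h => h.2 D hD

theorem gens_wSys : Gens F p E₁ E₂ (wSys F p E₁ E₂) := by
  intro V hV α hα hord
  obtain ⟨φ, hφ, -, hφe⟩ := E₁.exists_map_of_mem_autGroup (hV.1.trans inf_le_left) hα.1
  obtain ⟨φ', hφ', -, hφ'e⟩ := E₂.exists_map_of_mem_autGroup (hV.1.trans inf_le_right) hα.2
  refine (wSys F p E₁ E₂).mem_autGroup_of_map (φ := φ)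
    ⟨⟨hφ, E₂.mem_of_apply_eq hφ' fun x => (hφe x).trans (hφ'e x).symm⟩, fun D hD => ?_⟩ fun x => (hφe x).symm
  obtain ⟨φ'', hφ'', -, hφ''e⟩ := D.exists_map_of_mem_autGroup hV.1 (hD V hV α hα hord)
  exact D.mem_of_apply_eq hφ'' fun x => (hφe x).trans (hφ''e x).symm

/-- Decomposition into an automorphism of the carrier and a map of the generated system. -/
def Dec (F : FusionSystem S) (p : ℕ) (E₁ : FusionSystem T₁) (E₂ : FusionSystem T₂) {T : Subgroup Ω}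
    (G : FusionSystem T) (P : Subgroup Ω) (f : Ω → Ω) : Prop :=
  ∃ (a w : Ω → Ω) (Q₀ : Subgroup Ω), G.IsIso (T₁ ⊓ T₂) (T₁ ⊓ T₂) a ∧
    (wSys F p E₁ E₂).IsIso P Q₀ w ∧ ∀ x ∈ P, f x = a (w x)

namespace IsPair

variable [Finite S] [Fact p.Prime] (hp : IsPair F p E₁ E₂)
include hp

theorem sub : (wSys F p E₁ E₂).IsSubsystemOf F := fun P _ h => hp.inv₁.1 P h.1.1

theorem comRes_le_wSys (hV : Self F (T₁ ⊓ T₂) V) : comRes p E₁ E₂ V ≤ (wSys F p E₁ E₂).autGroup V := by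
  rw [comRes, Subgroup.map_le_iff_le_comap]
  refine (Subgroup.closure_le _).mpr fun x hx => ?_
  refine gens_wSys V hV x x.2 ?_
  rw [Subgroup.orderOf_coe]
  exact (Nat.Prime.coprime_iff_not_dvd Fact.out).mp (Nat.Coprime.symm hx)

theorem wAut_le_wSys (hV : Self F (T₁ ⊓ T₂) V) : wAut p E₁ E₂ V ≤ (wSys F p E₁ E₂).autGroup V :=
  sup_le (hp.comRes_le_wSys hV) (autInducedBy_le_autGroup hV.1)

/-- The maps whose transports by `a` are again maps of the generated system. -/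
def moved (ha : F.IsIso (T₁ ⊓ T₂) (T₁ ⊓ T₂) a) : FusionSystem (T₁ ⊓ T₂) where
  Hom P := {φ | φ ∈ (inter E₁ E₂).Hom P ∧ ∃ (f : Ω → Ω) (P' Q' : Subgroup Ω),
    (wSys F p E₁ E₂).IsIso P' Q' f ∧ ∀ x : P, a x ∈ P' ∧ f (a x) = a (φ x)}
  le_of_mem h := (inter E₁ E₂).le_of_mem h.1
  injective_of_mem h := (inter E₁ E₂).injective_of_mem h.1
  conj_mem := by
    intro P t hP ht
    refine ⟨(inter E₁ E₂).conj_mem hP ht, fun x => a t * x * (a t)⁻¹, T₁ ⊓ T₂, T₁ ⊓ T₂,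
      isIso_conj_normalizer le_rfl (ha.mem ht) (Subgroup.le_normalizer (ha.mem ht)), fun x => ⟨ha.mem (hP x.2), ?_⟩⟩
    rw [conjHom_apply, ha.apply_conj ht (hP x.2)]
  comp_mem := by
    rintro P Q φ ψ ⟨hφ, f₁, P₁, Q₁, hf₁, h₁⟩ ⟨hψ, f₂, P₂, Q₂, hf₂, h₂⟩ h
    refine ⟨(inter E₁ E₂).comp_mem hφ hψ h, ?_⟩
    obtain ⟨A, -, -, hAm⟩ := ha.restrict ((inter E₁ E₂).source_le hφ)
    have hA : A ≤ P₁ := fun y hy => by
      obtain ⟨x, hx, rfl⟩ := (hAm y).mp hy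
      exact (h₁ ⟨x, hx⟩).1
    obtain ⟨B, hB, -, hBm⟩ := hf₁.restrict hA
    have hB2 : B ≤ P₂ := fun y hy => by
      obtain ⟨z, hz, rfl⟩ := (hBm y).mp hy
      obtain ⟨x, hx, rfl⟩ := (hAm z).mp hz
      rw [(h₁ ⟨x, hx⟩).2]
      exact (h₂ ⟨φ ⟨x, hx⟩, h _⟩).1
    obtain ⟨C, hC, -, -⟩ := hf₂.restrict hB2
    refine ⟨_, _, _, hB.comp hC, fun x => ⟨(hAm _).mpr ⟨x, x.2, rfl⟩, ?_⟩⟩
    show f₂ (f₁ (a x)) = a (ψ ⟨φ x, h x⟩)
    rw [(h₁ x).2]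
    exact (h₂ ⟨φ x, h x⟩).2
  inv_mem := by
    rintro P φ ⟨hφ, f, P', Q', hf, hh⟩
    obtain ⟨ψ, hψ, he⟩ := (inter E₁ E₂).inv_mem hφ
    obtain ⟨f', hf', hl, -⟩ := hf.symm
    refine ⟨ψ, ⟨hψ, f', _, _, hf', ?_⟩, he⟩
    rintro ⟨_, x, rfl⟩
    rw [he x]
    have h1 := hh x
    refine ⟨h1.2 ▸ hf.mem h1.1, ?_⟩
    show f' (a (φ x)) = a x
    rw [← h1.2, hl _ h1.1]

theorem gens_moved (ha : F.IsIso (T₁ ⊓ T₂) (T₁ ⊓ T₂) a) :
    Gens F p E₁ E₂ (moved (p := p) (E₁ := E₁) (E₂ := E₂) ha) := by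
  intro V hV α hα hord
  obtain ⟨V', hV', -, hV'm⟩ := ha.restrict hV.1
  obtain ⟨α', hα', hα'e⟩ := hp.com_transport hV.1 hV' hα
  have hord' : ¬ p ∣ orderOf α' := by
    refine fun hd => hord (hd.trans (orderOf_dvd_of_pow_eq_one ?_))
    have key : ∀ (k : ℕ) (x : V), (((α' ^ k) ⟨a x, hV'.mem x.2⟩ : V') : Ω) = a ((α ^ k) x : V) := by
      intro k
      induction k with
      | zero => intro x; rfl
      | succ k ih =>
        intro x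
        rw [pow_succ, pow_succ, MulAut.mul_apply, MulAut.mul_apply,
          show α' ⟨a x, hV'.mem x.2⟩ = ⟨a (α x : V), hV'.mem (α x).2⟩ from Subtype.ext (hα'e x _), ih]
    refine MulEquiv.ext fun ⟨y, hy⟩ => Subtype.ext ?_
    obtain ⟨x, hx, rfl⟩ := hV'.surj hy
    rw [key (orderOf α) ⟨x, hx⟩, pow_orderOf_eq_one]
    rfl
  obtain ⟨f, hf, hfe⟩ := isIso_of_aut (hV.conj hp.closed hV').1
    (gens_wSys V' (hV.conj hp.closed hV') α' hα' hord')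
  obtain ⟨φ, hφ, -, hφe⟩ := (inter E₁ E₂).exists_map_of_mem_autGroup hV.1
    (show α ∈ (inter E₁ E₂).autGroup V from by
      obtain ⟨φ₁, hφ₁, -, h1⟩ := E₁.exists_map_of_mem_autGroup (hV.1.trans inf_le_left) hα.1
      obtain ⟨φ₂, hφ₂, -, h2⟩ := E₂.exists_map_of_mem_autGroup (hV.1.trans inf_le_right) hα.2
      exact (inter E₁ E₂).mem_autGroup_of_map (φ := φ₁)
        ⟨hφ₁, E₂.mem_of_apply_eq hφ₂ fun x => (h1 x).trans (h2 x).symm⟩ fun x => (h1 x).symm)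
  refine (moved (p := p) (E₁ := E₁) (E₂ := E₂) ha).mem_autGroup_of_map (φ := φ) ⟨hφ, f, V', V', hf, fun x => ⟨hV'.mem x.2, ?_⟩⟩
    fun x => (hφe x).symm
  rw [hφe, ← hfe ⟨a x, hV'.mem x.2⟩, hα'e x _]

/-- Transport of maps by automorphisms of the intersection. -/
theorem transport (ha : F.IsIso (T₁ ⊓ T₂) (T₁ ⊓ T₂) a) (hf : (wSys F p E₁ E₂).IsIso P Q f)
    {P' Q' : Subgroup Ω} (hP' : ∀ y, y ∈ P' ↔ ∃ x ∈ P, a x = y) (hQ' : ∀ y, y ∈ Q' ↔ ∃ x ∈ Q, a x = y) :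
    ∃ f', (wSys F p E₁ E₂).IsIso P' Q' f' ∧ ∀ x ∈ P, f' (a x) = a (f x) := by
  obtain ⟨φ, hφ, -, hφe⟩ := id hf
  obtain ⟨-, f', A, B, hf', hh⟩ := wSys_le (hp.gens_moved ha) P hφ
  have hA : P' ≤ A := fun y hy => by
    obtain ⟨x, hx, rfl⟩ := (hP' y).mp hy
    exact (hh ⟨x, hx⟩).1
  refine ⟨f', hf'.restrict' hA fun y => ?_, fun x hx => by rw [(hh ⟨x, hx⟩).2, hφe]⟩
  rw [hQ']
  constructor
  · rintro ⟨z, hz, rfl⟩
    obtain ⟨x, hx, rfl⟩ := hf.surj hz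
    exact ⟨a x, (hP' _).mpr ⟨x, hx, rfl⟩, by rw [(hh ⟨x, hx⟩).2, hφe]⟩
  · rintro ⟨z, hz, rfl⟩
    obtain ⟨x, hx, rfl⟩ := (hP' z).mp hz
    exact ⟨f x, hf.mem hx, by rw [(hh ⟨x, hx⟩).2, hφe]⟩

theorem invariance {T : Subgroup Ω} {G : FusionSystem T} (hG : G.IsSubsystemOf F) :
    ∀ (P : Subgroup Ω) (hPT : P ≤ T₁ ⊓ T₂) (φ : P →* Ω), φ ∈ (wSys F p E₁ E₂).Hom P →
      ∀ α ∈ G.autGroup (T₁ ⊓ T₂), T₁ ⊓ T₂ ≤ T →
      ∃ χ ∈ (wSys F p E₁ E₂).Hom ((P.subgroupOf (T₁ ⊓ T₂)).map ((T₁ ⊓ T₂).subtype.comp α.toMonoidHom)),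
        ∀ (x : P) (hφx : φ x ∈ T₁ ⊓ T₂)
          (hαx : ((α ⟨x, hPT x.2⟩ : ↥(T₁ ⊓ T₂)) : Ω) ∈
            (P.subgroupOf (T₁ ⊓ T₂)).map ((T₁ ⊓ T₂).subtype.comp α.toMonoidHom)),
          χ ⟨(α ⟨x, hPT x.2⟩ : ↥(T₁ ⊓ T₂)), hαx⟩ = ((α ⟨φ x, hφx⟩ : ↥(T₁ ⊓ T₂)) : Ω) := by
  intro P hPT φ hφ α hα hRT
  obtain ⟨a, ha, hae⟩ := isIso_of_aut hp.closed.1 (hG.isIso_autGroup hRT hα)
  have hf := isIso_funOf hφ
  obtain ⟨Q', -, -, hQ'⟩ := ha.restrict ((wSys F p E₁ E₂).range_le hφ)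
  obtain ⟨f', hf', hf'e⟩ := hp.transport ha hf
    (P' := (P.subgroupOf (T₁ ⊓ T₂)).map ((T₁ ⊓ T₂).subtype.comp α.toMonoidHom)) (fun y => by
      constructor
      · rintro ⟨x, hx, rfl⟩
        exact ⟨x, hx, (hae x).symm⟩
      · rintro ⟨x, hx, rfl⟩
        exact ⟨⟨x, hPT hx⟩, hx, hae _⟩) hQ'
  obtain ⟨χ, hχ, -, hχe⟩ := hf'
  refine ⟨χ, hχ, fun x hφx hαx => ?_⟩
  rw [hχe]
  show f' ((α ⟨x, hPT x.2⟩ : ↥(T₁ ⊓ T₂)) : Ω) = _
  rw [hae, hf'e x x.2, hae]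
  exact congrArg a (funOf_apply φ x).symm

/-! ### The Frattini decomposition -/

section Frattini

variable {T : Subgroup Ω} {G : FusionSystem T}

theorem dec_of_aut (hRT : T₁ ⊓ T₂ ≤ T) (hf : G.IsIso (T₁ ⊓ T₂) Q f) (hG : G.IsWeaklyNormalIn F p) :
    Dec F p E₁ E₂ G (T₁ ⊓ T₂) f := by
  have : F.IsIso (T₁ ⊓ T₂) Q f := hf.mono hG.2.2.1
  have hQ : Q = T₁ ⊓ T₂ := this.eq_of_le hp.closed.1 (hp.closed.iso_le this le_rfl) le_rfl
  exact ⟨f, fun x => x, _, hQ ▸ hf, IsIso.refl _ le_rfl, fun _ _ => rfl⟩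

theorem dec_restrict (hd : Dec F p E₁ E₂ G V f) (hPV : P ≤ V) : Dec F p E₁ E₂ G P f := by
  obtain ⟨a, w, Q₀, ha, hw, he⟩ := hd
  obtain ⟨Q₁, hQ₁, -, -⟩ := hw.restrict hPV
  exact ⟨a, w, Q₁, ha, hQ₁, fun x hx => he x (hPV hx)⟩

theorem dec_congr (hd : Dec F p E₁ E₂ G P f) (he : ∀ x ∈ P, g x = f x) : Dec F p E₁ E₂ G P g := by
  obtain ⟨a, w, Q₀, ha, hw, hw'⟩ := hd
  exact ⟨a, w, Q₀, ha, hw, fun x hx => (he x hx).trans (hw' x hx)⟩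

theorem dec_comp (hG : G.IsSubsystemOf F) (hf : G.IsIso P Q f) (hd : Dec F p E₁ E₂ G P f)
    (hd' : Dec F p E₁ E₂ G Q g) : Dec F p E₁ E₂ G P (fun x => g (f x)) := by
  obtain ⟨a, w, Q₀, ha, hw, he⟩ := hd
  obtain ⟨b, v, R₀, hb, hv, hve⟩ := hd'
  obtain ⟨a', ha', hl, hr⟩ := ha.symm
  have hQ₀ : Q₀ ≤ T₁ ⊓ T₂ := hw.le_right
  have himg : ∀ y, y ∈ Q₀ ↔ ∃ x ∈ Q, a' x = y := by
    intro y
    constructor
    · intro hy
      obtain ⟨x, hx, rfl⟩ := hw.surj hy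
      exact ⟨f x, hf.mem hx, by rw [he x hx, hl _ (hQ₀ (hw.mem hx))]⟩
    · rintro ⟨z, hz, rfl⟩
      obtain ⟨x, hx, rfl⟩ := hf.surj hz
      rw [he x hx, hl _ (hQ₀ (hw.mem hx))]
      exact hw.mem hx
  obtain ⟨R₁, -, -, hR₁⟩ := ha'.restrict hv.le_right
  obtain ⟨v', hv', hv'e⟩ := hp.transport (ha'.mono hG) hv himg hR₁
  refine ⟨fun x => b (a x), fun x => v' (w x), R₁, ha.comp hb, hw.comp hv', fun x hx => ?_⟩
  have h1 : v' (w x) = a' (v (f x)) := by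
    rw [← hv'e _ (hf.mem hx), he x hx, hl _ (hQ₀ (hw.mem hx))]
  show g (f x) = b (a (v' (w x)))
  rw [h1, hr _ (hv.le_right (hv.mem (hf.mem hx))), hve _ (hf.mem hx)]

theorem dec_symm (hG : G.IsSubsystemOf F) (hf : G.IsIso P Q f) (hd : Dec F p E₁ E₂ G P f)
    (hgl : ∀ x ∈ P, g (f x) = x) : Dec F p E₁ E₂ G Q g := by
  obtain ⟨a, w, Q₀, ha, hw, he⟩ := hd
  obtain ⟨a', ha', hl, -⟩ := ha.symm
  obtain ⟨w', hw', hwl, -⟩ := hw.symm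
  have hQ₀ : Q₀ ≤ T₁ ⊓ T₂ := hw.le_right
  have himgQ : ∀ y, y ∈ Q ↔ ∃ x ∈ Q₀, a x = y := by
    intro y
    constructor
    · intro hy
      obtain ⟨x, hx, rfl⟩ := hf.surj hy
      exact ⟨w x, hw.mem hx, (he x hx).symm⟩
    · rintro ⟨z, hz, rfl⟩
      obtain ⟨x, hx, rfl⟩ := hw.surj hz
      rw [← he x hx]
      exact hf.mem hx
  obtain ⟨P₁, -, -, hP₁⟩ := ha.restrict hw.le_left
  obtain ⟨v, hv, hve⟩ := hp.transport (ha.mono hG) hw' himgQ hP₁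
  refine ⟨a', v, P₁, ha', hv, fun y hy => ?_⟩
  obtain ⟨x, hx, rfl⟩ := hf.surj hy
  rw [hgl x hx, he x hx, hve _ (hw.mem hx), hwl x hx, hl x (hw.le_left hx)]

theorem self_of_cent (hG : G.IsWeaklyNormalIn F p) (hRT : T₁ ⊓ T₂ ≤ T) (hU : U ≤ T₁ ⊓ T₂)
    (hn : G.IsFullyNormalized U) (hC : centralizerIn (T₁ ⊓ T₂) U ≤ U) : Self F (T₁ ⊓ T₂) U := by
  obtain ⟨hGs, hF, hGi⟩ := id hG
  have hT := hGi.2.1
  haveI := finite_of_le hT.1
  refine ⟨hU, fun Q hQ c hc => ?_⟩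
  obtain ⟨φ, hφ, hr⟩ := hQ
  have hiso : F.IsIso U Q (funOf φ) := hr ▸ isIso_funOf hφ
  obtain ⟨a, Q₀, e, ha, he, -, hQm⟩ := hGi.frattini_iso hiso (hU.trans hRT)
  obtain ⟨ai, hai, hl, hrt⟩ := ha.symm
  obtain ⟨χ, hχ, hχr, ψ, hψ, hψN, hψe⟩ := hGs.exists_map_to_fullyNormalized (hp.pgroup.to_le hT.1) hn he.isConj.symm
  have hQ₀T : Q₀ ≤ T := he.le_right
  set d := ai c with hd
  have hdT : d ∈ T₁ ⊓ T₂ := hp.closed.iso_mem hai (hRT hc.1) hc.1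
  have hcd : a d = c := hrt c (hRT hc.1)
  have hdC : d ∈ Subgroup.centralizer (Q₀ : Set Ω) := Subgroup.mem_centralizer_iff.mpr fun y hy => by
    refine ha.inj (T.mul_mem (hQ₀T hy) (hRT hdT)) (T.mul_mem (hRT hdT) (hQ₀T hy)) ?_
    rw [ha.apply_mul (hQ₀T hy) (hRT hdT), ha.apply_mul (hRT hdT) (hQ₀T hy), hcd]
    exact Subgroup.mem_centralizer_iff.mp hc.2 (a y) ((hQm _).mpr ⟨y, hy, rfl⟩)
  have hdN : d ∈ normalizerIn T Q₀ := ⟨hRT hdT, Subgroup.centralizer_le_normalizer _ hdC⟩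
  have hψiso := (isIso_funOf hψ).mono hGi.1
  have hψimg : ∀ y, y ∈ U ↔ ∃ x ∈ Q₀, funOf ψ x = y := fun y => by
    constructor
    · intro hy
      obtain ⟨x, hx⟩ := hχr.ge hy
      exact ⟨x, x.2, by rw [← funOf_apply ψ ⟨x, le_normalizerIn hQ₀T x.2⟩, hψe x _, hx]⟩
    · rintro ⟨x, hx, rfl⟩
      rw [← funOf_apply ψ ⟨x, le_normalizerIn hQ₀T hx⟩, hψe ⟨x, hx⟩ _]
      exact hχr.le ⟨_, rfl⟩
  obtain ⟨x, hx, hxe⟩ := (hψimg _).mp (hC ⟨hp.closed.iso_mem hψiso hdN hdT,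
    hψiso.mem_centralizer (le_normalizerIn hQ₀T) hψimg hdN hdC⟩)
  have : x = d := hψiso.inj (le_normalizerIn hQ₀T hx) hdN hxe
  exact (hQm c).mpr ⟨d, this ▸ hx, hcd⟩

set_option maxHeartbeats 1600000 in
theorem dec_aut_step (hG : G.IsWeaklyNormalIn F p) (hRT : T₁ ⊓ T₂ ≤ T)
    (hcom : ∀ V, V ≤ T₁ ⊓ T₂ → com E₁ E₂ V ≤ G.autGroup V) (hU : U ≤ T₁ ⊓ T₂) (hne : U ≠ T₁ ⊓ T₂)
    (hn : G.IsFullyNormalized U)
    (hbig : ∀ (V V' : Subgroup Ω) (f : Ω → Ω), Nat.card U < Nat.card V → V ≤ T₁ ⊓ T₂ → G.IsIso V V' f →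
      Dec F p E₁ E₂ G V f) (hf : G.IsIso U U f) : Dec F p E₁ E₂ G U f := by
  classical
  obtain ⟨hGs, hF, hGi⟩ := id hG
  have hT := hGi.2.1
  haveI := finite_of_le hT.1
  haveI := finite_of_le hp.closed.1
  have hUT : U ≤ T := hn.1
  have hTp : IsPGroup p T := hp.pgroup.to_le hT.1
  have hrec := hGs.isReceptive_of_isFullyNormalized hTp hn
  haveI := finite_mulAut_of_le (hp.le_S hU)
  -- extending to a larger subgroup of `R`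
  have up : ∀ (M : Subgroup Ω), U < M → M ≤ T₁ ⊓ T₂ → M ≤ Subgroup.normalizer (U : Set Ω) →
      ∀ n ∈ G.autGroup U, (∀ v ∈ M, ∀ hv : v ∈ Subgroup.normalizer (U : Set Ω),
        n * U.normalizerMonoidHom ⟨v, hv⟩ * n⁻¹ ∈ autInducedBy T U) →
      ∀ k : Ω → Ω, (∀ x : U, k x = (n x : U)) → Dec F p E₁ E₂ G U k := by
    intro M hUM hMR hMN n hnG hcond k hk
    obtain ⟨ψ, hψ, hψe⟩ := exists_extension_of_normalizes hrec hnG
      (M := M) (fun v hv => ⟨hRT (hMR hv), hMN hv⟩) hcond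
    have hle : U ⊔ M ≤ T₁ ⊓ T₂ := sup_le hU hMR
    haveI := finite_of_le (hle.trans hp.closed.1)
    have hcard : Nat.card U < Nat.card ↥(U ⊔ M) := card_lt_of_lt (lt_of_lt_of_le hUM le_sup_right)
    refine hp.dec_congr (hp.dec_restrict (hbig _ _ _ hcard hle (isIso_funOf hψ)) le_sup_left) fun x hx => ?_
    exact (hk ⟨x, hx⟩).trans ((hψe ⟨x, hx⟩).symm.trans (funOf_apply ψ ⟨x, Subgroup.mem_sup_left hx⟩))
  obtain ⟨α, hα, hαe⟩ := hf.toAut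
  by_cases hC : centralizerIn (T₁ ⊓ T₂) U ≤ U
  swap
  · refine up (U ⊔ centralizerIn (T₁ ⊓ T₂) U) (lt_of_le_of_ne le_sup_left fun h => hC (sup_eq_left.mp h.symm))
      (sup_le hU centralizerIn_le) (sup_le Subgroup.le_normalizer fun c hc =>
        Subgroup.centralizer_le_normalizer _ hc.2) α hα (fun v hv hvn => ?_) f fun x => (hαe x).symm
    have hv' : v ∈ ((U ⊔ centralizerIn (T₁ ⊓ T₂) U : Subgroup Ω) : Set Ω) := hv
    rw [Subgroup.coe_mul_of_right_le_normalizer_left U _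
      (show centralizerIn (T₁ ⊓ T₂) U ≤ Subgroup.normalizer (U : Set Ω) from fun c hc => Subgroup.centralizer_le_normalizer _ hc.2)] at hv'
    obtain ⟨u, hu, c, hc, rfl⟩ := hv'
    refine mem_autInducedBy_iff.mpr ⟨(α ⟨u, hu⟩ : U), hUT (SetLike.coe_mem _),
      Subgroup.le_normalizer (SetLike.coe_mem _), fun x => ?_⟩
    have e : U.normalizerMonoidHom ⟨u * c, hvn⟩ (α⁻¹ x) = ⟨u, hu⟩ * α⁻¹ x * ⟨u, hu⟩⁻¹ := Subtype.ext (by
      show u * c * ((α⁻¹ x : U) : Ω) * (u * c)⁻¹ = u * ((α⁻¹ x : U) : Ω) * u⁻¹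
      rw [mul_inv_rev, show u * c * ((α⁻¹ x : U) : Ω) = u * (c * ((α⁻¹ x : U) : Ω)) by group,
        ← Subgroup.mem_centralizer_iff.mp hc.2 _ (α⁻¹ x).2]
      group)
    rw [MulAut.mul_apply, MulAut.mul_apply, e, map_mul, map_mul, map_inv, MulAut.apply_inv_self]
    rfl
  have hself := hp.self_of_cent hG hRT hU hn hC
  -- the subgroup of decomposable automorphisms
  let K : Subgroup (MulAut U) :=
    { carrier := {β | β ∈ G.autGroup U ∧ ∀ k : Ω → Ω, (∀ x : U, k x = (β x : U)) → Dec F p E₁ E₂ G U k}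
      one_mem' := ⟨(G.autGroup U).one_mem, fun k hk => ⟨fun x => x, fun x => x, U, IsIso.refl G hRT,
        IsIso.refl _ hU, fun x hx => hk ⟨x, hx⟩⟩⟩
      mul_mem' := by
        rintro β γ ⟨hβ, hβd⟩ ⟨hγ, hγd⟩
        refine ⟨(G.autGroup U).mul_mem hβ hγ, fun k hk => ?_⟩
        obtain ⟨b, hb, hbe⟩ := isIso_of_aut hUT hβ
        obtain ⟨c, hc, hce⟩ := isIso_of_aut hUT hγ
        refine hp.dec_congr (hp.dec_comp hGi.1 hc (hγd c fun x => (hce x).symm) (hβd b fun x => (hbe x).symm))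
          fun x hx => ?_
        rw [hk ⟨x, hx⟩, MulAut.mul_apply, hbe, hce]
      inv_mem' := by
        rintro β ⟨hβ, hβd⟩
        refine ⟨(G.autGroup U).inv_mem hβ, fun k hk => ?_⟩
        obtain ⟨b, hb, hbe⟩ := isIso_of_aut hUT hβ
        refine hp.dec_symm hGi.1 hb (hβd b fun x => (hbe x).symm) fun x hx => ?_
        rw [hk ⟨b x, hb.mem hx⟩, show (⟨b x, hb.mem hx⟩ : U) = β ⟨x, hx⟩ from Subtype.ext (hbe ⟨x, hx⟩).symm,
          MulAut.inv_apply_self] }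
  suffices hK : G.autGroup U ≤ K from (hK hα).2 f fun x => (hαe x).symm
  set A := G.autGroup U with hA
  obtain ⟨-, P, hP⟩ := hGs.isFullyAutomized_of_isFullyNormalized hTp hn
  let C := (com E₁ E₂ U).subgroupOf A
  haveI : C.Normal := ⟨fun x hx y => hp.com_conj hU (hGi.1.isIso_autGroup hUT y.2) hx⟩
  let Q₀ := CfsgLib.sylowInfNormal P C
  have hind : ∀ c : C, c ∈ (Q₀ : Subgroup C) → ((c : A) : MulAut U) ∈ K := by
    intro c hc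
    obtain ⟨t, ht, htn, hte⟩ := mem_autInducedBy_iff.mp
      (hP.le hc : ((c : A) : MulAut U) ∈ autInducedBy T U)
    refine ⟨(c : A).2, fun k hk => ⟨fun x => t * x * t⁻¹, fun x => x, U,
      isIso_conj_normalizer hRT ht (hp.closed.le_normalizer (hT.1 ht)), IsIso.refl _ hU,
      fun x hx => (hk ⟨x, hx⟩).trans (hte _)⟩⟩
  have hCK : C ≤ K.subgroupOf A := by
    refine Subgroup.subgroupOf_eq_top.mp (Cfsg.FusionSystem.SubCent.eq_top_of_sylow_of_pprime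
      ((K.subgroupOf A).subgroupOf C) Q₀ hind fun c hc => ?_)
    obtain ⟨w, hw, hwe⟩ := isIso_of_aut hU (gens_wSys U hself ((c : A) : MulAut U) c.2
      (by rw [Subgroup.orderOf_coe, Subgroup.orderOf_coe]; exact hc))
    exact ⟨(c : A).2, fun k hk => ⟨fun x => x, w, U, IsIso.refl G hRT, hw,
      fun x hx => (hk ⟨x, hx⟩).trans (hwe _)⟩⟩
  have htop : Subgroup.normalizer (((Q₀ : Subgroup C).map C.subtype : Subgroup A) : Set A) ⊔ C = ⊤ :=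
    Q₀.normalizer_sup_eq_top
  intro β hβ
  have hmem : (⟨β, hβ⟩ : A) ∈ (K.subgroupOf A) := by
    refine (htop.ge.trans (sup_le ?_ hCK)) (Subgroup.mem_top _)
    intro n hnn
    haveI := finite_of_le (normalizerIn_le : normalizerIn (T₁ ⊓ T₂) U ≤ T₁ ⊓ T₂)
    have hlt : U < normalizerIn (T₁ ⊓ T₂) U :=
      lt_normalizerIn (hp.pgroup.to_le hp.closed.1) (lt_of_le_of_ne hU hne)
    refine ⟨n.2, fun k hk => up _ hlt normalizerIn_le (fun v hv => hv.2) n n.2 (fun v hv hvn => ?_) k hk⟩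
    have hc : U.normalizerMonoidHom ⟨v, hvn⟩ ∈ com E₁ E₂ U :=
      hp.induced_le_com hU (mem_autInducedBy_iff.mpr ⟨v, hv.1, hvn, fun _ => rfl⟩)
    let c : C := ⟨⟨_, hcom U hU hc⟩, hc⟩
    have hcQ : c ∈ (Q₀ : Subgroup C) := hP.ge (mem_autInducedBy_iff.mpr ⟨v, hRT hv.1, hvn, fun _ => rfl⟩ :
      U.normalizerMonoidHom ⟨v, hvn⟩ ∈ autInducedBy T U)
    obtain ⟨c', hc', hc'e⟩ := (Subgroup.mem_normalizer_iff.mp hnn (c : A)).mp ⟨c, hcQ, rfl⟩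
    have h2 : ((c' : A) : MulAut U) ∈ autInducedBy T U := hP.le hc'
    rwa [show ((c' : A) : MulAut U) = (n : MulAut U) * U.normalizerMonoidHom ⟨v, hvn⟩ * (n : MulAut U)⁻¹ from
      congrArg Subtype.val hc'e] at h2
  exact hmem

set_option maxHeartbeats 800000 in
/-- Every map of `G` between subgroups of the intersection decomposes. -/
theorem dec (hG : G.IsWeaklyNormalIn F p) (hRT : T₁ ⊓ T₂ ≤ T)
    (hcom : ∀ V, V ≤ T₁ ⊓ T₂ → com E₁ E₂ V ≤ G.autGroup V) :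
    ∀ (P Q : Subgroup Ω) (f : Ω → Ω), P ≤ T₁ ⊓ T₂ → G.IsIso P Q f → Dec F p E₁ E₂ G P f := by
  obtain ⟨hGs, hF, hGi⟩ := id hG
  have hT := hGi.2.1
  haveI := finite_of_le hT.1
  haveI := finite_of_le hp.closed.1
  have hTp : IsPGroup p T := hp.pgroup.to_le hT.1
  intro P
  induction hd : Nat.card ↥(T₁ ⊓ T₂) - Nat.card P using Nat.strong_induction_on generalizing P with
  | _ d ih =>
  intro Q f hPR hf
  by_cases hPne : P = T₁ ⊓ T₂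
  · subst hPne
    exact hp.dec_of_aut hRT hf hG
  have hbig : ∀ (V V' : Subgroup Ω) (k : Ω → Ω), Nat.card P < Nat.card V → V ≤ T₁ ⊓ T₂ → G.IsIso V V' k →
      Dec F p E₁ E₂ G V k := fun V V' k hV hVR hk => by
    have : Nat.card V ≤ Nat.card ↥(T₁ ⊓ T₂) := Subgroup.card_le_of_le hVR
    exact ih _ (by omega) V rfl V' k hVR hk
  obtain ⟨U, hPU, hUn⟩ := G.exists_isFullyNormalized hf.le_left
  have hcardU : Nat.card P = Nat.card U := hPU.card_eq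
  have hltcard : Nat.card P < Nat.card ↥(T₁ ⊓ T₂) := card_lt_of_lt (lt_of_le_of_ne hPR hPne)
  -- moving a conjugate to `U`
  have move : ∀ X, X ≤ T₁ ⊓ T₂ → G.IsConj X U → ∃ h, G.IsIso X U h ∧ Dec F p E₁ E₂ G X h := by
    intro X hXR hXU
    have hXne : X ≠ T₁ ⊓ T₂ := fun e => by
      have h1 := hXU.card_eq
      rw [e] at h1
      omega
    obtain ⟨χ, hχ, hχr, ψ, hψ, hψN, hψe⟩ := hGs.exists_map_to_fullyNormalized hTp hUn hXU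
    have hXT : X ≤ T := hXR.trans hRT
    have hiso := isIso_funOf hψ
    haveI := finite_of_le (normalizerIn_le : normalizerIn (T₁ ⊓ T₂) X ≤ T₁ ⊓ T₂)
    obtain ⟨M', hM', -, -⟩ := hiso.restrict (show normalizerIn (T₁ ⊓ T₂) X ≤ normalizerIn T X from
      fun v hv => ⟨hRT hv.1, hv.2⟩)
    have hlt : X < normalizerIn (T₁ ⊓ T₂) X := lt_normalizerIn (hp.pgroup.to_le hp.closed.1) (lt_of_le_of_ne hXR hXne)
    refine ⟨funOf ψ, ⟨χ, hχ, hχr, fun x => ?_⟩, hp.dec_restrict (hbig _ _ _ ?_ normalizerIn_le hM') (le_normalizerIn hXR)⟩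
    · rw [← hψe x (le_normalizerIn hXT x.2)]
      exact funOf_apply ψ _
    · have := card_lt_of_lt hlt
      have := hXU.card_eq
      omega
  obtain ⟨h₁, hh₁, hd₁⟩ := move P hPR hPU
  have hQR : Q ≤ T₁ ⊓ T₂ := hp.closed.iso_le (hf.mono hGi.1) hPR
  obtain ⟨h₂, hh₂, hd₂⟩ := move Q hQR (hf.isConj.symm.trans hPU)
  obtain ⟨g₁, hg₁, hl₁, hr₁⟩ := hh₁.symm
  obtain ⟨g₂, hg₂, hl₂, hr₂⟩ := hh₂.symm
  have hUR : U ≤ T₁ ⊓ T₂ := hp.closed.iso_le (hh₁.mono hGi.1) hPR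
  have hUne : U ≠ T₁ ⊓ T₂ := fun e => by rw [e] at hcardU; omega
  have hu : G.IsIso U U (fun x => h₂ (f (g₁ x))) := (hg₁.comp hf).comp hh₂
  have hdu := hp.dec_aut_step hG hRT hcom hUR hUne hUn (fun V V' k hV => hbig V V' k (hcardU ▸ hV)) hu
  have h0 := hp.dec_comp hGi.1 hh₁ hd₁ hdu
  have h3 := hp.dec_comp hGi.1 (hh₁.comp hu) h0 (hp.dec_symm hGi.1 hh₂ hd₂ hl₂)
  refine hp.dec_congr h3 fun x hx => ?_
  show f x = g₂ (h₂ (f (g₁ (h₁ x))))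
  rw [hl₁ x hx, hl₂ _ (hf.mem hx)]

end Frattini

end IsPair

end Cfsg.FusionSystem.Wedge
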